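import Mathlib
import Cfsg.Prelude.Def_HallClasses
import Cfsg.Agent.PLocal.AmbSyl
import Cfsg.Agent.Grp.Card
import Cfsg.Agent.Grp.CardProduct
import Cfsg.Agent.Char.Elementary

/-!
Control of fusion by a Hall `π`-subgroup in a `π`-homogeneous group in which every `π`-subgroup
is conjugate into the Hall subgroup; minimal supplements.
-/

set_option autoImplicit false

namespace Cfsg.Agent.FGS

open Cfsg.Agent.PLocal.Amb

variable {G : Type*} [Group G]

theorem IsPiSubgroup.of_le {π : Set ℕ} {H K : Subgroup G} (h : IsPiSubgroup π K) (hle : H ≤ K) :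
    IsPiSubgroup π H := fun p hp hd => h p hp (hd.trans (Subgroup.card_dvd_of_le hle))

theorem isPiSubgroup_of_isPGroup [Finite G] {π : Set ℕ} {p : ℕ} [hp : Fact p.Prime] (hpπ : p ∈ π)
    {Q : Subgroup G} (hQ : IsPGroup p Q) : IsPiSubgroup π Q := by
  intro q hq hd
  obtain ⟨k, hk⟩ := hQ.exists_card_eq
  rw [hk] at hd
  rwa [(Nat.prime_dvd_prime_iff_eq hq hp.out).1 (hq.dvd_of_dvd_pow hd)]

theorem isPiSubgroup_sup {π : Set ℕ} {A B : Subgroup G} (hA : IsPiSubgroup π A)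
    (hB : IsPiSubgroup π B) (h : A ≤ 𝐍[B]) : IsPiSubgroup π (A ⊔ B) := by
  intro q hq hd
  rcases (Nat.Prime.dvd_mul hq).1 (hd.trans (Grp.card_sup_dvd_of_le_normalizer h)) with h | h
  · exact hA q hq h
  · exact hB q hq h

theorem isPiSubgroup_cj {π : Set ℕ} {A : Subgroup G} (hA : IsPiSubgroup π A) (g : G) :
    IsPiSubgroup π cj(g, A) := by
  intro q hq hd
  rw [card_cj] at hd
  exact hA q hq hd

/-- Schur–Zassenhaus in ambient form. -/
theorem exists_complement_ambient [Finite G] {R M : Subgroup G} (hRM : R ≤ M) (hn : M ≤ 𝐍[R])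
    (hc : (Nat.card R).Coprime (R.relIndex M)) :
    ∃ K : Subgroup G, K ≤ M ∧ R ⊔ K = M ∧ R ⊓ K = ⊥ ∧ K.relIndex M = Nat.card R ∧
      Nat.card K = R.relIndex M := by
  have := normal_subgroupOf' hn
  obtain ⟨K, hK⟩ := Subgroup.exists_right_complement'_of_coprime (N := R.subgroupOf M)
    (by rw [Grp.card_subgroupOf_of_le hRM]; exact hc)
  refine ⟨K.map M.subtype, Subgroup.map_subtype_le _, ?_, ?_, ?_, ?_⟩
  · have := congrArg (Subgroup.map M.subtype) hK.sup_eq_top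
    rwa [Subgroup.map_sup, map_subgroupOf_of_le hRM, ← MonoidHom.range_eq_map,
      Subgroup.range_subtype] at this
  · have := congrArg (Subgroup.map M.subtype) hK.disjoint.eq_bot
    rwa [Subgroup.map_inf _ _ _ M.subtype_injective, map_subgroupOf_of_le hRM,
      Subgroup.map_bot] at this
  · rw [Subgroup.relIndex, map_subtype_subgroupOf, hK.index_eq_card, Grp.card_subgroupOf_of_le hRM]
  · rw [Subgroup.card_map_of_injective M.subtype_injective, ← hK.symm.index_eq_card]; rfl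

/-- Minimal supplements: if all `q`-elements of `N` for primes `q ∉ π` lie in the normal subgroup
`C` of `N`, then `C` has a supplement in `N` which is a `π`-group, and it may be chosen to
contain a given normal `π`-subgroup `Q` of `N` centralized by `C`. -/
theorem exists_pi_supplement [Finite G] (π : Set ℕ) {N C Q : Subgroup G} (hCN : C ≤ N)
    (hNC : N ≤ 𝐍[C]) (hQN : Q ≤ N) (hNQ : N ≤ 𝐍[Q]) (hCQ : C ≤ 𝐂[Q]) (hQ : IsPiSubgroup π Q)
    (hq : ∀ q : ℕ, q.Prime → q ∉ π → ∀ y ∈ N, (∃ k, y ^ q ^ k = 1) → y ∈ C) :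
    ∃ M : Subgroup G, IsPiSubgroup π M ∧ Q ≤ M ∧ M ≤ N ∧ M ⊔ C = N := by
  obtain ⟨M, ⟨hQM, hMN, hMC⟩, hmin⟩ := (wellFounded_lt (α := Subgroup G)).has_min
    {M : Subgroup G | Q ≤ M ∧ M ≤ N ∧ M ⊔ C = N} ⟨N, hQN, le_rfl, sup_eq_left.2 hCN⟩
  refine ⟨M, ?_, hQM, hMN, hMC⟩
  intro q hqp hqd
  by_contra hqπ
  have := Fact.mk hqp
  obtain ⟨R, hR⟩ := exists_isSyl q M
  have hRC : R ≤ C := fun y hy => hq q hqp hqπ y (hMN (hR.le hy)) (isPGroup_iff.1 hR.pgrp y hy)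
  have hR' : IsSyl q R (M ⊓ C) := hR.mono (le_inf hR.le hRC) inf_le_left
  have hF := hR'.frattini_sup (L := M) inf_le_left
    (le_normalizer_inf Subgroup.le_normalizer (hMN.trans hNC))
  have hQR : Q ≤ 𝐍[R] :=
    (Subgroup.le_centralizer_iff.1 (hRC.trans hCQ)).trans (centralizer_le_normalizer' R)
  have hMR : M ≤ 𝐍[R] := by
    by_contra hcon
    refine hmin (M ⊓ 𝐍[R]) ⟨le_inf hQM hQR, inf_le_left.trans hMN, ?_⟩
      (lt_of_le_of_ne inf_le_left (fun h => hcon (h ▸ inf_le_right)))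
    apply le_antisymm (sup_le (inf_le_left.trans hMN) hCN)
    rw [← hMC]
    refine sup_le ?_ le_sup_right
    conv_lhs => rw [← hF]
    exact sup_le (inf_le_right.trans le_sup_right) le_sup_left
  obtain ⟨k, hk⟩ := hR.pgrp.exists_card_eq
  obtain ⟨K, hKM, hRK, hRK', hKi, -⟩ := exists_complement_ambient hR.le hMR (by
    rw [hk]
    exact Nat.Coprime.pow_left _ ((Nat.Prime.coprime_iff_not_dvd hqp).2 hR.not_dvd_relIndex))
  have hQK : Q ≤ K := by
    have := normal_subgroupOf' (hMN.trans hNQ)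
    have h1 : Q.subgroupOf M ≤ K.subgroupOf M := by
      apply Grp.le_of_coprime_card_index
      change (Nat.card (Q.subgroupOf M)).Coprime (K.relIndex M)
      rw [Grp.card_subgroupOf_of_le hQM, hKi, hk]
      refine Nat.Coprime.pow_right _ ((Nat.Prime.coprime_iff_not_dvd hqp).2 ?_).symm
      exact fun h => hqπ (hQ q hqp h)
    intro x hx
    exact h1 (show (⟨x, hQM hx⟩ : M) ∈ Q.subgroupOf M from hx)
  have hKeq : K = M := by
    by_contra hcon
    refine hmin K ⟨hQK, hKM.trans hMN, ?_⟩ (lt_of_le_of_ne hKM hcon)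
    apply le_antisymm (sup_le (hKM.trans hMN) hCN)
    rw [← hMC, ← hRK]
    exact sup_le (sup_le (hRC.trans le_sup_right) le_sup_left) le_sup_right
  have hRb : R = ⊥ := by rw [← hRK', hKeq]; exact (inf_eq_left.2 hR.le).symm
  exact (hR.eq_bot_iff.1 hRb) hqd

/-- `relIndex` of `M` in `M C` when `M` normalizes `C`. -/
theorem relIndex_sup_of_le_normalizer [Finite G] {M C : Subgroup G} (h : M ≤ 𝐍[C]) :
    M.relIndex (M ⊔ C) = M.relIndex C := by
  have h1 := Grp.card_mul_card_eq_of_le_normalizer h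
  have h2 := Grp.card_mul_relIndex (le_sup_left : M ≤ M ⊔ C)
  have h3 := Grp.card_inf_mul_relIndex' M C
  have p1 : 0 < Nat.card M := Nat.card_pos
  have p2 : 0 < Nat.card (M ⊓ C : Subgroup G) := Nat.card_pos
  apply Nat.eq_of_mul_eq_mul_left (Nat.mul_pos p1 p2)
  calc Nat.card M * Nat.card (M ⊓ C : Subgroup G) * M.relIndex (M ⊔ C)
      = Nat.card (M ⊓ C : Subgroup G) * (Nat.card M * M.relIndex (M ⊔ C)) := by ring
    _ = Nat.card M * Nat.card C := by rw [h2, h1]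
    _ = _ := by rw [← h3]; ring

section fusion

variable [Finite G] {π : Set ℕ}
  (hW : ∀ Q : Subgroup G, IsPiSubgroup π Q → ∀ q : ℕ, q.Prime → q ∉ π →
    ∀ y ∈ 𝐍[Q], (∃ k, y ^ q ^ k = 1) → y ∈ 𝐂[Q])
include hW

theorem pi_fusion_pGroup {L H : Subgroup G}
    (hD : ∀ K : Subgroup G, IsPiSubgroup π K → K ≤ L → ∃ g ∈ L, K ≤ cj(g, H))
    {p : ℕ} [hp : Fact p.Prime] (hpπ : p ∈ π) (Q : Subgroup G) (hQ : IsPGroup p Q) (hQL : Q ≤ L)
    (x : G) (hx : x ∈ L) (y : G) (hy : y ∈ L) (hQx : Q ≤ cj(x, H)) (hQy : Q ≤ cj(y, H)) :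
    ∃ c ∈ L ⊓ 𝐂[Q], ∃ h ∈ L ⊓ H, y = c * x * h := by
  induction Q using (wellFounded_gt (α := Subgroup G)).induction generalizing x y with
  | _ Q ih =>
  set N := L ⊓ 𝐍[Q] with hN
  set C := L ⊓ 𝐂[Q] with hC
  have hCN : C ≤ N := inf_le_inf_left _ (centralizer_le_normalizer' Q)
  have hQN : Q ≤ N := le_inf hQL Subgroup.le_normalizer
  have hNC : N ≤ 𝐍[C] := le_normalizer_inf (inf_le_left.trans Subgroup.le_normalizer)
    (le_normalizer_centralizer inf_le_right)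
  -- a good point
  have hgood : ∃ z ∈ L, (∀ n ∈ N, ∃ c ∈ C, ∃ h ∈ L ⊓ H, n * z = c * z * h) ∧
      ∃ S, IsSyl p S N ∧ S ≤ cj(z, H) := by
    obtain ⟨S, hS, hQS⟩ := exists_isSyl_ge hQ hQN
    have hSC : IsSyl p (S ⊓ C) C := hS.inf_of_le hCN hNC
    by_cases hA : S ⊓ C ≤ Q
    · obtain ⟨M, hM, hQM, hMN, hMC⟩ := exists_pi_supplement π hCN hNC hQN inf_le_right
        inf_le_right (isPiSubgroup_of_isPGroup hpπ hQ) (fun q hq hqπ y hy hyq =>
          ⟨hy.1, hW Q (isPiSubgroup_of_isPGroup hpπ hQ) q hq hqπ y hy.2 hyq⟩)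
      obtain ⟨z, hz, hMz⟩ := hD M hM (hMN.trans inf_le_left)
      refine ⟨z, hz, ?_, ?_⟩
      · intro n hn
        rw [← hMC, sup_comm, mem_sup_of_le_normalizer_left (hMN.trans hNC)] at hn
        obtain ⟨c, hc, m, hm, rfl⟩ := hn
        refine ⟨c, hc, z⁻¹ * m * z, ⟨?_, mem_cj.1 (hMz hm)⟩, by group⟩
        exact L.mul_mem (L.mul_mem (L.inv_mem hz) (hMN hm).1) hz
      · obtain ⟨S', hS'⟩ := exists_isSyl p M
        refine ⟨S', isSyl_of_not_dvd_relIndex hS'.pgrp (hS'.le.trans hMN) ?_, hS'.le.trans hMz⟩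
        rw [← Subgroup.relIndex_mul_relIndex S' M N hS'.le hMN]
        intro hd
        rcases (Nat.Prime.dvd_mul hp.out).1 hd with hd | hd
        · exact hS'.not_dvd_relIndex hd
        · rw [← hMC, relIndex_sup_of_le_normalizer (hMN.trans hNC)] at hd
          exact hSC.not_dvd_relIndex
            (hd.trans (Subgroup.relIndex_dvd_of_le_left C (hA.trans hQM)))
    · obtain ⟨z, hz, hSz⟩ := hD S (isPiSubgroup_of_isPGroup hpπ hS.pgrp) (hS.le.trans inf_le_left)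
      refine ⟨z, hz, ?_, S, hS, hSz⟩
      intro n hn
      obtain ⟨c, hc, w, hw, rfl⟩ := hSC.frattini (hNC hn)
      have hwN : w ∈ N := by
        have := N.mul_mem (N.inv_mem (hCN hc)) hn
        simpa using this
      have hTS : Q ⊔ (S ⊓ C) ≤ S := sup_le hQS inf_le_left
      have hlt : Q < Q ⊔ (S ⊓ C) :=
        lt_of_le_of_ne le_sup_left (fun h => hA (h ▸ le_sup_right))
      have hwT : w ∈ 𝐍[Q ⊔ (S ⊓ C)] := by
        have : Subgroup.zpowers w ≤ 𝐍[Q ⊔ (S ⊓ C)] :=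
          le_normalizer_sup (by rw [Subgroup.zpowers_le]; exact hwN.2)
            (by rw [Subgroup.zpowers_le]; exact hw)
        exact this (Subgroup.mem_zpowers w)
      obtain ⟨c₁, hc₁, h, hh, e⟩ := ih _ hlt (hS.pgrp.to_le hTS)
        (hTS.trans (hS.le.trans inf_le_left)) z hz (w * z) (L.mul_mem hwN.1 hz) (hTS.trans hSz)
        (by rw [cj_mul, ← cj_of_mem_normalizer hwT]; exact cj_mono w (hTS.trans hSz))
      refine ⟨c * c₁, C.mul_mem hc ⟨hc₁.1, centralizer_anti le_sup_left hc₁.2⟩, h, hh, ?_⟩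
      rw [mul_assoc, e]; group
  obtain ⟨z, hz, hza, S, hS, hSz⟩ := hgood
  have hQS : Q ≤ S := hS.le_of_le_normalizer hQ hQN (hS.le.trans inf_le_right)
  -- every fixed point is equivalent to the good point
  have key : ∀ x ∈ L, Q ≤ cj(x, H) → ∃ c ∈ C, ∃ h ∈ L ⊓ H, x = c * z * h := by
    intro x hx hQx
    have : ∃ n ∈ N, ∃ c ∈ C, ∃ h ∈ L ⊓ H, n * z = c * x * h := by
      obtain ⟨R, hR, hQR⟩ := exists_isSyl_ge (L := (L ⊓ cj(x, H)) ⊓ 𝐍[Q]) hQ
        (le_inf (le_inf hQL hQx) Subgroup.le_normalizer)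
      have hRN : R ≤ N := hR.le.trans (inf_le_inf_right _ inf_le_left)
      rcases hQR.lt_or_eq with hlt | heq
      · obtain ⟨n, hn, hRn⟩ := hS.exists_le_cj hR.pgrp hRN
        obtain ⟨c, hc, h, hh, e⟩ := ih R hlt hR.pgrp (hRN.trans inf_le_left) x hx (n * z)
          (L.mul_mem hn.1 hz) (hR.le.trans (inf_le_left.trans inf_le_right))
          (by rw [cj_mul]; exact hRn.trans (cj_mono n hSz))
        exact ⟨n, hn, c, ⟨hc.1, centralizer_anti hQR hc.2⟩, h, hh, e⟩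
      · subst heq
        have h1 : IsSyl p Q (L ⊓ cj(x, H)) := isSyl_of_isSyl_normalizer hR
        have h2 : IsSyl p cj(x⁻¹, Q) (L ⊓ H) := by
          have := h1.cj x⁻¹
          rwa [cj_inf, cj_inv_cj, cj_of_mem (L.inv_mem hx)] at this
        have h3 : IsSyl p cj(z⁻¹, Q) (L ⊓ H) := by
          refine h2.of_card_ge (isPGroup_cj _ hQ) (le_inf (cj_le_of_mem hQL (L.inv_mem hz)) ?_)
            (by rw [card_cj, card_cj])
          exact le_cj_iff.1 (hQS.trans hSz)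
        obtain ⟨h, hh, e⟩ := h2.exists_cj_eq h3
        refine ⟨x * h * z⁻¹, ⟨L.mul_mem (L.mul_mem hx hh.1) (L.inv_mem hz), cj_eq_iff.1 ?_⟩, 1,
          C.one_mem, h, hh, by group⟩
        rw [cj_mul, cj_mul, e, cj_cj_inv]
    obtain ⟨n, hn, c, hc, h, hh, e⟩ := this
    obtain ⟨c', hc', h', hh', e'⟩ := hza n hn
    refine ⟨c⁻¹ * c', C.mul_mem (C.inv_mem hc) hc', h' * h⁻¹,
      (L ⊓ H).mul_mem hh' ((L ⊓ H).inv_mem hh), ?_⟩
    calc x = c⁻¹ * (c * x * h) * h⁻¹ := by group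
      _ = c⁻¹ * (c' * z * h') * h⁻¹ := by rw [← e, e']
      _ = _ := by group
  obtain ⟨c, hc, h, hh, rfl⟩ := key x hx hQx
  obtain ⟨c', hc', h', hh', rfl⟩ := key y hy hQy
  exact ⟨c' * c⁻¹, C.mul_mem hc' (C.inv_mem hc), h⁻¹ * h',
    (L ⊓ H).mul_mem ((L ⊓ H).inv_mem hh) hh', by group⟩

theorem pi_fusion_elem (u : G) {L H : Subgroup G} (hH : IsPiSubgroup π H)
    (hD : ∀ K : Subgroup G, IsPiSubgroup π K → K ≤ L → ∃ g ∈ L, K ≤ cj(g, H)) (hu : u ∈ L)
    (x : G) (hx : x ∈ L) (y : G) (hy : y ∈ L) (hux : u ∈ cj(x, H)) (huy : u ∈ cj(y, H)) :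
    ∃ c ∈ L ⊓ Subgroup.centralizer ({u} : Set G), ∃ h ∈ L ⊓ H, y = c * x * h := by
  induction hn : orderOf u using Nat.strong_induction_on generalizing u L H x y with
  | _ n ih =>
  by_cases hu1 : u = 1
  · subst hu1
    exact ⟨y * x⁻¹, ⟨L.mul_mem hy (L.inv_mem hx),
      Subgroup.mem_centralizer_singleton_iff.2 (by simp)⟩, 1, Subgroup.one_mem _, by group⟩
  obtain ⟨p, hp, hpu⟩ := Nat.exists_prime_and_dvd (mt orderOf_eq_one_iff.1 hu1)
  have := Fact.mk hp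
  have hpπ : p ∈ π := isPiSubgroup_cj hH x p hp (hpu.trans (Subgroup.orderOf_dvd_natCard _ hux))
  obtain ⟨a, b, ha, hb, hab, hcomm, ⟨k, hk⟩, hbp⟩ := Char.exists_pPart_mul_pPrimePart hp u
  have haP : IsPGroup p (Subgroup.zpowers a) :=
    isPGroup_zpowers ⟨k, by rw [← hk, pow_orderOf_eq_one]⟩
  have hle : ∀ {K : Subgroup G}, u ∈ K → Subgroup.zpowers a ≤ K := fun hK =>
    (Subgroup.zpowers_le.2 ha).trans (Subgroup.zpowers_le.2 hK)
  have hbm : ∀ {K : Subgroup G}, u ∈ K → b ∈ K := fun hK => (Subgroup.zpowers_le.2 hK) hb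
  have hlt : orderOf b < n := by
    rw [← hn]
    refine lt_of_le_of_ne (Nat.le_of_dvd (orderOf_pos u) (orderOf_dvd_of_mem_zpowers hb)) ?_
    intro h
    exact hp.one_lt.ne' (Nat.eq_one_of_dvd_coprimes hbp (h ▸ hpu) dvd_rfl)
  obtain ⟨c, hc, h, hh, rfl⟩ := pi_fusion_pGroup hW hD hpπ _ haP (hle hu) x hx y hy
    (hle hux) (hle huy)
  have hD' : ∀ K : Subgroup G, IsPiSubgroup π K → K ≤ L ⊓ 𝐂[Subgroup.zpowers a] →
      ∃ g ∈ L ⊓ 𝐂[Subgroup.zpowers a], K ≤ cj(g, cj(x, H)) := by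
    intro K hK hKL
    obtain ⟨g, hg, hKg⟩ := hD (K ⊔ Subgroup.zpowers a)
      (isPiSubgroup_sup hK (isPiSubgroup_of_isPGroup hpπ haP)
        (hKL.trans (inf_le_right.trans (centralizer_le_normalizer' _))))
      (sup_le (hKL.trans inf_le_left) (hle hu))
    obtain ⟨c', hc', h', hh', rfl⟩ := pi_fusion_pGroup hW hD hpπ _ haP (hle hu) x hx g hg
      (hle hux) (le_sup_right.trans hKg)
    refine ⟨c', hc', ?_⟩
    rw [cj_mul, cj_mul, cj_of_mem hh'.2] at hKg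
    exact le_sup_left.trans hKg
  have hbL : b ∈ L ⊓ 𝐂[Subgroup.zpowers a] := by
    rw [centralizer_zpowers]
    exact ⟨hbm hu, Subgroup.mem_centralizer_singleton_iff.2 hcomm.symm⟩
  obtain ⟨c₂, hc₂, h₂, hh₂, e⟩ := ih _ hlt b (isPiSubgroup_cj hH x) hD' hbL 1 (Subgroup.one_mem _)
    c hc (by rw [cj_one]; exact hbm hux)
    (by have := hbm huy; rwa [cj_mul, cj_mul, cj_of_mem hh.2] at this) rfl
  refine ⟨c₂, ⟨hc₂.1.1, ?_⟩, x⁻¹ * h₂ * x * h, (L ⊓ H).mul_mem ⟨?_, mem_cj.1 hh₂.2⟩ hh, ?_⟩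
  · rw [centralizer_zpowers] at hc₂
    have h1 := Subgroup.mem_centralizer_singleton_iff.1 hc₂.1.2
    have h2 := Subgroup.mem_centralizer_singleton_iff.1 hc₂.2
    refine Subgroup.mem_centralizer_singleton_iff.2 ?_
    rw [← hab, ← mul_assoc, h1, mul_assoc, h2, mul_assoc]
  · exact L.mul_mem (L.mul_mem (L.inv_mem hx) hh₂.1.1) hx
  · rw [e]; group

end fusion

end Cfsg.Agent.FGS
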