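import Mathlib
import Cfsg.Agent.Grp.Fitting
import Cfsg.Agent.Grp.Card
import Cfsg.Agent.FGS.PrimePart

/-! Minimal covers of finite groups by nilpotent subgroups; small facts on nilpotent subgroups. -/

set_option autoImplicit false

namespace Cfsg.Agent.FGS.NC

open Cfsg Subgroup

variable {G : Type*} [Group G]

/-- `𝓐` is a minimal cover of `G` by nilpotent subgroups. -/
abbrev IsNilMinCover (𝓐 : Finset (Subgroup G)) : Prop :=
  ((∀ A ∈ 𝓐, A ≠ ⊤) ∧ (∀ g : G, ∃ A ∈ 𝓐, g ∈ A)) ∧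
    (∀ 𝓑 : Finset (Subgroup G), (∀ A ∈ 𝓑, A ≠ ⊤) ∧ (∀ g : G, ∃ A ∈ 𝓑, g ∈ A) →
      𝓐.card ≤ 𝓑.card) ∧ (∀ A ∈ 𝓐, Group.IsNilpotent ↥A)

/-- Two different members of a minimal cover generate the group. -/
theorem sup_eq_top {𝓐 : Finset (Subgroup G)} (h : IsNilMinCover 𝓐) {A B : Subgroup G}
    (hA : A ∈ 𝓐) (hB : B ∈ 𝓐) (hAB : A ≠ B) : A ⊔ B = ⊤ := by
  classical
  by_contra hne
  have hB' : B ∈ 𝓐.erase A := Finset.mem_erase.2 ⟨hAB.symm, hB⟩
  have := h.2.1 (insert (A ⊔ B) ((𝓐.erase A).erase B)) ⟨?_, ?_⟩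
  · have h1 := Finset.card_insert_le (A ⊔ B) ((𝓐.erase A).erase B)
    have h2 := Finset.card_erase_add_one hB'
    have h3 := Finset.card_erase_add_one hA
    omega
  · intro C hC
    rcases Finset.mem_insert.1 hC with rfl | hC
    · exact hne
    · exact h.1.1 C (Finset.mem_of_mem_erase (Finset.mem_of_mem_erase hC))
  · intro g
    obtain ⟨C, hC, hg⟩ := h.1.2 g
    by_cases h1 : C = A
    · exact ⟨_, Finset.mem_insert_self _ _, mem_sup_left (h1 ▸ hg)⟩
    by_cases h2 : C = B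
    · exact ⟨_, Finset.mem_insert_self _ _, mem_sup_right (h2 ▸ hg)⟩
    exact ⟨C, Finset.mem_insert_of_mem (Finset.mem_erase.2 ⟨h2, Finset.mem_erase.2 ⟨h1, hC⟩⟩), hg⟩

/-- Criterion for the non-existence of a nilpotent minimal cover. -/
theorem not_cover (M : Subgroup G) (hM : M ≠ ⊤) (x y : G)
    (hx : ∀ A : Subgroup G, Group.IsNilpotent A → x ∈ A → A ≤ M)
    (hy : ∀ A : Subgroup G, Group.IsNilpotent A → y ∈ A → A ≤ M)
    (hxy : ∀ A : Subgroup G, Group.IsNilpotent A → x ∈ A → y ∉ A) :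
    ¬ ∃ 𝓐 : Finset (Subgroup G), IsNilMinCover 𝓐 := by
  rintro ⟨𝓐, h⟩
  obtain ⟨A, hA, hxA⟩ := h.1.2 x
  obtain ⟨B, hB, hyB⟩ := h.1.2 y
  have hne : A ≠ B := fun e => hxy A (h.2.2 A hA) hxA (e ▸ hyB)
  have := sup_eq_top h hA hB hne
  exact hM (top_le_iff.1 (this ▸ sup_le (hx A (h.2.2 A hA) hxA) (hy B (h.2.2 B hB) hyB)))

/-- The same criterion, through an isomorphism. -/
theorem not_cover_of_equiv {H : Type*} [Group H] (e : G ≃* H) (M : Subgroup G) (hM : M ≠ ⊤)
    (x y : G) (hx : ∀ A : Subgroup G, Group.IsNilpotent A → x ∈ A → A ≤ M)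
    (hy : ∀ A : Subgroup G, Group.IsNilpotent A → y ∈ A → A ≤ M)
    (hxy : ∀ A : Subgroup G, Group.IsNilpotent A → x ∈ A → y ∉ A) :
    ¬ ∃ 𝓐 : Finset (Subgroup H), IsNilMinCover 𝓐 := by
  have hn : ∀ A : Subgroup H, Group.IsNilpotent A → Group.IsNilpotent (A.comap (e : G →* H)) :=
    fun A _ => Grp.isNilpotent_comap_of_injective A _ e.injective
  refine not_cover (M.comap (e.symm : H →* G)) (fun h => hM ?_) (e x) (e y) ?_ ?_ ?_
  · rw [eq_top_iff] at h ⊢
    intro g _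
    simpa using h (mem_top (e g))
  · intro A hA hxA g hg
    exact hx _ (hn A hA) hxA (show e (e.symm g) ∈ A by simpa using hg)
  · intro A hA hyA g hg
    exact hy _ (hn A hA) hyA (show e (e.symm g) ∈ A by simpa using hg)
  · intro A hA hxA hyA
    exact hxy _ (hn A hA) hxA hyA

/-- A nilpotent subgroup containing a non-identity element has a non-identity central element. -/
theorem exists_central {A : Subgroup G} (hA : Group.IsNilpotent A) {x : G} (hx : x ∈ A)
    (h1 : x ≠ 1) : ∃ z ∈ A, z ≠ 1 ∧ ∀ g ∈ A, Commute g z := by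
  haveI : Nontrivial A := ⟨⟨⟨x, hx⟩, 1, fun e => h1 (congrArg Subtype.val e)⟩⟩
  obtain ⟨z, hz, hz1⟩ := (Subgroup.bot_or_exists_ne_one (center A)).resolve_left
    (Group.IsNilpotent.center_ne_bot A)
  exact ⟨z, z.2, fun e => hz1 (Subtype.ext e), fun g hg =>
    congrArg Subtype.val (mem_center_iff.1 hz ⟨g, hg⟩)⟩

/-- A nilpotent subgroup meeting a CC-subgroup nontrivially lies in it. -/
theorem le_of_cc {T A : Subgroup G} (hT : ∀ t ∈ T, t ≠ 1 → ∀ g, Commute g t → g ∈ T)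
    (hA : Group.IsNilpotent A) {x : G} (hx : x ∈ A) (hxT : x ∈ T) (h1 : x ≠ 1) : A ≤ T := by
  obtain ⟨z, -, hz1, hz⟩ := exists_central hA hx h1
  exact fun g hg => hT z (hT x hxT h1 z (hz x hx).symm) hz1 g (hz g hg)

/-- In a finite nilpotent group, elements of coprime orders commute. -/
theorem commute_of_coprime [Finite G] {A : Subgroup G} (hA : Group.IsNilpotent A) {p : ℕ}
    [hp : Fact p.Prime] {x y : G} (hx : x ∈ A) (hy : y ∈ A) (hxp : ∃ k, x ^ p ^ k = 1)
    (hyp : (orderOf y).Coprime p) : Commute x y := by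
  have h1 : (⟨x, hx⟩ : A) ∈ pCore p A := by
    refine Grp.le_pCore_of_isNilpotent (P := zpowers (⟨x, hx⟩ : A)) ?_ (mem_zpowers _)
    obtain ⟨k, hk⟩ := hxp
    obtain ⟨j, -, hj⟩ := (Nat.dvd_prime_pow hp.out).1 (orderOf_dvd_of_pow_eq_one hk)
    exact IsPGroup.of_card (n := j) (by rw [Nat.card_zpowers, ← Subgroup.orderOf_coe, hj])
  have h2 : (⟨y, hy⟩ : A) ∈ pPrimeCore p A :=
    Grp.le_pPrimeCore_of_isNilpotent (K := zpowers (⟨y, hy⟩ : A))
      (by rwa [Nat.card_zpowers, ← Subgroup.orderOf_coe]) (mem_zpowers _)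
  exact (congrArg Subtype.val (Grp.pCore_le_centralizer_pPrimeCore p A h1 _ h2)).symm

/-- The `p`-elements of a finite nilpotent subgroup lie in every Sylow `p`-subgroup of the whole
group that is contained in it. -/
theorem mem_sylow_of_le [Finite G] {A : Subgroup G} (hA : Group.IsNilpotent A) {p : ℕ}
    [hp : Fact p.Prime] (P : Sylow p G) (hP : (P : Subgroup G) ≤ A) {x : G} (hx : x ∈ A)
    (hxp : ∃ k, x ^ p ^ k = 1) : x ∈ (P : Subgroup G) := by
  have h1 : (⟨x, hx⟩ : A) ∈ pCore p A := by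
    refine Grp.le_pCore_of_isNilpotent (P := zpowers (⟨x, hx⟩ : A)) ?_ (mem_zpowers _)
    obtain ⟨k, hk⟩ := hxp
    obtain ⟨j, -, hj⟩ := (Nat.dvd_prime_pow hp.out).1 (orderOf_dvd_of_pow_eq_one hk)
    exact IsPGroup.of_card (n := j) (by rw [Nat.card_zpowers, ← Subgroup.orderOf_coe, hj])
  exact Grp.pCore_le_sylow (P.subtype hP) h1

/-- If the Sylow `p`-subgroups are abelian, a `p`-element of a nilpotent subgroup is central in it. -/
theorem commute_of_sylow_comm [Finite G] {A : Subgroup G} (hA : Group.IsNilpotent A) {p : ℕ}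
    [hp : Fact p.Prime] (P : Sylow p G) (hab : IsMulCommutative (P : Subgroup G)) {x : G}
    (hx : x ∈ A) (hxp : ∃ k, x ^ p ^ k = 1) {g : G} (hg : g ∈ A) : Commute x g := by
  have hC : IsPGroup p ((pCore p A).map A.subtype) := (Grp.pCore_isPGroup p A).map _
  obtain ⟨Q, hQ⟩ := hC.exists_le_sylow
  have hQab : ∀ a ∈ (Q : Subgroup G), ∀ b ∈ (Q : Subgroup G), Commute a b := by
    intro a ha b hb
    have := hab.is_comm.comm ((Sylow.equiv Q P) ⟨a, ha⟩) ((Sylow.equiv Q P) ⟨b, hb⟩)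
    rw [← map_mul, ← map_mul] at this
    exact congrArg Subtype.val ((Sylow.equiv Q P).injective this)
  have hm : ∀ y ∈ A, (∃ k, y ^ p ^ k = 1) → y ∈ (Q : Subgroup G) := by
    intro y hy ⟨k, hk⟩
    refine hQ ⟨⟨y, hy⟩, ?_, rfl⟩
    refine Grp.le_pCore_of_isNilpotent (P := zpowers (⟨y, hy⟩ : A)) ?_ (mem_zpowers _)
    obtain ⟨j, -, hj⟩ := (Nat.dvd_prime_pow hp.out).1 (orderOf_dvd_of_pow_eq_one hk)
    exact IsPGroup.of_card (n := j) (by rw [Nat.card_zpowers, ← Subgroup.orderOf_coe, hj])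
  have : A ≤ centralizer ({x} : Set G) := by
    refine FGS.le_of_forall_primePow fun q hq y hy ⟨k, hk⟩ => ?_
    rw [mem_centralizer_singleton_iff]
    by_cases e : q = p
    · subst e
      exact (hQab y (hm y hy ⟨k, hk⟩) x (hm x hx hxp)).eq
    · refine (commute_of_coprime hA hx hy hxp ?_).symm.eq
      exact (Nat.Coprime.pow_left k ((Nat.coprime_primes hq hp.out).2 e)).coprime_dvd_left
        (orderOf_dvd_of_pow_eq_one hk)
  exact (mem_centralizer_singleton_iff.1 (this hg)).symm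

/-- If `p²` does not divide `|G|`, an element of order `p` of a nilpotent subgroup is central in it,
and generates the unique subgroup of order `p` there. -/
theorem central_of_not_sq_dvd [Finite G] {A : Subgroup G} (hA : Group.IsNilpotent A) {p : ℕ}
    [hp : Fact p.Prime] (hG : ¬ p ^ 2 ∣ Nat.card G) {x : G} (hx : x ∈ A) (hxp : orderOf x = p) :
    (∀ g ∈ A, Commute x g) ∧ ∀ y ∈ A, y ^ p = 1 → y ∈ zpowers x := by
  have h1 : IsPGroup p (zpowers x) := IsPGroup.of_card (n := 1) (by simp [hxp])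
  have h2 : ¬ p ∣ (zpowers x).index := fun h => hG (by
    rw [← (zpowers x).card_mul_index, Nat.card_zpowers, hxp, sq]
    exact Nat.mul_dvd_mul_left _ h)
  have hle : ((h1.toSylow h2 : Sylow p G) : Subgroup G) ≤ A := zpowers_le.2 hx
  refine ⟨fun g hg => commute_of_sylow_comm hA (h1.toSylow h2)
    (inferInstanceAs (IsMulCommutative (zpowers x))) hx ⟨1, by rw [pow_one, ← hxp, pow_orderOf_eq_one]⟩ hg,
    fun y hy hyp => mem_sylow_of_le hA (h1.toSylow h2) hle hy ⟨1, by rwa [pow_one]⟩⟩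

/-- An abelian group with a nontrivial partition has prime exponent (subgroup form). -/
theorem pow_eq_one_of_partition {P : Subgroup G} (hab : ∀ a ∈ P, ∀ b ∈ P, Commute a b)
    (𝓑 : Set (Subgroup G)) (hprop : ∀ B ∈ 𝓑, ¬ P ≤ B) (hcov : ∀ g ∈ P, ∃ B ∈ 𝓑, g ∈ B)
    (hdisj : ∀ B ∈ 𝓑, ∀ C ∈ 𝓑, B ≠ C → ∀ g ∈ P, g ∈ B → g ∈ C → g = 1)
    {x : G} (hx : x ∈ P) (h1 : x ≠ 1) {p : ℕ} (hxp : x ^ p = 1) : ∀ y ∈ P, y ^ p = 1 := by
  obtain ⟨B, hB, hxB⟩ := hcov x hx
  have key : ∀ y ∈ P, y ∉ B → y ^ p = 1 := by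
    intro y hy hyB
    obtain ⟨C, hC, hyC⟩ := hcov y hy
    obtain ⟨D, hD, hD'⟩ := hcov (x * y) (mul_mem hx hy)
    have hBC : B ≠ C := fun e => hyB (e ▸ hyC)
    have hCD : C ≠ D := by
      rintro rfl
      exact h1 (hdisj B hB C hC hBC x hx hxB ((mul_mem_cancel_right hyC).1 hD'))
    refine hdisj C hC D hD hCD _ (pow_mem hy p) (pow_mem hyC p) ?_
    have := pow_mem hD' p
    rwa [(hab x hx y hy).mul_pow, hxp, one_mul] at this
  intro b hb
  by_cases hbB : b ∈ B
  · obtain ⟨y, hy, hyB⟩ := SetLike.not_le_iff_exists.1 (hprop B hB)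
    have := key (b * y) (mul_mem hb hy) fun h => hyB ((mul_mem_cancel_left hbB).1 h)
    rwa [(hab b hb y hy).mul_pow, key y hy hyB, mul_one] at this
  · exact key b hb hbB

section cover
variable [Finite G] {𝓐 : Finset (Subgroup G)} {p : ℕ} [hp : Fact p.Prime]

theorem eq_one_of_mem_of_mem (hZ : center G = ⊥) (h : IsNilMinCover 𝓐) (P : Sylow p G)
    (hab : IsMulCommutative (P : Subgroup G)) {A B : Subgroup G} (hA : A ∈ 𝓐) (hB : B ∈ 𝓐)
    (hAB : A ≠ B) {x : G} (hxA : x ∈ A) (hxB : x ∈ B) (hxp : ∃ k, x ^ p ^ k = 1) : x = 1 := by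
  have : (⊤ : Subgroup G) ≤ centralizer ({x} : Set G) := by
    rw [← sup_eq_top h hA hB hAB]
    exact sup_le (fun g hg => mem_centralizer_singleton_iff.2
      (commute_of_sylow_comm (h.2.2 A hA) P hab hxA hxp hg).symm.eq)
      (fun g hg => mem_centralizer_singleton_iff.2
      (commute_of_sylow_comm (h.2.2 B hB) P hab hxB hxp hg).symm.eq)
  rw [← mem_bot, ← hZ, mem_center_iff]
  exact fun g => mem_centralizer_singleton_iff.1 (this (mem_top g))

theorem centralizer_mem (hZ : center G = ⊥) (h : IsNilMinCover 𝓐) (P : Sylow p G)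
    (hab : IsMulCommutative (P : Subgroup G)) (hP : (P : Subgroup G) ≠ ⊥)
    (hne : ¬ (IsElementaryAbelian p (P : Subgroup G) ∧ p < Nat.card (P : Subgroup G))) :
    centralizer ((P : Subgroup G) : Set G) ∈ 𝓐 := by
  have hab' : ∀ a ∈ (P : Subgroup G), ∀ b ∈ (P : Subgroup G), Commute a b :=
    fun a ha b hb => congrArg Subtype.val (hab.is_comm.comm ⟨a, ha⟩ ⟨b, hb⟩)
  have hpe : ∀ a ∈ (P : Subgroup G), ∃ k, a ^ p ^ k = 1 := fun a ha => by
    obtain ⟨k, hk⟩ := P.isPGroup' ⟨a, ha⟩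
    exact ⟨k, congrArg Subtype.val hk⟩
  haveI : Nontrivial (P : Subgroup G) := (nontrivial_iff_ne_bot _).2 hP
  obtain ⟨n, hn0, hn⟩ := P.isPGroup'.nontrivial_iff_card.1 inferInstance
  obtain ⟨u, hu⟩ := exists_prime_orderOf_dvd_card' (G := (P : Subgroup G)) p
    (hn ▸ dvd_pow_self p hn0.ne')
  have hu1 : (u : G) ≠ 1 := fun e => hp.out.one_lt.ne' (by
    rw [← Subgroup.orderOf_coe, e, orderOf_one] at hu; exact hu.symm)
  have hup : (u : G) ^ p = 1 := by
    have := pow_orderOf_eq_one u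
    rw [hu] at this
    exact congrArg Subtype.val this
  obtain ⟨A, hA, hPA⟩ : ∃ A ∈ 𝓐, (P : Subgroup G) ≤ A := by
    by_contra hc
    push Not at hc
    apply hne
    refine ⟨⟨hab, pow_eq_one_of_partition hab' (𝓐 : Set (Subgroup G)) hc
      (fun g _ => h.1.2 g) (fun B hB C hC hBC g hg h1 h2 =>
        eq_one_of_mem_of_mem hZ h P hab hB hC hBC h1 h2 (hpe g hg)) u.2 hu1
        hup⟩, ?_⟩
    by_contra hle
    obtain ⟨B, hB, huB⟩ := h.1.2 u
    apply hc B hB
    have : zpowers u = ⊤ := eq_top_of_le_card _ (by rw [Nat.card_zpowers, hu]; omega)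
    intro g hg
    obtain ⟨k, hk⟩ := (this ▸ mem_top _ : (⟨g, hg⟩ : (P : Subgroup G)) ∈ zpowers u)
    rw [show g = (u : G) ^ k from (congrArg Subtype.val hk).symm]
    exact zpow_mem huB k
  have : centralizer ((P : Subgroup G) : Set G) = A := by
    apply le_antisymm
    · refine FGS.le_of_forall_primePow fun q hq y hy ⟨k, hk⟩ => ?_
      by_cases e : q = p
      · subst e
        have hyp : IsPGroup q (zpowers y) := by
          obtain ⟨j, -, hj⟩ := (Nat.dvd_prime_pow hq).1 (orderOf_dvd_of_pow_eq_one hk)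
          exact IsPGroup.of_card (n := j) (by rw [Nat.card_zpowers, hj])
        have := hyp.inf_normalizer_sylow P
        exact hPA (this.le ⟨mem_zpowers y, centralizer_le_normalizer _ hy⟩).2
      · obtain ⟨B, hB, hm⟩ := h.1.2 (u * y)
        have hc : Commute (u : G) y := hy u u.2
        have hcop : (orderOf y).Coprime p :=
          (Nat.Coprime.pow_left k ((Nat.coprime_primes hq hp.out).2 e)).coprime_dvd_left
            (orderOf_dvd_of_pow_eq_one hk)
        have huB : (u : G) ∈ B := by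
          refine FGS.mem_of_pow_mem_of_coprime (m := orderOf y)
            (by rw [Subgroup.orderOf_coe, hu]; exact hcop.symm) ?_
          have := pow_mem hm (orderOf y)
          rwa [hc.mul_pow, pow_orderOf_eq_one, mul_one] at this
        have : A = B := by
          by_contra hAB
          exact hu1 (eq_one_of_mem_of_mem hZ h P hab hA hB hAB (hPA u.2) huB (hpe u u.2))
        exact this ▸ (mul_mem_cancel_left huB).1 hm
    · intro g hg a ha
      exact (commute_of_sylow_comm (h.2.2 A hA) P hab (hPA ha) (hpe a ha) hg).eq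
  exact this ▸ hA

theorem centralizer_mem' (hZ : center G = ⊥) (h : IsNilMinCover 𝓐) (P : Sylow p G)
    (hab : IsMulCommutative (P : Subgroup G)) (hP : (P : Subgroup G) ≠ ⊥)
    (hne : ¬ (IsElementaryAbelian p (P : Subgroup G) ∧ p < Nat.card (P : Subgroup G)))
    (Q : Sylow p G) : IsMulCommutative (Q : Subgroup G) ∧
      centralizer ((Q : Subgroup G) : Set G) ∈ 𝓐 := by
  have e := Sylow.equiv Q P
  have hc : Nat.card (Q : Subgroup G) = Nat.card (P : Subgroup G) := Nat.card_congr e.toEquiv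
  have hQ : IsMulCommutative (Q : Subgroup G) := ⟨⟨fun a b => e.injective (by
    rw [map_mul, map_mul, hab.is_comm.comm])⟩⟩
  refine ⟨hQ, centralizer_mem hZ h Q hQ ?_ ?_⟩
  · intro h0
    apply hP
    rw [← card_eq_one] at h0 ⊢
    rw [← hc, h0]
  · rintro ⟨h1, h2⟩
    refine hne ⟨⟨hab, fun a ha => ?_⟩, hc ▸ h2⟩
    have := h1.2 _ (e.symm ⟨a, ha⟩).2
    have h3 : (e.symm ⟨a, ha⟩) ^ p = 1 := Subtype.ext this
    rw [← map_pow, map_eq_one_iff _ e.symm.injective] at h3
    exact congrArg Subtype.val h3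

theorem centralizer_ne (h : IsNilMinCover 𝓐) {P Q : Sylow p G}
    (hP : IsMulCommutative (P : Subgroup G)) (hQ : IsMulCommutative (Q : Subgroup G))
    (hPA : centralizer ((P : Subgroup G) : Set G) ∈ 𝓐) (hne : P ≠ Q) :
    centralizer ((P : Subgroup G) : Set G) ≠ centralizer ((Q : Subgroup G) : Set G) := by
  intro e
  apply hne
  refine (Sylow.ext (Q.is_maximal' P.isPGroup' fun g hg => ?_))
  refine mem_sylow_of_le (h.2.2 _ hPA) P (le_centralizer _) (e ▸ le_centralizer _ hg) ?_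
  obtain ⟨k, hk⟩ := Q.isPGroup' ⟨g, hg⟩
  exact ⟨k, congrArg Subtype.val hk⟩

/-- Every proper subgroup containing `C_G(P)` normalizes `P`. -/
theorem le_normalizer_of_centralizer_le (hZ : center G = ⊥) (h : IsNilMinCover 𝓐) (P : Sylow p G)
    (hab : IsMulCommutative (P : Subgroup G)) (hP : (P : Subgroup G) ≠ ⊥)
    (hne : ¬ (IsElementaryAbelian p (P : Subgroup G) ∧ p < Nat.card (P : Subgroup G)))
    {M : Subgroup G} (hM : M ≠ ⊤) (hle : centralizer ((P : Subgroup G) : Set G) ≤ M) :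
    M ≤ normalizer ((P : Subgroup G) : Set G) := by
  intro m hm
  by_contra hn
  have h1 := centralizer_mem' hZ h P hab hP hne P
  have h2 := centralizer_mem' hZ h P hab hP hne (m • P)
  have hPQ : P ≠ m • P := fun e => hn (Sylow.smul_eq_iff_mem_normalizer.1 e.symm)
  apply hM
  rw [eq_top_iff, ← sup_eq_top h h1.2 h2.2 (centralizer_ne h hab h2.1 h1.2 hPQ)]
  refine sup_le hle fun g hg => ?_
  have : m⁻¹ * g * m ∈ centralizer ((P : Subgroup G) : Set G) := by
    intro a ha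
    have := hg (m * a * m⁻¹) (Subgroup.smul_mem_pointwise_smul a (MulAut.conj m)
      (P : Subgroup G) ha)
    calc a * (m⁻¹ * g * m) = m⁻¹ * (m * a * m⁻¹ * g) * m := by group
      _ = _ := by rw [this]; group
  have h3 := mul_mem (mul_mem hm (hle this)) (inv_mem hm)
  simpa [mul_assoc] using h3

theorem isCoatom_normalizer (hZ : center G = ⊥) (h : IsNilMinCover 𝓐) (P : Sylow p G)
    (hab : IsMulCommutative (P : Subgroup G)) (hnn : ¬ (P : Subgroup G).Normal)
    (hne : ¬ (IsElementaryAbelian p (P : Subgroup G) ∧ p < Nat.card (P : Subgroup G))) :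
    IsCoatom (normalizer ((P : Subgroup G) : Set G)) := by
  have hP : (P : Subgroup G) ≠ ⊥ := fun e => hnn (e ▸ inferInstance)
  refine ⟨fun e => hnn (normalizer_eq_top_iff.1 e), fun M hM => ?_⟩
  by_contra hMt
  exact hM.not_ge (le_normalizer_of_centralizer_le hZ h P hab hP hne hMt
    ((centralizer_le_normalizer _).trans hM.le))

end cover

end Cfsg.Agent.FGS.NC
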