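import Mathlib
import Cfsg.Agent.S4037
import Cfsg.Agent.Grp.Fitting

/-! Camina-Camina: conjugates of an element with class of `p`-power size commute modulo `O_p(G)`. -/

set_option autoImplicit false

namespace Cfsg.Agent.FGS

open Cfsg Subgroup

variable {G : Type*} [Group G] [Finite G]

theorem conj_comm_of_index_eq_pow {p : ℕ} [hp : Fact p.Prime] (hO : pCore p G = ⊥) {x : G} {a : ℕ}
    (hx : (centralizer ({x} : Set G)).index = p ^ a) (g h : G) :
    (g * x * g⁻¹) * (h * x * h⁻¹) = (h * x * h⁻¹) * (g * x * g⁻¹) := by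
  have hs : Group.IsSolvable ↥(normalClosure ({x} : Set G)) :=
    S4037.result x hp.out a (by rw [ncard_carrier_mk, hx])
  have hF : fittingSubgroup G ≤ centralizer ({x} : Set G) := by
    refine Grp.le_of_coprime_card_index ?_
    rw [hx]
    exact (Grp.coprime_of_le_pPrimeCore (Grp.fitting_le_pPrimeCore_of_pCore_eq_bot hO)).pow_right _
  let M : Subgroup G := normalClosure ({x} : Set G) ⊓ centralizer (fittingSubgroup G : Set G)
  have : Group.IsSolvable M := Grp.isSolvable_of_le (inf_le_left : M ≤ _)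
  have hMF : M ≤ fittingSubgroup G := Grp.le_fitting_of_le_centralizer_fitting M inf_le_right
  have hxM : x ∈ M := ⟨subset_normalClosure rfl, fun y hy =>
    mem_centralizer_singleton_iff.1 (hF hy)⟩
  have hn : M.Normal := inferInstance
  exact ((hn.conj_mem x hxM g).2 _ (hMF (hn.conj_mem x hxM h))).symm

theorem commutator_conj_mem_pCore {p : ℕ} [hp : Fact p.Prime] {x : G} {a : ℕ}
    (hx : (centralizer ({x} : Set G)).index = p ^ a) (g h : G) :
    (g * x * g⁻¹) * (h * x * h⁻¹) * (g * x * g⁻¹)⁻¹ * (h * x * h⁻¹)⁻¹ ∈ pCore p G := by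
  let f := QuotientGroup.mk' (pCore p G)
  have h1 := index_centralizer_map_dvd f (QuotientGroup.mk'_surjective _) x
  rw [hx] at h1
  obtain ⟨b, -, hb⟩ := (Nat.dvd_prime_pow hp.out).1 h1
  have h2 := conj_comm_of_index_eq_pow (Grp.pCore_quotient_pCore p G) hb (f g) (f h)
  rw [← QuotientGroup.eq_one_iff]
  change f _ = 1
  simp only [map_mul, map_inv]
  rw [h2]
  group

end Cfsg.Agent.FGS
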