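import Mathlib
import Cfsg.Prelude.Def_HallClasses
import Cfsg.Agent.PLocal.AmbSyl

/-! Pronormal subgroups: ambient form `PronIn H L`, images, preimages, conjugates, and the
extension lemma of Guo, Maslova and Revin. -/

set_option autoImplicit false

namespace Cfsg.Agent.FGS

open Subgroup Cfsg
open Cfsg.Agent.PLocal.Amb

variable {G : Type*} [Group G]

/-- `H` is pronormal with respect to the elements of `L`. -/
def PronIn (H L : Subgroup G) : Prop := ∀ g ∈ L, ∃ x ∈ H ⊔ cj(g, H), cj(g, H) = cj(x, H)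

theorem pronIn_top {H : Subgroup G} : PronIn H ⊤ ↔ IsPronormal H :=
  ⟨fun h g => h g (mem_top g), fun h g _ => h g⟩

theorem IsPronormal.pronIn {H : Subgroup G} (h : IsPronormal H) (L : Subgroup G) : PronIn H L :=
  fun g _ => h g

theorem isPronormal_subgroupOf_iff {H L : Subgroup G} (hHL : H ≤ L) :
    IsPronormal (H.subgroupOf L) ↔ PronIn H L := by
  constructor
  · intro h g hg
    obtain ⟨x, hx, hx'⟩ := h ⟨g, hg⟩
    have h1 := congrArg (map L.subtype) hx'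
    have h2 := mem_map_of_mem L.subtype hx
    rw [Subgroup.map_sup, map_subtype_cj, map_subgroupOf_of_le hHL] at h2
    rw [map_subtype_cj, map_subtype_cj, map_subgroupOf_of_le hHL] at h1
    exact ⟨x, h2, h1⟩
  · intro h g
    obtain ⟨x, hx, hx'⟩ := h g g.2
    have h1 : x ∈ L := sup_le hHL (cj_le_of_mem hHL g.2) hx
    refine ⟨⟨x, h1⟩, ?_, ?_⟩
    · rw [← mem_map_subtype, Subgroup.map_sup, map_subtype_cj, map_subgroupOf_of_le hHL]
      exact hx
    · rw [cj_subgroupOf, cj_subgroupOf, hx']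

theorem IsPronormal.map {G' : Type*} [Group G'] {H : Subgroup G} (h : IsPronormal H)
    (f : G →* G') (hf : Function.Surjective f) : IsPronormal (H.map f) := by
  intro g
  obtain ⟨g, rfl⟩ := hf g
  obtain ⟨x, hx, hx'⟩ := h g
  refine ⟨f x, ?_, ?_⟩
  · rw [← map_cj, ← Subgroup.map_sup]; exact mem_map_of_mem f hx
  · rw [← map_cj, ← map_cj, hx']

theorem IsPronormal.of_map {G' : Type*} [Group G'] {H : Subgroup G} (f : G →* G')
    (hk : f.ker ≤ H) (h : IsPronormal (H.map f)) : IsPronormal H := by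
  intro g
  obtain ⟨x, hx, hx'⟩ := h (f g)
  rw [← map_cj, ← Subgroup.map_sup] at hx
  obtain ⟨x, hx, rfl⟩ := hx
  refine ⟨x, hx, ?_⟩
  have h1 : ∀ y : G, f.ker ≤ cj(y, H) := fun y => (cj_of_normal y f.ker).symm.le.trans (cj_mono y hk)
  rw [← map_cj, ← map_cj] at hx'
  rw [← comap_map_eq_self (h1 g), hx', comap_map_eq_self (h1 x)]

theorem IsPronormal.cj {H : Subgroup G} (h : IsPronormal H) (g : G) : IsPronormal cj(g, H) :=
  IsPronormal.map h _ (MulAut.conj g).surjective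

theorem IsPronormal.of_cj {H : Subgroup G} {g : G} (h : IsPronormal cj(g, H)) : IsPronormal H := by
  have := IsPronormal.cj h g⁻¹
  rwa [cj_inv_cj] at this

/-- Frattini argument for pronormal subgroups. -/
theorem IsPronormal.map_normalizer {G' : Type*} [Group G'] {H : Subgroup G} (h : IsPronormal H)
    (f : G →* G') (hf : Function.Surjective f) : (𝐍[H]).map f = 𝐍[H.map f] := by
  refine le_antisymm (le_normalizer_map f) fun y hy => ?_
  obtain ⟨g, rfl⟩ := hf y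
  obtain ⟨x, hx, hx'⟩ := h g
  have h1 : f x ∈ H.map f := by
    have := mem_map_of_mem f hx
    rwa [Subgroup.map_sup, map_cj, cj_of_mem_normalizer hy, sup_idem] at this
  have h2 : x⁻¹ * g ∈ 𝐍[H] := cj_eq_iff.1 (by rw [cj_mul, hx', cj_inv_cj])
  have := mul_mem (map_mono le_normalizer h1) (mem_map_of_mem f h2)
  simpa using this

theorem pronIn_of_inf [Finite G] {p : ℕ} [Fact p.Prime] {H A T : Subgroup G} [A.Normal]
    (hT : IsSyl p T (H ⊓ A)) (h1 : PronIn (H ⊓ A) A) (h2 : PronIn (H ⊓ 𝐍[T]) 𝐍[T]) :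
    PronIn H A := by
  intro a ha
  obtain ⟨y, hy, hy'⟩ := h1 a ha
  have hHB : H ≤ 𝐍[H ⊓ A] := le_normalizer_inf le_normalizer le_normalizer_of_normal
  have h3 : y⁻¹ * a ∈ 𝐍[H ⊓ A] := cj_eq_iff.1 (by rw [cj_mul, hy', cj_inv_cj])
  obtain ⟨n, hn, b, hb, hnb⟩ := hT.frattini' h3
  have h4 : n ∈ 𝐍[H ⊓ A] := (mul_mem_cancel_right (le_normalizer hb)).1 (hnb ▸ h3)
  obtain ⟨x, hx, hx'⟩ := h2 n hn
  have h5 := hT.frattini_sup inf_le_left hHB
  have h6 : x ∈ 𝐍[H ⊓ A] := sup_le (inf_le_left.trans hHB)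
    (cj_le_of_mem (inf_le_left.trans hHB) h4) hx
  have h7 : cj(n, H) = cj(x, H) := by
    rw [← h5, cj_sup, cj_sup, hx', cj_of_mem_normalizer h4, cj_of_mem_normalizer h6]
  have h8 : cj(a, H) = cj(y, cj(n, H)) := by
    have : a = y * (n * b) := by rw [← hnb, mul_inv_cancel_left]
    conv_lhs => rw [this, cj_mul, cj_mul, cj_of_mem hb.1]
  have h9 : y ∈ H ⊔ cj(a, H) := sup_le_sup inf_le_left (cj_mono a inf_le_left) hy
  have h10 : H ⊓ 𝐍[T] ⊔ cj(n, H ⊓ 𝐍[T]) ≤ H ⊔ cj(a, H) := by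
    refine sup_le (inf_le_left.trans le_sup_left) ((cj_mono n inf_le_left).trans ?_)
    rw [← cj_inv_cj y cj(n, H), ← h8]
    exact cj_le_of_mem le_sup_right (inv_mem h9)
  exact ⟨y * x, mul_mem h9 (h10 hx), by rw [h8, h7, cj_mul]⟩

theorem isPronormal_of_pronIn {H A : Subgroup G} [A.Normal] (h1 : PronIn H A)
    (h2 : IsPronormal (H.map (QuotientGroup.mk' A)))
    (h3 : (𝐍[H]).map (QuotientGroup.mk' A) = 𝐍[H.map (QuotientGroup.mk' A)]) : IsPronormal H := by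
  intro g
  obtain ⟨y, hy, hy'⟩ := h2 (QuotientGroup.mk' A g)
  rw [← map_cj, ← Subgroup.map_sup] at hy
  obtain ⟨y, hy, rfl⟩ := hy
  have h4 : QuotientGroup.mk' A (y⁻¹ * g) ∈ 𝐍[H.map (QuotientGroup.mk' A)] :=
    cj_eq_iff.1 (by rw [map_mul, cj_mul, hy', map_inv, cj_inv_cj])
  rw [← h3] at h4
  obtain ⟨n, hn, hn'⟩ := h4
  have h5 : y⁻¹ * g * n⁻¹ ∈ A := by
    rw [← QuotientGroup.eq_one_iff, QuotientGroup.mk_mul, QuotientGroup.mk_inv, mul_inv_eq_one]
    exact hn'.symm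
  obtain ⟨z, hz, hz'⟩ := h1 _ h5
  rw [cj_mul, cj_of_mem_normalizer (inv_mem hn), cj_mul] at hz hz'
  refine ⟨y * z, mul_mem hy (sup_le le_sup_left (cj_le_of_mem le_sup_right (inv_mem hy)) hz), ?_⟩
  rw [cj_mul, ← hz', cj_cj_inv]

end Cfsg.Agent.FGS
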