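import Mathlib
import Cfsg.Agent.S0205
import Cfsg.Agent.Grp.MinNormal
import Cfsg.Agent.Solv.Frobenius

/-! Normal subgroups whose non-central elements have maximal centralizers. -/

set_option autoImplicit false
set_option linter.unusedSectionVars false

namespace Cfsg.Agent.FGS.CentMax

open Subgroup

variable {G : Type*} [Group G] [Finite G]

structure Hyp (N Z : Subgroup G) : Prop where
  mem : ∀ x, x ∈ Z ↔ x ∈ N ∧ ∀ n ∈ N, n * x = x * n
  max : ∀ x ∈ N, x ∉ Z → IsCoatom (centralizer ({x} : Set G))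

theorem conj_pow_pow {x y c : G} (h : x * y * x⁻¹ = c * y) (hx : Commute c x) (hy : Commute c y)
    (a b : ℕ) : x ^ a * y ^ b * (x ^ a)⁻¹ = c ^ (a * b) * y ^ b := by
  have h1 : x * y ^ b * x⁻¹ = c ^ b * y ^ b := by rw [← conj_pow, h, hy.mul_pow]
  induction a with
  | zero => simp
  | succ a ih =>
    calc x ^ (a + 1) * y ^ b * (x ^ (a + 1))⁻¹ = x * (x ^ a * y ^ b * (x ^ a)⁻¹) * x⁻¹ := by
          rw [pow_succ']; group
      _ = c ^ (a * b) * (x * y ^ b * x⁻¹) := by
          rw [ih, ← mul_assoc, ← (hx.pow_left (a * b)).eq]; group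
      _ = _ := by rw [h1, ← mul_assoc, ← pow_add]; congr 2; ring

variable {N Z : Subgroup G} [N.Normal] [Z.Normal] (H : Hyp N Z)
include H

theorem Hyp.eq_or {x : G} (hx : x ∈ N) (hz : x ∉ Z) {T : Subgroup G}
    (hT : centralizer ({x} : Set G) ≤ T) : T = centralizer ({x} : Set G) ∨ T = ⊤ := by
  rcases hT.eq_or_lt with h | h
  · exact Or.inl h.symm
  · exact Or.inr ((H.max x hx hz).2 T h)

theorem Hyp.dich {x : G} (hx : x ∈ N) (hz : x ∉ Z) (L : Subgroup G) [L.Normal] :
    (∀ l ∈ L, l * x = x * l) ∨ ∀ g : G, ∃ c, c * x = x * c ∧ ∃ l ∈ L, g = l * c := by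
  rcases H.eq_or hx hz (le_sup_right : _ ≤ L ⊔ centralizer ({x} : Set G)) with h | h
  · exact Or.inl fun l hl => mem_centralizer_singleton_iff.1 (h ▸ mem_sup_left hl)
  · refine Or.inr fun g => ?_
    obtain ⟨l, hl, c, hc, e⟩ := mem_sup_of_normal_left.1 (h ▸ mem_top g)
    exact ⟨c, mem_centralizer_singleton_iff.1 hc, l, hl, e.symm⟩

theorem Hyp.exists_not_comm {L : Subgroup G} (hL : L ≤ N) (hZ : ¬ L ≤ Z) :
    ∃ x ∈ N, ¬ ∀ l ∈ L, l * x = x * l := by
  by_contra hc
  push Not at hc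
  exact hZ fun l hl => (H.mem l).2 ⟨hL hl, fun n hn => (hc n hn l hl).symm⟩

theorem Hyp.comm_mem {L : Subgroup G} [L.Normal] (hL : L ≤ N) (hZ : ¬ L ≤ Z) {y : G} (hy : y ∈ N)
    (g : G) : g * y * g⁻¹ * y⁻¹ ∈ L := by
  have key : ∀ x ∈ N, (¬ ∀ l ∈ L, l * x = x * l) →
      x ∈ (center (G ⧸ L)).comap (QuotientGroup.mk' L) := fun x hx hn => by
    have hz : x ∉ Z := fun hz => hn fun l hl => ((H.mem x).1 hz).2 l (hL hl)
    rcases H.dich hx hz L with h | h
    · exact absurd h hn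
    · rw [mem_comap, mem_center_iff]
      intro g
      obtain ⟨g, rfl⟩ := QuotientGroup.mk'_surjective L g
      obtain ⟨c, hc, l, hl, rfl⟩ := h g
      rw [map_mul, show QuotientGroup.mk' L l = 1 from (QuotientGroup.eq_one_iff l).2 hl, one_mul,
        ← map_mul, hc, map_mul]
  obtain ⟨x, hx, hn⟩ := H.exists_not_comm hL hZ
  have : y ∈ (center (G ⧸ L)).comap (QuotientGroup.mk' L) := by
    by_cases h : ∀ l ∈ L, l * y = y * l
    · have := key (y * x) (mul_mem hy hx) fun h' => hn fun l hl => by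
        have := h' l hl
        rw [← mul_assoc, h l hl, mul_assoc, mul_assoc] at this
        exact mul_left_cancel this
      exact (mul_mem_cancel_right (key x hx hn)).1 this
    · exact key y hy h
  have := mem_center_iff.1 (mem_comap.1 this) (QuotientGroup.mk' L g)
  rw [← QuotientGroup.eq_one_iff]
  simp only [QuotientGroup.mk'_apply] at this
  simp only [QuotientGroup.mk_mul, QuotientGroup.mk_inv, this]
  group

local notation "π" => QuotientGroup.mk' Z

theorem Hyp.solvable {K : Subgroup (G ⧸ Z)} [K.Normal] (hK : K ≤ N.map π)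
    (hmin : ∀ M : Subgroup (G ⧸ Z), M.Normal → M ≤ K → M = ⊥ ∨ M = K) : Group.IsSolvable K := by
  by_contra hns
  have key : ∀ u ∈ K, ∀ s : G ⧸ Z, s * u * s⁻¹ = u⁻¹ → u * u = 1 := fun u hu s hs => by
    by_cases h1 : u = 1
    · simp [h1]
    obtain ⟨x, hx, rfl⟩ := hK hu
    have hz : x ∉ Z := fun hz => h1 ((QuotientGroup.eq_one_iff x).2 hz)
    have hle : centralizer ({x} : Set G) ≤ (normalizer (zpowers (π x) : Set (G ⧸ Z))).comap π :=
      fun c hc => centralizer_le_normalizer _ <| by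
        rintro _ ⟨k, rfl⟩
        have : Commute (π x) (π c) := by
          rw [Commute, SemiconjBy, ← map_mul, ← map_mul, mem_centralizer_singleton_iff.1 hc]
        exact this.zpow_left k
    rcases H.eq_or hx hz hle with h | h
    · obtain ⟨s, rfl⟩ := QuotientGroup.mk'_surjective Z s
      have : s ∈ centralizer ({x} : Set G) := by
        rw [← h, mem_comap]
        apply mem_normalizer_fintype
        rintro _ ⟨k, rfl⟩
        show π s * π x ^ k * (π s)⁻¹ ∈ zpowers (π x)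
        rw [← conj_zpow, hs]
        exact zpow_mem (inv_mem (mem_zpowers _)) k
      rw [← map_mul, mem_centralizer_singleton_iff.1 this, map_mul, mul_inv_cancel_right] at hs
      exact mul_eq_one_iff_eq_inv.2 hs
    · have hn : (zpowers (π x)).Normal := by
        rw [← normalizer_eq_top_iff, eq_top_iff]
        intro g _
        obtain ⟨g, rfl⟩ := QuotientGroup.mk'_surjective Z g
        exact mem_comap.1 (h ▸ mem_top g)
      rcases hmin _ hn (zpowers_le.2 hu) with e | e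
      · exact absurd (zpowers_eq_bot.1 e) h1
      · exact absurd (by rw [← e]; infer_instance) hns
  have h2 : 2 ∣ Nat.card K := by
    by_contra h
    exact hns (S0205.result (Nat.odd_iff.2 (Nat.two_dvd_ne_zero.1 h)))
  obtain ⟨t, ht⟩ := exists_prime_orderOf_dvd_card' 2 h2
  let E : Subgroup (G ⧸ Z) :=
    { carrier := {x | x ∈ K ∧ x * x = 1}
      one_mem' := ⟨one_mem _, one_mul _⟩
      inv_mem' := fun {a} ha => ⟨inv_mem ha.1, by rw [← mul_inv_rev, ha.2, inv_one]⟩
      mul_mem' := fun {a b} ha hb => ⟨mul_mem ha.1 hb.1, key _ (mul_mem ha.1 hb.1) a (by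
        rw [mul_inv_rev, ← mul_eq_one_iff_eq_inv.1 ha.2, ← mul_eq_one_iff_eq_inv.1 hb.2,
          ← mul_assoc, ha.2, one_mul])⟩ }
  have hE : E.Normal := ⟨fun a ha g => ⟨‹K.Normal›.conj_mem a ha.1 g, by
    rw [conj_mul, ha.2]; simp⟩⟩
  rcases hmin E hE (fun a ha => ha.1) with e | e
  · have : (t : G ⧸ Z) ∈ E := ⟨t.2, by
      rw [← coe_mul, ← pow_two, ← ht, pow_orderOf_eq_one, coe_one]⟩
    rw [e, mem_bot, OneMemClass.coe_eq_one] at this
    rw [this, orderOf_one] at ht
    exact absurd ht (by norm_num)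
  · refine hns (isSolvable_of_comm fun a b => Subtype.ext ?_)
    have ha : (a : G ⧸ Z) ∈ E := e.ge a.2
    have hb : (b : G ⧸ Z) ∈ E := e.ge b.2
    have := mul_eq_one_iff_eq_inv.1 (mul_mem ha hb).2
    rw [mul_inv_rev, ← mul_eq_one_iff_eq_inv.1 ha.2, ← mul_eq_one_iff_eq_inv.1 hb.2] at this
    exact this

theorem Hyp.caseA (hc : ∀ x ∈ N, ∀ y ∈ N, π x * π y = π y * π x) :
    ∃ p : ℕ, p.Prime ∧ ∀ x ∈ N, x ^ p ∈ Z := by
  have key : ∀ x ∈ N, x ∉ Z → (orderOf (π x)).Prime := fun x hx hz => by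
    obtain ⟨y, hy, hne⟩ : ∃ y ∈ N, y * x ≠ x * y := by
      by_contra h
      push Not at h
      exact hz ((H.mem x).2 ⟨hx, h⟩)
    set c := x * y * x⁻¹ * y⁻¹ with hcdef
    have hcZ : c ∈ Z := by
      rw [← QuotientGroup.eq_one_iff]
      have := hc x hx y hy
      simp only [QuotientGroup.mk'_apply] at this
      simp only [hcdef, QuotientGroup.mk_mul, QuotientGroup.mk_inv, this]
      group
    have hc1 : c ≠ 1 := fun e => hne (by
      rw [hcdef, mul_inv_eq_one, mul_inv_eq_iff_eq_mul] at e; exact e.symm)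
    obtain ⟨r, pr, m, hm⟩ := Nat.exists_prime_and_dvd (mt orderOf_eq_one_iff.1 hc1)
    have hp := conj_pow_pow (x := x) (y := y) (c := c) (by rw [hcdef]; group)
      (((H.mem c).1 hcZ).2 x hx).symm (((H.mem c).1 hcZ).2 y hy).symm
    have h1 : x ^ r ∈ Z := by
      by_contra hr
      have hle : centralizer ({x ^ r} : Set G) = centralizer ({x} : Set G) := by
        rcases H.eq_or hx hz (T := centralizer ({x ^ r} : Set G)) (fun g hg =>
          mem_centralizer_singleton_iff.2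
            ((show Commute g x from mem_centralizer_singleton_iff.1 hg).pow_right r)) with h | h
        · exact h
        · exact absurd h (H.max _ (pow_mem hx r) hr).1
      have h2 : y ^ m ∈ centralizer ({x ^ r} : Set G) := by
        have := hp r m
        rw [← hm, pow_orderOf_eq_one, one_mul, mul_inv_eq_iff_eq_mul] at this
        exact mem_centralizer_singleton_iff.2 this.symm
      rw [hle, mem_centralizer_singleton_iff] at h2
      have := hp 1 m
      rw [pow_one, ← h2, mul_inv_cancel_right, one_mul, eq_comm, mul_eq_right] at this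
      have h3 := Nat.le_of_dvd (Nat.pos_of_ne_zero fun e => (orderOf_pos c).ne' (by rw [hm, e, mul_zero]))
        (orderOf_dvd_of_pow_eq_one this)
      have h4 := orderOf_pos c
      rw [hm] at h3 h4
      have := pr.two_le
      have := Nat.pos_of_mul_pos_left h4
      nlinarith
    haveI : Fact r.Prime := ⟨pr⟩
    rw [orderOf_eq_prime (x := π x) (p := r) (by rw [← map_pow]; exact (QuotientGroup.eq_one_iff _).2 h1)
      (fun e => hz ((QuotientGroup.eq_one_iff x).1 e))]
    exact pr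
  by_cases hN : N ≤ Z
  · exact ⟨2, Nat.prime_two, fun x hx => pow_mem (hN hx) 2⟩
  obtain ⟨x, hx, hz⟩ := SetLike.not_le_iff_exists.1 hN
  refine ⟨_, key x hx hz, fun y hy => ?_⟩
  by_cases hyz : y ∈ Z
  · exact pow_mem hyz _
  by_cases he : orderOf (π y) = orderOf (π x)
  · rw [← QuotientGroup.eq_one_iff, ← he, QuotientGroup.mk_pow]
    exact pow_orderOf_eq_one _
  · exfalso
    have h1 := (show Commute (π y) (π x) from hc y hy x hx).orderOf_mul_eq_mul_orderOf_of_coprime
      ((Nat.coprime_primes (key y hy hyz) (key x hx hz)).2 he)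
    rw [← map_mul] at h1
    by_cases h2 : y * x ∈ Z
    · rw [show π (y * x) = 1 from (QuotientGroup.eq_one_iff _).2 h2, orderOf_one] at h1
      exact (key x hx hz).one_lt.ne' (Nat.eq_one_of_mul_eq_one_left h1.symm)
    · exact Nat.not_prime_mul (key y hy hyz).one_lt.ne' (key x hx hz).one_lt.ne'
        (h1 ▸ key _ (mul_mem hy hx) h2)

theorem Hyp.center_triv (hc : ¬ ∀ x ∈ N, ∀ y ∈ N, π x * π y = π y * π x) {a : G} (ha : a ∈ N)
    (h : ∀ y ∈ N, π y * π a = π a * π y) : a ∈ Z := by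
  set L : Subgroup G := N ⊓ (centralizer (N.map π : Set (G ⧸ Z))).comap π
  have hL : ∀ x, x ∈ L ↔ x ∈ N ∧ ∀ y ∈ N, π y * π x = π x * π y := fun x =>
    ⟨fun hx => ⟨hx.1, fun y hy => hx.2 _ (mem_map_of_mem _ hy)⟩,
      fun hx => ⟨hx.1, by rintro _ ⟨y, hy, rfl⟩; exact hx.2 y hy⟩⟩
  have key : ∀ x ∈ N, x ∉ L → ∀ l ∈ L, l * x = x * l := fun x hx hxL => by
    have hz : x ∉ Z := fun hz => hxL ((hL x).2 ⟨hx, fun y _ => by
      rw [show π x = 1 from (QuotientGroup.eq_one_iff _).2 hz, mul_one, one_mul]⟩)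
    rcases H.dich hx hz L with h | h
    · exact h
    · refine absurd ((hL x).2 ⟨hx, fun y _ => ?_⟩) hxL
      obtain ⟨c, hc, l, hl, rfl⟩ := h y
      rw [map_mul, mul_assoc, ← map_mul, hc, map_mul, ← mul_assoc, ← ((hL l).1 hl).2 x hx, mul_assoc]
  obtain ⟨x, hx, hxL⟩ : ∃ x ∈ N, x ∉ L := by
    by_contra hn
    push Not at hn
    exact hc fun x hx y hy => ((hL y).1 (hn y hy)).2 x hx
  have haL := (hL a).2 ⟨ha, h⟩
  refine (H.mem a).2 ⟨ha, fun n hn => ?_⟩
  by_cases hnL : n ∈ L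
  · have := key (n * x) (mul_mem hn hx) (fun h' => hxL ((mul_mem_cancel_left hnL).1 h')) a haL
    rw [mul_assoc, ← key x hx hxL a haL, ← mul_assoc, ← mul_assoc] at this
    exact (mul_right_cancel this).symm
  · exact (key n hn hnL a haL).symm

theorem Hyp.caseB (hc : ¬ ∀ x ∈ N, ∀ y ∈ N, π x * π y = π y * π x) :
    ∃ (p : ℕ) (K : Subgroup (G ⧸ Z)), p.Prime ∧ K.Normal ∧ K ≠ ⊥ ∧ K ≤ N.map π ∧
      IsMulCommutative K ∧ (∀ x ∈ K, x ^ p = 1) ∧
      (∀ M : Subgroup (G ⧸ Z), M.Normal → M ≤ K → M = ⊥ ∨ M = K) ∧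
      (∀ x ∈ N, π x ∉ K → ∀ k ∈ K, k * π x = π x * k → k = 1) ∧
      (∀ x ∈ N, ∀ g, π (g * x * g⁻¹ * x⁻¹) ∈ K) ∧
      ∀ L : Subgroup G, K.comap π ≤ L → L ≤ N → L = K.comap π ∨ L = N := by
  have hZN : Z ≤ N := fun z hz => ((H.mem z).1 hz).1
  have hN1 : N.map π ≠ ⊥ := fun e => hc fun x hx y _ => by
    rw [mem_bot.1 (e ▸ mem_map_of_mem _ hx : π x ∈ ⊥), mul_one, one_mul]
  obtain ⟨K, hKn, hK1, hKN, hmin⟩ := Grp.exists_minNormal_le (N.map π) hN1
  haveI := H.solvable hKN hmin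
  obtain ⟨hKc, p, pp, hKp⟩ := Grp.minNormal_elementaryAbelian K hK1 hmin
  set K0 := K.comap π with hK0
  have hK0N : K0 ≤ N := fun k hk => by
    obtain ⟨n, hn, e⟩ := hKN hk
    have : n⁻¹ * k ∈ Z := QuotientGroup.eq.1 e
    exact (mul_mem_cancel_left (inv_mem hn)).1 (hZN this)
  have hK0Z : ¬ K0 ≤ Z := fun hle => hK1 <| by
    rw [eq_bot_iff]
    intro k hk
    obtain ⟨k, rfl⟩ := QuotientGroup.mk'_surjective Z k
    exact (QuotientGroup.eq_one_iff k).2 (hle hk)
  have hcomm := fun x (hx : x ∈ N) g => H.comm_mem hK0N hK0Z hx g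
  have hb : ∀ x ∈ N, (∀ k ∈ K, k * π x = π x * k) → ∀ l ∈ K0, l * x = x * l := fun x hx h => by
    by_cases hz : x ∈ Z
    · exact fun l hl => ((H.mem x).1 hz).2 l (hK0N hl)
    rcases H.dich hx hz K0 with h' | h'
    · exact h'
    · refine absurd (H.center_triv hc hx fun y _ => ?_) hz
      obtain ⟨c, hc, l, hl, rfl⟩ := h' y
      rw [map_mul, mul_assoc, ← map_mul, hc, map_mul, ← mul_assoc, h _ hl, mul_assoc]
  have hKK : ∀ x ∈ K0, ∀ l ∈ K0, l * x = x * l := fun x hx => hb x (hK0N hx) fun k hk =>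
    congrArg Subtype.val (hKc.1.1 ⟨k, hk⟩ ⟨π x, hx⟩)
  have hfpf : ∀ x ∈ N, (¬ ∀ l ∈ K0, l * x = x * l) → (∀ g : G, ∃ c, c * x = x * c ∧ ∃ l ∈ K0, g = l * c) ∧
      ∀ k ∈ K, k * π x = π x * k → k = 1 := fun x hx hn => by
    have hz : x ∉ Z := fun hz => hn fun l hl => ((H.mem x).1 hz).2 l (hK0N hl)
    have h := (H.dich hx hz K0).resolve_left hn
    refine ⟨h, ?_⟩
    have : (K ⊓ centralizer ({π x} : Set (G ⧸ Z))).Normal := ⟨fun k hk g => ⟨hKn.conj_mem k hk.1 g, by
      obtain ⟨g, rfl⟩ := QuotientGroup.mk'_surjective Z g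
      obtain ⟨c, hc, l, hl, rfl⟩ := h g
      have h1 : π c ∈ centralizer ({π x} : Set (G ⧸ Z)) := mem_centralizer_singleton_iff.2 (by
        rw [← map_mul, hc, map_mul])
      have h2 := congrArg Subtype.val (hKc.1.1 ⟨π l, hl⟩ ⟨_, hKn.conj_mem k hk.1 (π c)⟩)
      simp only [coe_mul] at h2
      have : π (l * c) * k * (π (l * c))⁻¹ = π c * k * (π c)⁻¹ := by
        rw [map_mul, mul_inv_rev]
        calc _ = π l * (π c * k * (π c)⁻¹) * (π l)⁻¹ := by group
          _ = _ := by rw [h2, mul_inv_cancel_right]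
      rw [this]
      exact Subgroup.mul_mem _ (mul_mem h1 hk.2) (inv_mem h1)⟩⟩
    rcases hmin _ this inf_le_left with e | e
    · exact fun k hk h' => mem_bot.1 (e ▸ mem_inf.2 ⟨hk, mem_centralizer_singleton_iff.2 h'⟩)
    · exact absurd (hb x hx fun k hk => mem_centralizer_singleton_iff.1 (mem_inf.1 (e.ge hk)).2) hn
  have hd : ∀ d ∈ N, (∀ l ∈ K0, l * d = d * l) → d ∈ K0 := fun d hd h => by
    obtain ⟨x, hx, hn⟩ := H.exists_not_comm hK0N hK0Z
    obtain ⟨h1, h2⟩ := hfpf x hx hn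
    obtain ⟨c, hc1, l, hl, rfl⟩ := h1 d
    have hcN : c ∈ N := (mul_mem_cancel_left (hK0N hl)).1 hd
    have hcK : ∀ k ∈ K0, k * c = c * k := fun k hk => by
      have := h k hk
      rw [← mul_assoc, hKK l hl k hk, mul_assoc, mul_assoc] at this
      exact mul_left_cancel this
    refine mul_mem hl (QuotientGroup.le_comap_mk' Z K (H.center_triv hc hcN fun y _ => ?_))
    obtain ⟨c', hc', l', hl', rfl⟩ := h1 y
    have h3 := h2 _ (hcomm c hcN c') (by
      rw [← map_mul, ← map_mul]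
      congr 1
      exact ((((show Commute c' x from hc').mul_left hc1).mul_left
        (show Commute c' x from hc').inv_left).mul_left (show Commute c x from hc1).inv_left).eq)
    simp only [map_mul, map_inv] at h3
    rw [mul_inv_eq_one, mul_inv_eq_iff_eq_mul] at h3
    rw [map_mul, mul_assoc, h3, ← mul_assoc, ← map_mul, hcK l' hl', map_mul, mul_assoc]
  have hf : ∀ x ∈ N, π x ∉ K → ∀ k ∈ K, k * π x = π x * k → k = 1 := fun x hx hxK =>
    (hfpf x hx fun h => hxK (hd x hx h)).2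
  refine ⟨p, K, pp, hKn, hK1, hKN, hKc, hKp, hmin, hf, hcomm, fun L h1 h2 => ?_⟩
  haveI : L.Normal := ⟨fun l hl g => by
    have := mul_mem (h1 (hcomm l (h2 hl) g)) hl
    rwa [inv_mul_cancel_right] at this⟩
  obtain ⟨k, hk, hz⟩ := SetLike.not_le_iff_exists.1 hK0Z
  have hck : ∀ c ∈ N, c * k = k * c → c ∈ K0 := fun c hc e => by
    by_contra hn
    exact hz ((QuotientGroup.eq_one_iff k).1 (hf c hc hn (π k) hk (by rw [← map_mul, ← e, map_mul])))
  rcases H.dich (hK0N hk) hz L with h | h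
  · exact Or.inl (le_antisymm (fun l hl => hck l (h2 hl) (h l hl)) h1)
  · refine Or.inr (le_antisymm h2 fun n hn => ?_)
    obtain ⟨c, hc, l, hl, rfl⟩ := h n
    exact mul_mem hl (h1 (hck c ((mul_mem_cancel_left (h2 hl)).1 hn) hc))

omit H in
/-- an elementary abelian normal subgroup `K`, maximal, containing the derived group, on which the
elements outside act without fixed points -/
theorem frob {X : Type*} [Group X] [Finite X] {p : ℕ} (pp : p.Prime) (K : Subgroup X) [K.Normal]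
    (h1 : K ≠ ⊥) (h2 : K ≠ ⊤) (hp : ∀ x ∈ K, x ^ p = 1)
    (hf : ∀ x, x ∉ K → ∀ k ∈ K, k * x = x * k → k = 1)
    (hm : ∀ L : Subgroup X, K ≤ L → L = K ∨ L = ⊤) :
    K.index.Prime ∧ p ≠ K.index ∧ ∃ Q : Subgroup X, IsFrobeniusComplement Q ∧ Nat.card Q = K.index ∧
      (K : Set X) = frobeniusKernel Q := by
  haveI : Fact p.Prime := ⟨pp⟩
  obtain ⟨r, pr, hr⟩ := Nat.exists_prime_and_dvd (fun e => h2 (index_eq_one.1 e) : K.index ≠ 1)
  haveI : Fact r.Prime := ⟨pr⟩
  obtain ⟨c, hc⟩ := exists_prime_orderOf_dvd_card' (G := X ⧸ K) r hr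
  have hi : K.index = r := by
    rcases hm _ (QuotientGroup.le_comap_mk' K (zpowers c)) with e | e
    · obtain ⟨c, rfl⟩ := QuotientGroup.mk'_surjective K c
      have : c ∈ K := e ▸ mem_comap.2 (mem_zpowers _)
      rw [show QuotientGroup.mk' K c = 1 from (QuotientGroup.eq_one_iff c).2 this, orderOf_one] at hc
      exact absurd hc pr.one_lt.ne
    · have := Grp.card_comap_mk' K (zpowers c)
      rw [e, card_top, Nat.card_zpowers, hc, ← K.index_mul_card] at this
      exact Nat.eq_of_mul_eq_mul_right Nat.card_pos this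
  obtain ⟨a, ha⟩ := IsPGroup.iff_card.1 (Grp.isPGroup_of_pow_eq_one hp)
  have hpr : p ≠ r := fun e => by
    obtain ⟨x, hx⟩ : ∃ x, x ∉ K := by
      by_contra h
      push Not at h
      exact h2 (eq_top_iff.2 fun x _ => h x)
    have hX : IsPGroup p X := IsPGroup.of_card (n := a + 1) (by
      rw [← K.index_mul_card, hi, ha, ← e, pow_succ'])
    haveI : Nontrivial K := (nontrivial_iff_ne_bot K).2 h1
    letI : MulAction X K := MulAction.compHom K (MulAut.conjNormal (H := K))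
    obtain ⟨b, hb, hb1⟩ := hX.exists_fixed_point_of_prime_dvd_card_of_fixed_point
      (α := K) (by
        rw [ha]
        refine dvd_pow_self p fun e => ?_
        rw [e, pow_zero] at ha
        exact h1 (card_eq_one.1 ha)) (a := 1) (fun g => map_one (MulAut.conjNormal g))
    have := congrArg Subtype.val (hb x)
    exact hb1 (Subtype.ext (hf x hx b b.2 (mul_inv_eq_iff_eq_mul.1 this).symm).symm)
  obtain ⟨C, hC⟩ := exists_right_complement'_of_coprime (N := K) (by
    rw [ha, hi]; exact Nat.Coprime.pow_left _ ((Nat.coprime_primes pp pr).2 hpr))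
  have hF : IsFrobeniusComplement C := by
    refine Solv.Frob.isFrobeniusComplement_of_fpf hC h1 ?_ fun a ha ha1 => ?_
    · rintro rfl
      exact h2 (isComplement'_bot_right.1 hC)
    · rw [eq_bot_iff]
      rintro x ⟨hx, hc⟩
      exact hf a (fun h => ha1 (disjoint_def.1 hC.disjoint h ha)) x hx
        (mem_centralizer_singleton_iff.1 hc)
  exact ⟨hi ▸ pr, hi ▸ hpr, C, hF, hC.symm.index_eq_card.symm, Solv.Frob.coe_eq_frobeniusKernel hF hC⟩

end Cfsg.Agent.FGS.CentMax
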