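import Mathlib
import Cfsg.Prelude.Def_Transfer

/-! Counting elements whose class size is prime to `p`. -/

set_option autoImplicit false
open scoped Pointwise

namespace Cfsg.Agent.FGS

variable {G : Type*} [Group G]

/-- A subgroup of index prime to `p` contains a Sylow `p`-subgroup. -/
theorem exists_sylow_le_of_not_dvd_index' [Finite G] {p : ℕ} [hp : Fact p.Prime] {H : Subgroup G}
    (h : ¬ p ∣ H.index) : ∃ Q : Sylow p G, (Q : Subgroup G) ≤ H := by
  obtain ⟨R⟩ : Nonempty (Sylow p H) := inferInstance
  have h1 : IsPGroup p ((R : Subgroup H).map H.subtype) := R.isPGroup'.map _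
  have h2 : ¬ p ∣ ((R : Subgroup H).map H.subtype).index := by
    rw [Subgroup.index_map_subtype]
    intro hd
    rcases (Nat.Prime.dvd_mul hp.out).1 hd with h3 | h3
    · exact R.not_dvd_index h3
    · exact h h3
  exact ⟨h1.toSylow h2, Subgroup.map_subtype_le _⟩

theorem card_centralizer_sylow_eq [Finite G] {p : ℕ} [Fact p.Prime] (P Q : Sylow p G) :
    Nat.card (Subgroup.centralizer ((Q : Subgroup G) : Set G)) =
      Nat.card (Subgroup.centralizer ((P : Subgroup G) : Set G)) := by
  obtain ⟨g, rfl⟩ := MulAction.exists_smul_eq G P Q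
  refine Nat.card_congr ⟨fun x => ⟨g⁻¹ * x * g, ?_⟩, fun x => ⟨g * x * g⁻¹, ?_⟩, ?_, ?_⟩
  · intro y hy
    have := x.2 (g * y * g⁻¹) (by
      rw [Sylow.coe_subgroup_smul]
      exact Subgroup.smul_mem_pointwise_smul y (MulAut.conj g) _ hy)
    calc y * (g⁻¹ * x * g) = g⁻¹ * (g * y * g⁻¹ * x) * g := by group
      _ = g⁻¹ * (x * (g * y * g⁻¹)) * g := by rw [this]
      _ = g⁻¹ * x * g * y := by group
  · intro y hy
    rw [Sylow.coe_subgroup_smul] at hy
    obtain ⟨z, hz, rfl⟩ := (Subgroup.mem_smul_pointwise_iff_exists _ _ _).1 hy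
    have := x.2 z hz
    simp only [MulAut.smul_def, MulAut.conj_apply]
    calc g * z * g⁻¹ * (g * x * g⁻¹) = g * (z * x) * g⁻¹ := by group
      _ = g * (x * z) * g⁻¹ := by rw [this]
      _ = g * x * g⁻¹ * (g * z * g⁻¹) := by group
  · intro x; ext; simp [mul_assoc]
  · intro x; ext; simp [mul_assoc]

/-- The number of elements with class size prime to `p` is at most `n_p * |C(P)|`. -/
theorem card_not_dvd_index_le [Finite G] {p : ℕ} [Fact p.Prime] (P : Sylow p G) :
    Nat.card {x : G // ¬ p ∣ (Subgroup.centralizer ({x} : Set G)).index} ≤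
      Nat.card (Sylow p G) * Nat.card (Subgroup.centralizer ((P : Subgroup G) : Set G)) := by
  classical
  have key : ∀ x : {x : G // ¬ p ∣ (Subgroup.centralizer ({x} : Set G)).index},
      ∃ Q : Sylow p G, x.1 ∈ Subgroup.centralizer ((Q : Subgroup G) : Set G) := by
    intro x
    obtain ⟨Q, hQ⟩ := exists_sylow_le_of_not_dvd_index' x.2
    refine ⟨Q, fun y hy => ?_⟩
    exact ((hQ hy) x.1 rfl).symm
  choose f hf using key
  let F : {x : G // ¬ p ∣ (Subgroup.centralizer ({x} : Set G)).index} →
      Σ Q : Sylow p G, Subgroup.centralizer ((Q : Subgroup G) : Set G) := fun x => ⟨f x, x.1, hf x⟩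
  have hF : Function.Injective F := by
    intro x y hxy
    have : (F x).2.1 = (F y).2.1 := by rw [hxy]
    exact Subtype.ext this
  refine (Nat.card_le_card_of_injective F hF).trans (le_of_eq ?_)
  have := Fintype.ofFinite (Sylow p G)
  rw [Nat.card_sigma, Finset.sum_congr rfl (fun Q _ => card_centralizer_sylow_eq P Q)]
  simp

/-- If `G` has no normal `p`-complement, at most half of the elements have class size prime to `p`. -/
theorem two_mul_card_not_dvd_index_le [Finite G] {p : ℕ} [Fact p.Prime]
    (h : ¬ HasNormalPComplement p G) :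
    2 * Nat.card {x : G // ¬ p ∣ (Subgroup.centralizer ({x} : Set G)).index} ≤ Nat.card G := by
  obtain ⟨P⟩ : Nonempty (Sylow p G) := inferInstance
  have hlt : Subgroup.centralizer ((P : Subgroup G) : Set G) <
      Subgroup.normalizer ((P : Subgroup G) : Set G) := by
    refine lt_of_le_of_ne (Subgroup.centralizer_le_normalizer _) fun he => h ?_
    exact ⟨P, _, inferInstance, MonoidHom.ker_transferSylow_isComplement' P he.ge⟩
  have h2 : 2 * Nat.card (Subgroup.centralizer ((P : Subgroup G) : Set G)) ≤
      Nat.card (Subgroup.normalizer ((P : Subgroup G) : Set G)) := by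
    obtain ⟨k, hk⟩ := Subgroup.card_dvd_of_le hlt.le
    have hk0 : k ≠ 0 := by
      rintro rfl
      exact (Nat.card_pos (α := Subgroup.normalizer ((P : Subgroup G) : Set G))).ne' (by simpa using hk)
    have hk1 : k ≠ 1 := by
      rintro rfl
      exact hlt.ne (Subgroup.eq_of_le_of_card_ge hlt.le (by omega))
    rw [hk, mul_comm]
    exact Nat.mul_le_mul_left _ (by omega)
  have h3 := card_not_dvd_index_le P
  rw [P.card_eq_index_normalizer] at h3
  have h4 := (Subgroup.normalizer ((P : Subgroup G) : Set G)).index_mul_card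
  calc _ ≤ 2 * ((Subgroup.normalizer ((P : Subgroup G) : Set G)).index *
        Nat.card (Subgroup.centralizer ((P : Subgroup G) : Set G))) := Nat.mul_le_mul_left _ h3
    _ = (Subgroup.normalizer ((P : Subgroup G) : Set G)).index *
        (2 * Nat.card (Subgroup.centralizer ((P : Subgroup G) : Set G))) := by ring
    _ ≤ _ := by rw [← h4]; exact Nat.mul_le_mul_left _ h2

end Cfsg.Agent.FGS
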