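import Cfsg.Agent.SolvLin.Imprim
import Cfsg.Agent.SolvLin.Field
import Cfsg.Agent.Grp.SymplecticType
import Cfsg.Agent.Grp.Cores
import Cfsg.Agent.Grp.MinNormal

/-! An element of a normal `p`-subgroup (`p` odd) acting nontrivially on an irreducible module in
coprime characteristic: some vector is moved by all its conjugates. -/

set_option autoImplicit false

namespace Cfsg.Agent.ConjFix

open Subgroup Finset Cfsg.Agent.Grp.ES Cfsg.Agent.SolvLin
open scoped commutatorElement

universe u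

section
variable {G V : Type*} [Group G] [AddCommGroup V] [DistribMulAction G V] {p : ℕ}

/-- norm map -/
def nm (p : ℕ) (g : G) (v : V) : V := ∑ j ∈ range p, g ^ j • v

theorem smul_nm {g : G} (hg : g ^ p = 1) (v : V) : g • nm p g v = nm p g v := by
  have := sum_range_succ' (fun j => g ^ j • v) p
  rw [sum_range_succ, hg, pow_zero, add_left_inj] at this
  rw [nm, smul_sum, this]
  exact sum_congr rfl fun j _ => by rw [pow_succ', mul_smul]

theorem nm_add (g : G) (v w : V) : nm p g (v + w) = nm p g v + nm p g w := by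
  simp [nm, sum_add_distrib]

theorem nm_congr {g w : G} (h : Commute g w) {v : V} (e : g • v = w • v) : nm p g v = nm p w v :=
  sum_congr rfl fun j hj => by
    clear hj
    induction j with
    | zero => simp
    | succ j ih => rw [pow_succ, mul_smul, e, ← mul_smul, (h.pow_left j).eq, mul_smul, ih,
        pow_succ', mul_smul]

theorem reg [Finite G] [hp : Fact p.Prime] (hp2 : p ≠ 2) {z : G} (hz : ∀ v : V, z • v = v → v = 0)
    (htf : ∀ v : V, p • v = 0 → v = 0) (n : ℕ) : ∀ X : Subgroup G, Nat.card X = n → IsES p z X →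
      (∀ x ∈ X, x ^ p = 1) → ∀ W : AddSubgroup V, W ≠ ⊥ → (∀ x ∈ X, ∀ v ∈ W, x • v ∈ W) →
      ∃ v ∈ W, ∀ x ∈ X, x • v = v → x = 1 := by
  induction n using Nat.strong_induction_on with | h n ih => ?_
  intro X hn hX he W hW hi
  have hz1 : z ≠ 1 := fun e => hp.out.ne_one (by rw [← hX.ord, e, orderOf_one])
  have f1 : ∀ w ∈ zpowers z, w ≠ 1 → ∀ v : V, w • v = v → v = 0 := fun w hw hw1 v hv => by
    obtain ⟨k, rfl⟩ := hX.exists_pow_eq hw hw1
    exact hz v (pow_mem (show w ∈ MulAction.stabilizer G v from hv) k)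
  have f2 : ∀ w ∈ zpowers z, w ≠ 1 → ∀ v : V, nm p w v = 0 := fun w hw hw1 v =>
    f1 w hw hw1 _ (smul_nm (hX.pow_eq_one hw) v)
  obtain ⟨u, hu, hu0⟩ := (AddSubgroup.bot_or_exists_ne_zero W).resolve_left hW
  by_cases hXz : X = zpowers z
  · refine ⟨u, hu, fun x hx e => ?_⟩
    by_contra h
    exact hu0 (f1 x (hXz ▸ hx) h u e)
  obtain ⟨a, ha, b, hb, hab⟩ := hX.exists_pair hXz
  obtain ⟨x, hx, hxb, u', hu', hu0', hxu⟩ : ∃ x ∈ X, ⁅x, b⁆ = z ∧ ∃ u ∈ W, u ≠ 0 ∧ x • u = u := by
    by_contra hc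
    push Not at hc
    have h1 : ∀ i, nm p (a * z ^ i) u = 0 := fun i => by
      have hm := mul_mem ha (pow_mem hX.mem i)
      by_contra h
      refine hc _ hm ?_ _ (sum_mem fun j _ => hi _ (pow_mem hm j) _ hu) h (smul_nm (he _ hm) u)
      rw [hX.mul_left ha (pow_mem hX.mem i) hb, hab,
        ((hX.central b hb).symm.pow_left i).commutator_eq, mul_one]
    have h2 := sum_eq_zero (s := range p) fun i _ => h1 i
    simp only [nm] at h2
    rw [sum_comm, sum_eq_single 0] at h2
    · exact hu0 (htf u (by simpa using h2))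
    · intro j hj hj0
      have := f2 (z ^ j) (pow_mem (mem_zpowers z) j)
        (pow_ne_one_of_lt_orderOf hj0 (by rw [hX.ord]; exact mem_range.1 hj)) u
      rw [← smul_zero (a ^ j), ← this, nm, smul_sum]
      exact sum_congr rfl fun i _ => by
        rw [((hX.central a ha).pow_right i).mul_pow, mul_smul, ← pow_mul, ← pow_mul, mul_comm]
    · exact fun h => (h (mem_range.2 hp.out.pos)).elim
  let W' : AddSubgroup V :=
    { carrier := {v | v ∈ W ∧ x • v = v}
      zero_mem' := ⟨W.zero_mem, smul_zero _⟩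
      add_mem' := fun h h' => ⟨W.add_mem h.1 h'.1, by rw [smul_add, h.2, h'.2]⟩
      neg_mem' := fun h => ⟨W.neg_mem h.1, by rw [smul_neg, h.2]⟩ }
  have f3 : ∀ t : G, Commute x t → ∀ v : V, x • v = v → x • t • v = t • v := fun t ht v hv => by
    rw [← mul_smul, ht.eq, mul_smul, hv]
  obtain ⟨w, hw, hreg⟩ := ih _ (by
      have := hX.card_eq_mul hx hb hxb
      have h1 := Nat.one_lt_pow two_ne_zero hp.out.one_lt
      have h2 : 0 < Nat.card (X ⊓ centralizer {x, b} : Subgroup G) := Nat.card_pos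
      rw [← hn, this]; nlinarith) _ rfl (hX.inf_centralizer hx hb hxb) (fun y hy => he y hy.1) W'
    (fun e => hu0' (AddSubgroup.mem_bot.1 (e ▸ (⟨hu', hxu⟩ : u' ∈ W'))))
    fun t ht v hv => ⟨hi t ht.1 v hv.1, f3 t (IsES.mem_inf_centralizer.1 ht).2.1 v hv.2⟩
  have hw0 : w ≠ 0 := fun e => hz1 (hreg z (hX.inf_centralizer hx hb hxb).mem (by rw [e, smul_zero]))
  have f4 : ∀ (i j : ℤ) (v : V), x • v = v → x ^ i • b ^ j • v = b ^ j • z ^ (i * j) • v := by
    intro i j v hv
    have h1 : ⁅x ^ i, b ^ j⁆ = z ^ (i * j) := by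
      rw [hX.zpow_left hx (zpow_mem hb j), hX.zpow_right hx hb, hxb, ← zpow_mul, mul_comm]
    have h2 : x ^ i • v = v := zpow_mem (show x ∈ MulAction.stabilizer G v from hv) i
    rw [← mul_smul, ← mul_smul, ((hX.central b hb).zpow_zpow _ _).eq, ← h1]
    conv_rhs => rw [← h2, ← mul_smul]
    congr 1
    rw [commutatorElement_def]; group
  have f5 : ∀ (j : ℤ) (v : V), z ^ j ≠ 1 → x • v = v → nm p x (b ^ j • v) = 0 := fun j v hj hv => by
    rw [nm_congr ((hX.central x hx).zpow_right j), f2 _ (zpow_mem (mem_zpowers z) j) hj]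
    have := f4 1 j v hv
    rwa [zpow_one, one_mul, ← mul_smul (b ^ j), ((hX.central b hb).zpow_zpow _ _).eq, mul_smul] at this
  have f6 : ∀ v : V, x • v = v → nm p x v = p • v := fun v hv => by
    rw [nm_congr (Commute.one_right x) (hv.trans (one_smul _ _).symm)]; simp [nm]
  have f7 : ∀ y ∈ X, ∀ j : ℤ, z ^ j = 1 → y ^ j = 1 := fun y hy j hj => by
    rw [← orderOf_dvd_iff_zpow_eq_one, hX.ord] at hj
    obtain ⟨k, rfl⟩ := hj
    rw [zpow_mul, zpow_natCast, he y hy, one_zpow]
  refine ⟨w + b • w, add_mem hw.1 (hi b hb w hw.1), fun s hs e => ?_⟩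
  obtain ⟨i, j, t, ht, rfl⟩ := hX.exists_decomp hx hb hxb hs
  obtain ⟨-, h1, h2⟩ := IsES.mem_inf_centralizer.1 ht
  have h3 := f3 t h1 w hw.2
  have h4 : ∀ k : ℤ, x • z ^ k • t • w = z ^ k • t • w := fun k =>
    f3 _ ((hX.central x hx).zpow_right k) _ h3
  rw [smul_add, ← mul_smul _ b, mul_assoc _ t, ← h2.eq, ← mul_assoc, mul_assoc _ _ b, ← zpow_add_one,
    mul_smul, mul_smul, mul_smul, mul_smul, f4 _ _ _ h3, f4 _ _ _ h3] at e
  have h5 : nm p x (b • w) = 0 := by simpa using f5 1 w (by simpa using hz1) hw.2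
  by_cases hj : z ^ j = 1
  · rw [zpow_add_one, f7 b hb j hj, mul_comm i, zpow_mul, hj, mul_add, zpow_add, mul_comm i, zpow_mul,
      hj] at e
    simp only [one_zpow, one_smul, one_mul, mul_one] at e
    have e2 := congrArg (nm p x) e
    have h6 := f5 1 _ (by simpa using hz1) (h4 i)
    rw [zpow_one] at h6
    rw [nm_add, nm_add, h5, h6, f6 _ h3, f6 _ hw.2, add_zero, add_zero, ← sub_eq_zero, ← smul_sub] at e2
    obtain rfl := hreg t ht (sub_eq_zero.1 (htf _ e2))
    rw [one_smul, add_right_inj, smul_left_cancel_iff] at e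
    have h7 : z ^ i = 1 := by
      by_contra h
      exact hw0 (f1 _ (zpow_mem (mem_zpowers z) i) h w e)
    rw [f7 x hx i h7, f7 b hb j hj, one_mul, one_mul]
  refine (hw0 (htf w ?_)).elim
  by_cases hj' : z ^ (j + 1) = 1
  · have e2 := congrArg (fun v => nm p x (b ^ (-1 : ℤ) • v)) e
    simp only [smul_add, ← mul_smul (b ^ (-1 : ℤ)), ← zpow_add, nm_add] at e2
    rw [f5 _ _ ?_ (h4 _), f5 _ _ (by simpa using hj) (h4 _), f5 _ _ (by simpa using hz1) hw.2] at e2
    · simpa [f6 _ hw.2] using e2.symm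
    · intro h
      have h6 : z ^ 2 = 1 := by
        rw [← zpow_natCast, show ((2 : ℕ) : ℤ) = j + 1 - (-1 + j) by push_cast; ring, zpow_sub, h, hj']
        simp
      exact hp2 ((Nat.prime_dvd_prime_iff_eq hp.out Nat.prime_two).1
        (hX.ord ▸ orderOf_dvd_of_pow_eq_one h6))
  · have e2 := congrArg (nm p x) e
    rw [nm_add, nm_add, f5 _ _ hj (h4 _), f5 _ _ hj' (h4 _), h5, f6 _ hw.2] at e2
    simpa using e2.symm

theorem cyclic_of_not_imprim [Finite G] [Finite V] (hirr : Irr G V) (hI : IsEmpty (Imprim G V))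
    (hf : ∀ g : G, (∀ v : V, g • v = v) → g = 1) (B : Subgroup G) (hB : B.Normal)
    (hc : ∀ x ∈ B, ∀ y ∈ B, x * y = y * x) : IsCyclic B := by
  classical
  haveI := hirr.1
  let ρ := DistribMulAction.toAddMonoidEnd G V
  let K := Subring.closure (ρ '' B)
  have hK : InvComm G K := by
    constructor
    · have := Subring.isMulCommutative_closure (s := ρ '' B) (by
        rintro _ ⟨x, hx, rfl⟩ _ ⟨y, hy, rfl⟩
        rw [← map_mul, ← map_mul, hc x hx y hy])
      intro x hx y hy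
      exact setLike_mul_comm hx hy
    · intro g x hx
      have : K ≤ K.comap (cj g) := by
        rw [Subring.closure_le]
        rintro _ ⟨y, hy, rfl⟩
        exact Subring.subset_closure ⟨_, hB.conj_mem y hy g, by rw [map_mul, map_mul]; rfl⟩
      exact this hx
  have hfield : IsField K := by
    refine ⟨⟨0, 1, fun h => ?_⟩, fun x y => Subtype.ext (hK.1 x x.2 y y.2), fun {x} hx => ?_⟩
    · obtain ⟨v, hv⟩ := exists_ne (0 : V)
      exact hv (DFunLike.congr_fun (congrArg Subtype.val h) v).symm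
    · obtain ⟨m, hm, hmm⟩ := exists_idem_pow (x : AddMonoid.End V)
      have h1 : (x : AddMonoid.End V) ^ m = 1 := by
        by_contra h
        exact (hK.imprim hirr (pow_mem x.2 m) hmm
          (fun h => hx (Subtype.ext (hK.reduced hirr x.2 ⟨m, h⟩))) h).elim hI.false
      obtain ⟨k, rfl⟩ := Nat.exists_eq_succ_of_ne_zero hm.ne'
      refine ⟨x ^ k, Subtype.ext ?_⟩
      rw [pow_succ'] at h1
      simpa using h1
  letI : Field K := hfield.toField
  let f : B →* K := (ρ.comp B.subtype).codRestrict K fun b => Subring.subset_closure ⟨b, b.2, rfl⟩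
  refine isCyclic_of_injective_ringHom f ((injective_iff_map_eq_one _).2 fun b hb => ?_)
  exact Subtype.ext (hf _ fun v => DFunLike.congr_fun (congrArg Subtype.val hb) v)

theorem qp [Finite G] [Finite V] [hp : Fact p.Prime] (hp2 : p ≠ 2) (hirr : Irr G V)
    (hI : IsEmpty (Imprim G V)) (hf : ∀ g : G, (∀ v : V, g • v = v) → g = 1)
    (htf : ∀ v : V, p • v = 0 → v = 0) (P : Subgroup G) [hP : P.Normal] (hPp : IsPGroup p P) :
    ∃ v : V, ∀ x ∈ P, x • v = v → x = 1 := by
  rcases P.bot_or_nontrivial with rfl | hnt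
  · exact ⟨0, fun x hx _ => hx⟩
  obtain ⟨z, E, hzc, hE, h1, h2, h3⟩ := Grp.SympT.exists_decomp hPp fun A hA hA' => by
    have := cyclic_of_not_imprim hirr hI hf (A.map P.subtype) inferInstance (by
      rintro _ ⟨x, hx, rfl⟩ _ ⟨y, hy, rfl⟩
      rw [← map_mul, ← map_mul, setLike_mul_comm hx hy])
    exact isCyclic_of_surjective _ (equivMapOfInjective A _ P.subtype_injective).symm.surjective
  replace h3 := h3.resolve_right fun h => hp2 h.1
  have h4 : ∀ x g : P, ⁅x, g⁆ ∈ zpowers z := fun x g => by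
    have hc : centralizer (E : Set P) ≤ center P := fun c hc => by
      have : E ⊔ centralizer (E : Set P) ≤ centralizer {c} := sup_le
        (fun e he => mem_centralizer_singleton_iff.2 (hc e he))
        fun e he => mem_centralizer_singleton_iff.2 (setLike_mul_comm he hc)
      exact mem_center_iff.2 fun g => mem_centralizer_singleton_iff.1 (this (h2 ▸ mem_top g))
    haveI : (centralizer (E : Set P)).Normal := ⟨fun c h g => by
      rwa [mem_center_iff.1 (hc h) g, mul_inv_cancel_right]⟩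
    obtain ⟨e, he, c, hc', rfl⟩ := mem_sup_of_normal_right.1 (h2 ▸ mem_top x)
    have := h1 e he g
    rwa [comm_mul_left, (show Commute c g from (mem_center_iff.1 (hc hc') g).symm).commutator_eq, one_mul]
    rw [(show Commute c g from (mem_center_iff.1 (hc hc') g).symm).commutator_eq]
    exact Commute.one_right _
  have h5 : ∀ g : P, ∀ w ∈ zpowers z, Commute g w := fun g w hw =>
    mem_center_iff.1 (zpowers_le.2 hzc hw) g
  let X : Subgroup G :=
    { carrier := {x | x ∈ P ∧ x ^ p = 1}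
      one_mem' := ⟨one_mem _, one_pow _⟩
      inv_mem' := fun h => ⟨inv_mem h.1, by rw [inv_pow, h.2, inv_one]⟩
      mul_mem' := fun {x y} hx hy => ⟨mul_mem hx.1 hy.1, by
        have := congrArg Subtype.val (mul_pow_of_comm_central (h5 ⟨x, hx.1⟩ _ (h4 ⟨y, hy.1⟩ _))
          (h5 _ _ (h4 _ _)) p)
        obtain ⟨k, hk⟩ := hp.out.dvd_choose_self two_ne_zero (lt_of_le_of_ne hp.out.two_le hp2.symm)
        rw [hk, pow_mul, hE.pow_eq_one (h4 _ _), one_pow] at this
        simpa [hx.2, hy.2] using this⟩ }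
  have hXn : X.Normal := ⟨fun x hx g => ⟨hP.conj_mem x hx.1 g, by rw [conj_pow, hx.2]; simp⟩⟩
  have hzX : (z : G) ∈ X := ⟨z.2, congrArg Subtype.val (hE.pow_eq_one (mem_zpowers z))⟩
  have hzc' : ∀ s ∈ X, Commute s (z : G) := fun s hs =>
    congrArg Subtype.val (h5 ⟨s, hs.1⟩ z (mem_zpowers z))
  have hzo : orderOf (z : G) = p := by rw [orderOf_coe, hE.ord]
  have hZ : ∀ a ∈ X, (∀ b ∈ X, Commute a b) → a ∈ zpowers (z : G) := fun a ha h =>
    Grp.SympT.mem_zpowers_of_cyclic (cyclic_of_not_imprim hirr hI hf (X ⊓ centralizer X) inferInstance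
      fun x hx y hy => hy.2 x hx.1) ⟨ha, fun b hb => (h b hb).symm⟩ ⟨hzX, hzc'⟩ (by rw [hzo, ha.2])
  have hX : IsES p (z : G) X := ⟨hzo, hzX, hzc', fun a ha b hb => by
    obtain ⟨k, hk⟩ := h4 ⟨a, ha.1⟩ ⟨b, hb.1⟩
    exact ⟨k, congrArg Subtype.val hk⟩, hZ⟩
  have hz : ∀ v : V, (z : G) • v = v → v = 0 := fun v hv => by
    let U : AddSubgroup V :=
      { carrier := {v | (z : G) • v = v}
        zero_mem' := smul_zero _
        add_mem' := fun {a b} h h' => by change _ • _ = _; rw [smul_add, h, h']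
        neg_mem' := fun {a} h => by change _ • _ = _; rw [smul_neg, h] }
    rcases hirr.2 U (fun g v hv => by
      obtain ⟨k, hk⟩ := hZ _ (hXn.conj_mem' _ hzX g) fun b hb => by
        have := hzc' _ (hXn.conj_mem b hb g)
        rw [Commute, SemiconjBy] at *
        calc _ = g⁻¹ * (z * (g * b * g⁻¹)) * g := by group
          _ = _ := by rw [← this]; group
      have : (g⁻¹ * z * g) • v = v := hk ▸ zpow_mem (show (z : G) ∈ MulAction.stabilizer G v from hv) k
      rwa [mul_smul, mul_smul, inv_smul_eq_iff] at this) with h | h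
    · exact AddSubgroup.mem_bot.1 (h ▸ hv)
    · have := hf z fun v => (h ▸ AddSubgroup.mem_top v : v ∈ U)
      exact (hp.out.ne_one (by rw [← hzo, this, orderOf_one])).elim
  haveI := hirr.1
  obtain ⟨v, -, hv⟩ := reg hp2 hz htf _ X rfl hX (fun x hx => hx.2) ⊤ top_ne_bot fun _ _ _ _ => trivial
  refine ⟨v, fun x hx e => ?_⟩
  by_contra h
  obtain ⟨k, hk⟩ := hPp ⟨x, hx⟩
  replace hk : x ^ p ^ k = 1 := congrArg Subtype.val hk
  induction k with
  | zero => exact h (by simpa using hk)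
  | succ k ih =>
    exact ih (hv _ ⟨pow_mem hx _, by rw [← pow_mul, ← pow_succ, hk]⟩
      (pow_mem (show x ∈ MulAction.stabilizer G v from e) _))

theorem imp [Finite G] [hp : Fact p.Prime] (hirr : Irr G V) (I : Imprim G V) (P : Subgroup G)
    [hP : P.Normal] (hPp : IsPGroup p P) {a : G} (ha : a ∈ P) (hne : ∃ v : V, a • v ≠ v)
    (ih : ∀ a : I.H, (a : G) ∈ P → (∃ v ∈ I.e.range, (a : G) • v ≠ v) →
      ∃ v ∈ I.e.range, ∀ g : I.H, (a : G) • (g : G) • v ≠ (g : G) • v) :
    ∃ v : V, ∀ g : G, a • g • v ≠ g • v := by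
  classical
  by_cases h1 : ∀ g : G, g⁻¹ * a * g ∉ I.H
  · obtain ⟨w, hw, hw0⟩ := I.exists_ne_zero
    refine ⟨w, fun g e => hw0 ?_⟩
    rw [← I.e_mem hw, ← I.orth' (h1 g) hw, mul_smul, mul_smul, e, inv_smul_smul]
  push Not at h1
  have h2 : (P ⊓ I.H).Normal := by
    rw [← normalizer_eq_top_iff]
    by_cases hle : P ≤ I.H
    · rw [inf_eq_left.2 hle, normalizer_eq_top]
    refine I.coatom.2 _ (lt_of_le_of_ne (fun h hh => mem_normalizer_fintype fun x hx =>
      ⟨hP.conj_mem x hx.1 h, I.H.mul_mem (I.H.mul_mem hh hx.2) (I.H.inv_mem hh)⟩) fun e => ?_)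
    haveI := hPp.isNilpotent
    obtain ⟨x, hx, hx'⟩ := SetLike.exists_of_lt (Group.normalizerCondition_of_isNilpotent
      (I.H.subgroupOf P) (lt_top_iff_ne_top.2 fun h => hle (subgroupOf_eq_top.1 h)))
    refine hx' (show (x : G) ∈ I.H from e ▸ mem_normalizer_fintype fun y hy =>
      ⟨hP.conj_mem y hy.1 x, (mem_normalizer_iff.1 hx ⟨y, hy.1⟩).1 hy.2⟩)
  have h3 : ∀ g : G, g⁻¹ * a * g ∈ I.H := fun g => by
    obtain ⟨x, hx⟩ := h1
    have := (h2.conj_mem' _ ⟨hP.conj_mem' a ha x, hx⟩ (x⁻¹ * g)).2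
    simpa [mul_assoc] using this
  obtain ⟨x, hx⟩ : ∃ x : G, ∃ v ∈ I.e.range, (x⁻¹ * a * x) • v ≠ v := by
    by_contra hc
    push Not at hc
    obtain ⟨v, hv⟩ := hne
    refine hv ?_
    clear hv
    have hv : v ∈ AddSubgroup.closure {w | ∃ g : G, ∃ u ∈ I.e.range, g • u = w} := by
      rw [Imprim.closure_eq_top hirr]
      · trivial
      · obtain ⟨v, hv, hv0⟩ := I.exists_ne_zero
        exact fun h => hv0 (AddSubgroup.mem_bot.1 (h ▸ hv))
    induction hv using AddSubgroup.closure_induction with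
    | mem x hx =>
      obtain ⟨x, u, hu, rfl⟩ := hx
      have := hc x u hu
      rwa [mul_smul, mul_smul, inv_smul_eq_iff] at this
    | zero => simp
    | add x y _ _ hx hy => rw [smul_add, hx, hy]
    | neg x _ hx => rw [smul_neg, hx]
  obtain ⟨w, hw, hw'⟩ := ih ⟨_, h3 x⟩ (hP.conj_mem' a ha x) hx
  haveI : Fintype (G ⧸ I.H) := Fintype.ofFinite _
  have hT : ∀ ω : G ⧸ I.H, I.e (ω.out⁻¹ • ∑ ω : G ⧸ I.H, ω.out • w) = w := by
    intro ω
    rw [Finset.smul_sum, map_sum, Finset.sum_eq_single ω]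
    · rw [inv_smul_smul, I.e_mem hw]
    · intro ω' _ hne
      rw [← mul_smul]
      refine I.orth' (fun h => hne ?_) hw
      rw [← QuotientGroup.eq] at h
      simpa using h.symm
    · simp
  refine ⟨∑ ω : G ⧸ I.H, ω.out • w, fun g e => ?_⟩
  generalize ∑ ω : G ⧸ I.H, ω.out • w = v at *
  obtain ⟨h, hh⟩ := QuotientGroup.mk_out_eq_mul I.H (g⁻¹ * x)
  have h4 := hT (g⁻¹ * x : G)
  rw [hh] at h4
  refine hw' h ?_
  rw [← inv_smul_eq_iff, ← mul_smul, ← mul_smul, ← h4,
    ← I.comm _ (mul_mem (mul_mem (inv_mem h.2) (h3 x)) h.2), ← mul_smul]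
  congr 1
  rw [show (h : G)⁻¹ * (x⁻¹ * a * x) * h * (g⁻¹ * x * h)⁻¹ = (g⁻¹ * x * h)⁻¹ * (g⁻¹ * (a * g)) by group,
    mul_smul, mul_smul, mul_smul, e, inv_smul_smul]

end

theorem key {p : ℕ} [Fact p.Prime] (hp2 : p ≠ 2) (n : ℕ) : ∀ (G V : Type u) [Group G] [Finite G]
    [AddCommGroup V] [Finite V] [DistribMulAction G V], Nat.card V = n → Irr G V →
    (∀ v : V, p • v = 0 → v = 0) → ∀ P : Subgroup G, P.Normal →
    (∀ x ∈ P, ∃ k, ∀ v : V, x ^ p ^ k • v = v) → ∀ a ∈ P, (∃ v : V, a • v ≠ v) →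
    ∃ v : V, ∀ g : G, a • g • v ≠ g • v := by
  induction n using Nat.strong_induction_on with | h n ih => ?_
  intro G V _ _ _ _ _ hn hirr htf P hP hPp a ha hne
  let Γ := (MulAction.toPermHom G V).range
  let φ : G →* Γ := (MulAction.toPermHom G V).rangeRestrict
  have hφ : Function.Surjective φ := MonoidHom.rangeRestrict_surjective _
  have hs : ∀ (g : G) (v : V), φ g • v = g • v := fun _ _ => rfl
  letI : DistribMulAction Γ V :=
    { smul_zero := fun g => by obtain ⟨g, rfl⟩ := hφ g; rw [hs, smul_zero]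
      smul_add := fun g v w => by obtain ⟨g, rfl⟩ := hφ g; rw [hs, hs, hs, smul_add] }
  have hirr' : Irr Γ V := ⟨hirr.1, fun U hU => hirr.2 U fun g v hv => hU (φ g) v hv⟩
  have hf : ∀ g : Γ, (∀ v : V, g • v = v) → g = 1 := fun g hg => Subtype.ext (Equiv.ext hg)
  haveI := hP.map φ hφ
  have hPp' : IsPGroup p (P.map φ) := by
    rintro ⟨_, x, hx, rfl⟩
    obtain ⟨k, hk⟩ := hPp x hx
    exact ⟨k, Subtype.ext (hf _ fun v => by
      change (φ x) ^ p ^ k • v = v
      rw [← map_pow, hs, hk])⟩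
  suffices h : ∃ v : V, ∀ g : Γ, φ a • g • v ≠ g • v from h.imp fun v hv g => hv (φ g)
  rcases isEmpty_or_nonempty (Imprim Γ V) with hI | ⟨⟨I⟩⟩
  · obtain ⟨v, hv⟩ := qp hp2 hirr' hI hf htf _ hPp'
    refine ⟨v, fun g e => ?_⟩
    have := hv _ (this.conj_mem' _ ⟨a, ha, rfl⟩ g) (by rw [mul_smul, mul_smul, e, inv_smul_smul])
    obtain ⟨w, hw⟩ := hne
    rw [mul_assoc, inv_mul_eq_one, eq_comm, mul_eq_right] at this
    exact hw (by rw [← hs, this, one_smul])
  · refine imp hirr' I _ hPp' ⟨a, ha, rfl⟩ hne fun b hb hb' => ?_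
    letI := subAct I.e.range I.inv
    obtain ⟨v, hv, hv'⟩ := hb'
    obtain ⟨w, hw⟩ := ih _ (hn ▸ I.card_range_lt) I.H I.e.range rfl (I.irr hirr')
      (fun v hv => Subtype.ext (htf _ (congrArg Subtype.val hv))) ((P.map φ).subgroupOf I.H) inferInstance
      (fun x hx => by
        obtain ⟨k, hk⟩ := hPp' ⟨x, hx⟩
        have hk' := congrArg Subtype.val hk
        exact ⟨k, fun v => by rw [show x ^ p ^ k = 1 from Subtype.ext hk', one_smul]⟩) b hb
      ⟨⟨v, hv⟩, fun e => hv' (congrArg Subtype.val e)⟩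
    exact ⟨w, w.2, fun g e => hw g (Subtype.ext e)⟩

theorem mem_pCore {p : ℕ} [hp : Fact p.Prime] (hp2 : p ≠ 2) (n : ℕ) : ∀ (G : Type u) [Group G]
    [Finite G] [Group.IsSolvable G], Nat.card G = n → ∀ a : G,
    (∀ c : G, ∃ g, IsConj c g ∧ IsPGroup p (closure {a, g * a * g⁻¹})) → a ∈ pCore p G := by
  induction n using Nat.strong_induction_on with | h n ih => ?_
  intro G _ _ _ hn a h
  rcases subsingleton_or_nontrivial G with hG | hG
  · rw [Subsingleton.elim a 1]; exact one_mem _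
  obtain ⟨q, N, hq, hN, hN0, hNc, hNq, hNq', hmin⟩ := Grp.exists_minNormal_elementaryAbelian G
  have h1 : (a : G ⧸ N) ∈ pCore p (G ⧸ N) := ih _ (hn ▸ Grp.card_quotient_lt N hN0) _ rfl _ fun c => by
    induction c using QuotientGroup.induction_on with | H c => ?_
    obtain ⟨g, hg, hg'⟩ := h c
    refine ⟨g, (QuotientGroup.mk' N).map_isConj hg, ?_⟩
    have := hg'.map (QuotientGroup.mk' N)
    rwa [MonoidHom.map_closure, Set.image_pair] at this
  by_cases hqp : q = p
  · subst hqp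
    rw [← Grp.comap_pCore_quotient N hNq']; exact h1
  have h2 : ∀ x ∈ N, ∀ k, x ^ p ^ k = 1 → x = 1 := fun x hx k hk => by
    have := Nat.dvd_gcd (orderOf_dvd_of_pow_eq_one (hNq x hx)) (orderOf_dvd_of_pow_eq_one hk)
    rwa [((Nat.coprime_primes hq hp.out).2 hqp).pow_right k, Nat.dvd_one, orderOf_eq_one_iff] at this
  let L := (pCore p (G ⧸ N)).comap (QuotientGroup.mk' N)
  have h3 : a ∈ centralizer (N : Set G) := by
    letI : CommGroup N := { (inferInstance : Group N) with mul_comm := mul_comm' }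
    letI : DistribMulAction G (Additive N) :=
      { smul := fun a v => Additive.ofMul (MulAut.conjNormal a v.toMul)
        one_smul := fun v => by change Additive.ofMul (MulAut.conjNormal 1 v.toMul) = _; simp
        mul_smul := fun a b v => by
          change Additive.ofMul (MulAut.conjNormal (a * b) v.toMul) = _; rw [map_mul]; rfl
        smul_zero := fun a => map_one (MulAut.conjNormal (H := N) a)
        smul_add := fun a v w => map_mul (MulAut.conjNormal (H := N) a) v.toMul w.toMul }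
    have hs : ∀ (g : G) (v : Additive N), ((g • v).toMul : G) = g * v.toMul * g⁻¹ := fun _ _ => rfl
    by_contra hc
    obtain ⟨v, hv⟩ := key hp2 _ G (Additive N) rfl ⟨(nontrivial_iff_ne_bot N).2 hN0, fun U hU => by
        rcases hmin ((Subgroup.toAddSubgroup.symm U).map N.subtype) ⟨by
          rintro _ ⟨x, hx, rfl⟩ g
          exact ⟨_, hU g (Additive.ofMul x) hx, rfl⟩⟩ (map_subtype_le _) with e | e
        · left
          rw [map_eq_bot_iff_of_injective _ N.subtype_injective] at e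
          simpa using congrArg Subgroup.toAddSubgroup e
        · refine Or.inr (eq_top_iff.2 fun v _ => ?_)
          obtain ⟨x, hx, e'⟩ := e.ge v.toMul.2
          obtain rfl : v = Additive.ofMul x := (Subtype.ext e').symm
          exact hx⟩
      (fun v hv => Subtype.ext (h2 _ v.toMul.2 1 (by
        rw [pow_one]; exact congrArg Subtype.val hv))) L inferInstance
      (fun x hx => by
        obtain ⟨k, hk⟩ := Grp.pCore_isPGroup p _ ⟨_, hx⟩
        have : x ^ p ^ k ∈ N := (QuotientGroup.eq_one_iff _).1 (congrArg Subtype.val hk)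
        refine ⟨k, fun v => Subtype.ext ((hs _ v).trans ?_)⟩
        rw [setLike_mul_comm this v.toMul.2, mul_inv_cancel_right]; rfl) a h1
      (by
        by_contra hh
        push Not at hh
        refine hc fun x hx => ?_
        have := (hs a _).symm.trans (congrArg (fun v => (v.toMul : G)) (hh (Additive.ofMul ⟨x, hx⟩)))
        exact (mul_inv_eq_iff_eq_mul.1 this).symm)
    obtain ⟨g, hg, hg'⟩ := h v.toMul
    obtain ⟨y, rfl⟩ := isConj_iff.1 hg
    refine hv y (Subtype.ext ((hs _ _).trans ?_))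
    change a * (y * v.toMul * y⁻¹) * a⁻¹ = y * v.toMul * y⁻¹
    have hy := hN.conj_mem _ v.toMul.2 y
    generalize y * v.toMul * y⁻¹ = g at *
    obtain ⟨k, hk⟩ := hg' ⟨g * a * g⁻¹ * a⁻¹, mul_mem (subset_closure (by simp))
      (inv_mem (subset_closure (by simp)))⟩
    have := h2 _ (by simpa [mul_assoc] using mul_mem hy (hN.conj_mem _ (inv_mem hy) a)) k
      (congrArg Subtype.val hk)
    rw [mul_inv_eq_one, mul_inv_eq_iff_eq_mul] at this
    rw [← this, mul_inv_cancel_right]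
  let C := L ⊓ centralizer (N : Set G)
  haveI := (Grp.pCore_isPGroup p (G ⧸ N)).isNilpotent
  haveI : Group.IsNilpotent C := Subgroup.isNilpotent_of_ker_le_center
    (((QuotientGroup.mk' N).comp C.subtype).codRestrict (pCore p (G ⧸ N)) fun x => x.2.1)
    (fun x hx => mem_center_iff.2 fun y => Subtype.ext (y.2.2 _
      ((QuotientGroup.eq_one_iff _).1 (congrArg Subtype.val hx))).symm)
  obtain ⟨g, -, hg⟩ := h 1
  obtain ⟨k, hk⟩ := hg ⟨a, subset_closure (by simp)⟩
  have hk' := congrArg Subtype.val hk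
  obtain ⟨S, hS⟩ := (show IsPGroup p (zpowers (⟨a, h1, h3⟩ : C)) from by
    rintro ⟨_, i, rfl⟩
    exact ⟨k, Subtype.ext (by
      change (_ ^ i) ^ _ = 1
      rw [← zpow_natCast, ← zpow_mul, mul_comm, zpow_mul, zpow_natCast,
        show (⟨a, h1, h3⟩ : C) ^ p ^ k = 1 from Subtype.ext hk', one_zpow])⟩).exists_le_sylow
  refine Grp.map_pCore_le_of_normal p C ⟨⟨a, h1, h3⟩, ?_, rfl⟩
  rw [Grp.pCore_eq_sylow_of_normal S inferInstance]
  exact hS (mem_zpowers _)

end Cfsg.Agent.ConjFix
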