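import Mathlib
import Cfsg.Agent.FGS.FrobCompl

/-! A group occurs as a Frobenius complement iff it carries a nonzero integer-valued function whose
sums over the cosets of all subgroups of prime order vanish. -/

namespace Cfsg.Agent.FGS.FrobCompl

open Cfsg.Agent.Solv

/-- `f` sums to zero on the right cosets of the subgroups of prime order. -/
def FpfFun {A M : Type*} [Group A] [AddCommMonoid M] (f : A → M) : Prop :=
  ∀ a : A, (orderOf a).Prime → ∀ g : A, ∑ i ∈ Finset.range (orderOf a), f (a ^ i * g) = 0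

theorem FpfFun.map {A M N F : Type*} [Group A] [AddCommMonoid M] [AddCommMonoid N] [FunLike F M N]
    [AddMonoidHomClass F M N] {f : A → M} (hf : FpfFun f) (l : F) : FpfFun (fun g => l (f g)) := by
  intro a ha g
  rw [← map_sum, hf a ha g, map_zero]

theorem FpfFun.left {A M : Type*} [Group A] [AddCommMonoid M] {f : A → M} (hf : FpfFun f) (x : A) :
    FpfFun (fun g => f (x * g)) := by
  intro a ha g
  have ho : orderOf (x * a * x⁻¹) = orderOf a :=
    (MulAut.conj x).orderOf_eq a
  have := hf (x * a * x⁻¹) (ho ▸ ha) (x * g)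
  rw [ho] at this
  rw [← this]
  refine Finset.sum_congr rfl fun i _ => ?_
  rw [conj_pow]
  group

theorem FpfFun.right {A M : Type*} [Group A] [AddCommMonoid M] {f : A → M} (hf : FpfFun f) (x : A) :
    FpfFun (fun g => f (g * x)) := by
  intro a ha g
  simpa [mul_assoc] using hf a ha (g * x)

/-- It suffices to test fixed-point-freeness on elements of prime order. -/
theorem isFpf_of_prime {A V : Type*} [Group A] [Finite A] [Group V] (φ : A →* MulAut V)
    (h : ∀ a : A, (orderOf a).Prime → ∀ v, φ a v = v → v = 1) : IsFpf φ := by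
  intro a v hav
  by_cases ha : a = 1
  · exact Or.inl ha
  right
  have h1 : orderOf a ≠ 1 := by simpa using ha
  obtain ⟨r, hr, hra⟩ := Nat.exists_prime_and_dvd h1
  have h2 : orderOf (a ^ (orderOf a / r)) = r :=
    orderOf_pow_orderOf_div (orderOf_pos a).ne' hra
  refine h _ (h2.symm ▸ hr) v ?_
  rw [map_pow]
  generalize orderOf a / r = k
  induction k with
  | zero => simp
  | succ k ih => rw [pow_succ, MulAut.mul_apply, hav, ih]

/-- The additive group of all functions with vanishing coset sums. -/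
def fpfSub (A M : Type*) [Group A] [AddCommGroup M] : AddSubgroup (A → M) where
  carrier := {f | FpfFun f}
  add_mem' := by
    intro f g hf hg a ha x
    simp only [Pi.add_apply, Finset.sum_add_distrib, hf a ha x, hg a ha x, add_zero]
  zero_mem' := by intro a ha x; simp
  neg_mem' := by
    intro f hf a ha x
    simp only [Pi.neg_apply, Finset.sum_neg_distrib, hf a ha x, neg_zero]

/-- Left translation on `fpfSub`. -/
def fpfAct (A M : Type*) [Group A] [AddCommGroup M] : A →* MulAut (Multiplicative (fpfSub A M)) where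
  toFun x :=
    { toFun := fun f => Multiplicative.ofAdd ⟨fun g => (f.toAdd : A → M) (x⁻¹ * g),
        FpfFun.left f.toAdd.2 x⁻¹⟩
      invFun := fun f => Multiplicative.ofAdd ⟨fun g => (f.toAdd : A → M) (x * g),
        FpfFun.left f.toAdd.2 x⟩
      left_inv := fun f => by
        apply Multiplicative.toAdd.injective
        ext g
        simp
      right_inv := fun f => by
        apply Multiplicative.toAdd.injective
        ext g
        simp
      map_mul' := fun f g => rfl }
  map_one' := by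
    ext f g
    simp
  map_mul' x y := by
    ext f g
    simp [mul_assoc]

theorem occurs_of_fpfFun {A M : Type*} [Group A] [Finite A] [Nontrivial A] [AddCommGroup M]
    [Finite M] (hM : ∀ r : ℕ, r.Prime → r ∣ Nat.card A → ∀ x : M, r • x = 0 → x = 0)
    {f : A → M} (hf : FpfFun f) (h0 : f ≠ 0) : Occurs A := by
  haveI : Nontrivial (Multiplicative (fpfSub A M)) :=
    ⟨⟨Multiplicative.ofAdd ⟨f, hf⟩, 1, fun h => h0 (congrArg (fun z => (z.toAdd : A → M)) h)⟩⟩
  refine occurs_of_isFpf (fpfAct A M) (isFpf_of_prime _ ?_)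
  intro a ha v hv
  have h1 : ∀ g, (v.toAdd : A → M) (a⁻¹ * g) = (v.toAdd : A → M) g := fun g =>
    congrFun (congrArg (fun z => (z.toAdd : A → M)) hv) g
  have h2 : ∀ (i : ℕ) g, (v.toAdd : A → M) (a ^ i * g) = (v.toAdd : A → M) g := by
    intro i g
    induction i with
    | zero => simp
    | succ i ih => rw [← h1, pow_succ', mul_assoc, inv_mul_cancel_left, ih]
  apply Multiplicative.toAdd.injective
  ext g
  have h3 := v.toAdd.2 a ha g
  simp only [h2, Finset.sum_const, Finset.card_range] at h3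
  exact hM _ ha (orderOf_dvd_natCard a) _ h3

theorem IsFpf.fpfFun {A V : Type*} [Group A] [CommGroup V] {φ : A →* MulAut V} (hφ : IsFpf φ)
    (z : V) : FpfFun (fun g => Additive.ofMul (φ g z)) := by
  intro a ha g
  have hne : a ≠ 1 := by
    rintro rfl
    exact Nat.not_prime_one (by simpa using ha)
  rw [← ofMul_prod]
  have h1 : φ a (∏ i ∈ Finset.range (orderOf a), φ (a ^ i * g) z) =
      ∏ i ∈ Finset.range (orderOf a), φ (a ^ i * g) z := by
    rw [map_prod]
    have h2 := Finset.prod_range_succ (fun i => φ (a ^ i * g) z) (orderOf a)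
    rw [Finset.prod_range_succ', pow_orderOf_eq_one, pow_zero] at h2
    rw [← mul_right_cancel h2]
    refine Finset.prod_congr rfl fun i _ => ?_
    rw [← MulAut.mul_apply, ← map_mul, pow_succ', mul_assoc]
  rcases hφ _ _ h1 with h | h
  · exact absurd h hne
  · rw [h]; rfl

theorem IsFpf.coprime {A V : Type*} [Group A] [Finite A] [Group V] [Finite V]
    {φ : A →* MulAut V} (hφ : IsFpf φ) : (Nat.card A).Coprime (Nat.card V) := by
  rcases subsingleton_or_nontrivial A with h | h
  · simp [Nat.card_of_subsingleton (1 : A)]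
  rcases subsingleton_or_nontrivial V with h' | h'
  · simp [Nat.card_of_subsingleton (1 : V)]
  obtain ⟨L, _, _, H, h1, ⟨e⟩, h2⟩ := occursWith_of_isFpf φ hφ
  rw [← h2, Frob.card_frobeniusKernel h1, Nat.card_congr e.toEquiv]
  exact Frob.coprime_card_index h1

theorem IsFpf.characteristic {A V : Type*} [Group A] [Group V] {φ : A →* MulAut V} (hφ : IsFpf φ)
    (W : Subgroup V) [W.Characteristic] : IsFpf ((MulAut.characteristic W).comp φ) := by
  intro a v h
  rcases hφ a v (congrArg Subtype.val h) with h1 | h1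
  · exact Or.inl h1
  · exact Or.inr (Subtype.ext h1)

/-- Ring-theoretic core of the change of characteristic. -/
theorem one_mem_of_natCast_mem {R S : Type*} [Ring R] [Ring S] [IsSemisimpleRing S]
    (π : R →+* S) (hπ : Function.Surjective π) {p : ℕ} (hp : p.Prime)
    (hker : ∀ x, π x = 0 → ∃ y, x = p • y) (htf : ∀ x : R, p • x = 0 → x = 0)
    (I : Ideal R) (hI : ∀ x ∈ I, ∀ y, x * y ∈ I) {n : ℕ} (hn : ¬ p ∣ n)
    (hII : ∀ x ∈ I, n • x ∈ I • I) {m : ℕ} (hm : m ≠ 0) (hmI : (m : R) ∈ I) :
    ∃ x ∈ I, ∃ y, 1 = x + p • y := by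
  obtain ⟨e', he', hIe⟩ := IsSemisimpleRing.ideal_eq_span_idempotent (I.map π)
  have h1 : e' ∈ I.map π := hIe ▸ Ideal.subset_span rfl
  obtain ⟨e, he, rfl⟩ := (Ideal.mem_map_iff_of_surjective π hπ).1 h1
  have h2 : ∀ x ∈ I, ∃ y, x * (1 - e) = p • y := by
    intro x hx
    apply hker
    have h3 : π x ∈ Ideal.span {π e} := hIe ▸ Ideal.mem_map_of_mem π hx
    obtain ⟨r, hr⟩ := Ideal.mem_span_singleton'.1 h3
    rw [map_mul, map_sub, map_one, ← hr, mul_assoc, mul_sub, mul_one, he'.eq, sub_self, mul_zero]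
  have h3 : ∀ x ∈ I • I, ∃ y ∈ I, x * (1 - e) = p • y := by
    intro x hx
    refine Submodule.smul_induction_on hx ?_ ?_
    · intro i hi j hj
      obtain ⟨y, hy⟩ := h2 j hj
      exact ⟨i * y, hI i hi y, by rw [smul_eq_mul, mul_assoc, hy, mul_smul_comm]⟩
    · rintro x y ⟨x', hx', hxx⟩ ⟨y', hy', hyy⟩
      exact ⟨x' + y', I.add_mem hx' hy', by rw [add_mul, hxx, hyy, smul_add]⟩
  have h4 : ∀ k : ℕ, ∀ x ∈ I, ∃ y ∈ I, n ^ k • (x * (1 - e) ^ k) = p ^ k • y := by
    intro k
    induction k with
    | zero => intro x hx; exact ⟨x, hx, by simp⟩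
    | succ k ih =>
      intro x hx
      obtain ⟨y, hy, hxy⟩ := ih x hx
      obtain ⟨z, hz, hyz⟩ := h3 _ (hII y hy)
      refine ⟨z, hz, ?_⟩
      calc n ^ (k + 1) • (x * (1 - e) ^ (k + 1)) = n • ((n ^ k • (x * (1 - e) ^ k)) * (1 - e)) := by
            rw [pow_succ' n, mul_smul, pow_succ (1 - e), smul_mul_assoc, mul_assoc]
        _ = p ^ k • ((n • y) * (1 - e)) := by
            rw [hxy, smul_mul_assoc, smul_mul_assoc, smul_comm]
        _ = p ^ (k + 1) • z := by rw [hyz, pow_succ, mul_smul]
  have h5 : ∀ k : ℕ, ∀ x : R, p ^ k • x = 0 → x = 0 := by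
    intro k
    induction k with
    | zero => intro x hx; simpa using hx
    | succ k ih => intro x hx; rw [pow_succ, mul_smul] at hx; exact htf x (ih _ hx)
  have h6 : ∀ k : ℕ, ∃ x ∈ I, (1 - e) ^ k = 1 - x := by
    intro k
    induction k with
    | zero => exact ⟨0, I.zero_mem, by simp⟩
    | succ k ih =>
      obtain ⟨x, hx, hk⟩ := ih
      refine ⟨x + (1 - x) * e, I.add_mem hx (I.mul_mem_left _ he), ?_⟩
      rw [pow_succ, hk, mul_sub, mul_one, sub_sub]
  obtain ⟨k, m', hm', rfl⟩ := Nat.exists_eq_pow_mul_and_not_dvd hm p hp.ne_one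
  obtain ⟨y, -, hy⟩ := h4 (k + 1) _ hmI
  obtain ⟨x, hx, hk⟩ := h6 (k + 1)
  have h7 : (n ^ (k + 1) * m') • (1 - x) = p • y := by
    apply sub_eq_zero.1
    apply h5 k
    rw [smul_sub, ← mul_smul (p ^ k) p, ← pow_succ, ← hy, hk, ← nsmul_eq_mul, ← mul_smul,
      ← mul_smul, sub_eq_zero]
    congr 1
    ring
  have h8 : IsCoprime ((n ^ (k + 1) * m' : ℕ) : ℤ) (p : ℤ) := by
    rw [Nat.isCoprime_iff_coprime]
    exact Nat.Coprime.mul_left (Nat.Coprime.pow_left _ ((Nat.Prime.coprime_iff_not_dvd hp).2 hn).symm)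
      ((Nat.Prime.coprime_iff_not_dvd hp).2 hm').symm
  obtain ⟨u, v, huv⟩ := h8
  refine ⟨x, hx, u • y + v • (1 - x), ?_⟩
  have h9 : (1 - x) = (u * ((n ^ (k + 1) * m' : ℕ) : ℤ) + v * p) • (1 - x) := by rw [huv, one_smul]
  rw [add_smul, mul_smul, mul_smul, natCast_zsmul, natCast_zsmul, h7] at h9
  rw [smul_add, smul_comm p u, smul_comm p v, ← h9, add_sub_cancel]

section GroupRing

variable {A : Type*} [Group A]

/-- The norm element of `a` in the integral group ring. -/
noncomputable def normElt (a : A) : MonoidAlgebra ℤ A :=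
  ∑ i ∈ Finset.range (orderOf a), MonoidAlgebra.of ℤ A (a ^ i)

/-- The ideal generated by the norm elements of elements of prime order. -/
noncomputable def normIdeal (A : Type*) [Group A] : Ideal (MonoidAlgebra ℤ A) :=
  Ideal.span {x | ∃ a g : A, (orderOf a).Prime ∧ x = normElt a * MonoidAlgebra.of ℤ A g}

theorem of_mul_normElt (a : A) : MonoidAlgebra.of ℤ A a * normElt a = normElt a := by
  unfold normElt
  rw [Finset.mul_sum]
  have h2 := Finset.sum_range_succ (fun i => MonoidAlgebra.of ℤ A (a ^ i)) (orderOf a)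
  rw [Finset.sum_range_succ', pow_orderOf_eq_one, pow_zero] at h2
  rw [← add_right_cancel h2]
  refine Finset.sum_congr rfl fun i _ => ?_
  rw [← map_mul, pow_succ']

theorem normElt_mul_normElt (a : A) : normElt a * normElt a = orderOf a • normElt a := by
  have h : ∀ i : ℕ, MonoidAlgebra.of ℤ A (a ^ i) * normElt a = normElt a := by
    intro i
    induction i with
    | zero => rw [pow_zero, map_one, one_mul]
    | succ i ih => rw [pow_succ, map_mul, mul_assoc, of_mul_normElt, ih]
  conv_lhs => rw [normElt, Finset.sum_mul]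
  rw [← normElt]
  simp only [h, Finset.sum_const, Finset.card_range]

theorem normIdeal_mul_mem (x : MonoidAlgebra ℤ A) (hx : x ∈ normIdeal A) (y : MonoidAlgebra ℤ A) :
    x * y ∈ normIdeal A := by
  induction y using MonoidAlgebra.induction_on with
  | of h =>
    induction hx using Submodule.span_induction with
    | mem x hx =>
      obtain ⟨a, g, ha, rfl⟩ := hx
      exact Ideal.subset_span ⟨a, g * h, ha, by rw [map_mul, mul_assoc]⟩
    | zero => simp
    | add x y _ _ hx hy => rw [add_mul]; exact Ideal.add_mem _ hx hy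
    | smul r x _ hx => rw [smul_eq_mul, mul_assoc]; exact Ideal.mul_mem_left _ _ hx
  | add f g hf hg => rw [mul_add]; exact Ideal.add_mem _ hf hg
  | smul r f hf => rw [mul_smul_comm]; exact (normIdeal A).toAddSubgroup.zsmul_mem hf r

theorem card_smul_mem [Finite A] (x : MonoidAlgebra ℤ A) (hx : x ∈ normIdeal A) :
    Nat.card A • x ∈ normIdeal A • normIdeal A := by
  induction hx using Submodule.span_induction with
  | mem x hx =>
    obtain ⟨a, g, ha, rfl⟩ := hx
    obtain ⟨c, hc⟩ := orderOf_dvd_natCard a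
    rw [hc, mul_comm, mul_smul, ← smul_mul_assoc, ← normElt_mul_normElt, mul_assoc]
    refine Submodule.smul_of_tower_mem _ c (Submodule.smul_mem_smul ?_ ?_)
    · exact Ideal.subset_span ⟨a, 1, ha, by rw [map_one, mul_one]⟩
    · exact Ideal.subset_span ⟨a, g, ha, rfl⟩
  | zero => simp
  | add x y _ _ hx hy => rw [smul_add]; exact Submodule.add_mem _ hx hy
  | smul r x _ hx => rw [smul_comm]; exact Submodule.smul_mem _ _ hx

/-- The additive functional on the group ring attached to a function. -/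
noncomputable def evalFun {M : Type*} [AddCommGroup M] (f : A → M) : MonoidAlgebra ℤ A →+ M :=
  (Finsupp.linearCombination ℤ f).toAddMonoidHom.comp MonoidAlgebra.coeffAddEquiv.toAddMonoidHom

theorem evalFun_of {M : Type*} [AddCommGroup M] (f : A → M) (g : A) :
    evalFun f (MonoidAlgebra.of ℤ A g) = f g := by
  simp [evalFun]

theorem evalFun_eq_zero {M : Type*} [AddCommGroup M] {f : A → M} (hf : FpfFun f)
    (x : MonoidAlgebra ℤ A) (hx : x ∈ normIdeal A) : evalFun f x = 0 := by
  suffices h : ∀ r, evalFun f (r * x) = 0 by simpa using h 1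
  induction hx using Submodule.span_induction with
  | mem x hx =>
    obtain ⟨a, g, ha, rfl⟩ := hx
    intro r
    induction r using MonoidAlgebra.induction_on with
    | of h =>
      have := hf.left h a ha g
      rw [← this, normElt, Finset.sum_mul, Finset.mul_sum, map_sum]
      refine Finset.sum_congr rfl fun i _ => ?_
      rw [← map_mul, ← map_mul, evalFun_of]
    | add f g hf hg => rw [add_mul, map_add, hf, hg, add_zero]
    | smul r f hf => rw [smul_mul_assoc, map_zsmul, hf, smul_zero]
  | zero => simp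
  | add x y _ _ hx hy => intro r; rw [mul_add, map_add, hx, hy, add_zero]
  | smul s x _ hx => intro r; rw [smul_eq_mul, ← mul_assoc, hx]

theorem exists_int_of_natCast_notMem [Finite A]
    (h : ∀ m : ℕ, m ≠ 0 → (m : MonoidAlgebra ℤ A) ∉ normIdeal A) :
    ∃ f : A → ℤ, FpfFun f ∧ f ≠ 0 := by
  let Q := MonoidAlgebra ℤ A ⧸ (normIdeal A).toAddSubgroup
  let π : MonoidAlgebra ℤ A →+ Q := QuotientAddGroup.mk' _
  have hinj : Function.Injective (zmultiplesHom Q (π 1)) := by
    rw [injective_iff_map_eq_zero]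
    intro z hz
    by_contra hz0
    rw [zmultiplesHom_apply, ← map_zsmul] at hz
    have h1 : z • (1 : MonoidAlgebra ℤ A) ∈ normIdeal A := (QuotientAddGroup.eq_zero_iff _).1 hz
    apply h z.natAbs (Int.natAbs_ne_zero.2 hz0)
    rcases Int.natAbs_eq z with h2 | h2
    · rw [h2] at h1; simpa using h1
    · rw [h2] at h1; simpa using h1
  obtain ⟨l, hl⟩ := (Module.Baer.of_divisible ℚ).extension_property_addMonoidHom _ hinj
    (Int.castAddHom ℚ)
  have hl1 : l (π 1) = 1 := by simpa using DFunLike.congr_fun hl 1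
  let f : A → ℚ := fun g => l (π (MonoidAlgebra.of ℤ A g))
  have hf : FpfFun f := by
    intro a ha g
    have h1 : normElt a * MonoidAlgebra.of ℤ A g ∈ normIdeal A := Ideal.subset_span ⟨a, g, ha, rfl⟩
    have h2 : π (normElt a * MonoidAlgebra.of ℤ A g) = 0 := (QuotientAddGroup.eq_zero_iff _).2 h1
    have h3 := congrArg l h2
    rw [map_zero, normElt, Finset.sum_mul, map_sum, map_sum] at h3
    rw [← h3]
    refine Finset.sum_congr rfl fun i _ => ?_
    rw [← map_mul]
  obtain ⟨b, hb⟩ := IsLocalization.exist_integer_multiples_of_finite (nonZeroDivisors ℤ) f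
  choose f' hf' using hb
  refine ⟨f', ?_, ?_⟩
  · intro a ha g
    apply Int.cast_injective (α := ℚ)
    have h1 : ∀ x, (f' x : ℚ) = (b : ℤ) • f x := fun x => hf' x
    rw [Int.cast_sum, Int.cast_zero]
    simp only [h1]
    rw [← Finset.smul_sum, hf a ha g, smul_zero]
  · intro h0
    have h1 := hf' 1
    have h2 : f 1 = 1 := by simp only [f]; rw [map_one]; exact hl1
    rw [h0, h2] at h1
    have h3 : ((b : ℤ) : ℚ) = 0 := by simpa using h1.symm
    exact nonZeroDivisors.coe_ne_zero b (Int.cast_eq_zero.1 h3)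

theorem exists_int_of_torsionFree [Finite A] {M : Type*} [AddCommGroup M] {f : A → M}
    (hf : FpfFun f) (h : ∀ m : ℕ, m ≠ 0 → m • f 1 ≠ 0) : ∃ f' : A → ℤ, FpfFun f' ∧ f' ≠ 0 := by
  apply exists_int_of_natCast_notMem
  intro m hm hmem
  apply h m hm
  have := evalFun_eq_zero hf _ hmem
  rwa [← nsmul_one, map_nsmul, ← map_one (MonoidAlgebra.of ℤ A), evalFun_of] at this

theorem exists_int_of_prime [Finite A] {M : Type*} [AddCommGroup M] {p : ℕ} (hp : p.Prime)
    (hpA : ¬ p ∣ Nat.card A) {f : A → M} (hf : FpfFun f) (h : ∀ g, p • f g = 0) (h0 : f ≠ 0) :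
    ∃ f' : A → ℤ, FpfFun f' ∧ f' ≠ 0 := by
  apply exists_int_of_natCast_notMem
  intro m hm hmem
  haveI := Fact.mk hp
  haveI : NeZero (Nat.card A : ZMod p) := ⟨by rwa [Ne, ZMod.natCast_eq_zero_iff]⟩
  let π : MonoidAlgebra ℤ A →+* MonoidAlgebra (ZMod p) A :=
    MonoidAlgebra.mapRingHom A (Int.castRingHom (ZMod p))
  have hπ : Function.Surjective π := by
    intro y
    induction y using MonoidAlgebra.induction_linear with
    | zero => exact ⟨0, map_zero _⟩
    | add x y hx hy =>
      obtain ⟨x, rfl⟩ := hx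
      obtain ⟨y, rfl⟩ := hy
      exact ⟨x + y, map_add _ _ _⟩
    | single g r =>
      obtain ⟨r, rfl⟩ := ZMod.intCast_surjective r
      exact ⟨MonoidAlgebra.single g r, by simp [π]⟩
  have hker : ∀ x, π x = 0 → ∃ y, x = p • y := by
    intro x hx
    have h1 : ∀ g, ∃ c : ℤ, x.coeff g = p * c := by
      intro g
      have := congrArg (fun z => z.coeff g) hx
      simp only [π, MonoidAlgebra.coeff_mapRingHom] at this
      exact (ZMod.intCast_zmod_eq_zero_iff_dvd _ _).1 (by simpa using this)
    choose c hc using h1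
    refine ⟨MonoidAlgebra.ofCoeff (Finsupp.equivFunOnFinite.symm c), ?_⟩
    ext g
    rw [hc, MonoidAlgebra.coeff_smul]
    simp
  have htf : ∀ x : MonoidAlgebra ℤ A, p • x = 0 → x = 0 := by
    intro x hx
    ext g
    have := congrArg (fun z => z.coeff g) hx
    rw [MonoidAlgebra.coeff_smul] at this
    simpa [hp.ne_zero] using this
  obtain ⟨x, hx, y, hxy⟩ := one_mem_of_natCast_mem π hπ hp hker htf (normIdeal A)
    normIdeal_mul_mem hpA card_smul_mem hm hmem
  have hpf : ∀ z, p • evalFun f z = 0 := by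
    intro z
    induction z using MonoidAlgebra.induction_on with
    | of g => rw [evalFun_of, h]
    | add a b ha hb => rw [map_add, smul_add, ha, hb, add_zero]
    | smul r a ha => rw [map_zsmul, smul_comm, ha, smul_zero]
  apply h0
  funext g
  rw [← evalFun_of f g, ← mul_one (MonoidAlgebra.of ℤ A g), hxy, mul_add, map_add,
    evalFun_eq_zero hf _ (Ideal.mul_mem_left _ _ hx), mul_smul_comm, map_nsmul, hpf, add_zero]
  rfl

end GroupRing

theorem exists_int_not_dvd {A : Type*} [Group A] {l : ℕ} (hl : 1 < l) {f : A → ℤ} (hf : FpfFun f)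
    (h0 : f ≠ 0) : ∃ f' : A → ℤ, FpfFun f' ∧ ∃ g, ¬ (l : ℤ) ∣ f' g := by
  obtain ⟨g₀, hg₀⟩ := Function.ne_iff.1 h0
  generalize hk : (f g₀).natAbs = k
  induction k using Nat.strong_induction_on generalizing f with
  | _ k ih =>
    by_cases h : ∀ g, (l : ℤ) ∣ f g
    · choose c hc using h
      have hl0 : (l : ℤ) ≠ 0 := by omega
      have hc0 : c g₀ ≠ 0 := by
        intro h1
        apply hg₀
        rw [hc, h1, mul_zero]; rfl
      refine ih (c g₀).natAbs ?_ (f := c) ?_ (fun h => hc0 (congrFun h g₀)) hc0 rfl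
      · rw [← hk, hc, Int.natAbs_mul, Int.natAbs_natCast]
        have := Int.natAbs_pos.2 hc0
        nlinarith
      · intro a ha g
        have := hf a ha g
        simp only [hc] at this
        rw [← Finset.mul_sum] at this
        exact (mul_eq_zero.1 this).resolve_left hl0
    · exact ⟨f, hf, not_forall.1 h⟩

theorem occurs_of_int {A : Type*} [Group A] [Finite A] [Nontrivial A] {f : A → ℤ} (hf : FpfFun f)
    (h0 : f ≠ 0) : Occurs A := by
  obtain ⟨l, hlA, hl⟩ := Nat.exists_infinite_primes (Nat.card A + 1)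
  obtain ⟨f', hf', g, hg⟩ := exists_int_not_dvd hl.one_lt hf h0
  haveI := Fact.mk hl
  refine occurs_of_fpfFun (M := ZMod l) ?_ (hf'.map (Int.castAddHom (ZMod l))) ?_
  · intro r hr hrA x hx
    rw [nsmul_eq_mul, mul_eq_zero, ZMod.natCast_eq_zero_iff] at hx
    refine hx.resolve_left fun h => ?_
    have := Nat.le_of_dvd Nat.card_pos (h.trans hrA)
    omega
  · intro h
    exact hg ((ZMod.intCast_zmod_eq_zero_iff_dvd _ _).1 (congrFun h g))

open scoped IsMulCommutative in
theorem Occurs.exists_int {A : Type*} [Group A] [Finite A] (h : Occurs A) :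
    ∃ f : A → ℤ, FpfFun f ∧ f ≠ 0 := by
  obtain ⟨V, _, _, _, φ, hφ, hV⟩ := h.exists_isFpf
  have hψ := hφ.characteristic (Subgroup.center V)
  haveI : Nontrivial (Subgroup.center V) :=
    (Subgroup.nontrivial_iff_ne_bot _).2 (Group.IsNilpotent.center_ne_bot V)
  obtain ⟨p, hp, hpV⟩ := Nat.exists_prime_and_dvd (Finite.one_lt_card (α := Subgroup.center V)).ne'
  haveI := Fact.mk hp
  obtain ⟨z, hz⟩ := exists_prime_orderOf_dvd_card' p hpV
  refine exists_int_of_prime hp ?_ (hψ.fpfFun z) ?_ ?_
  · intro hpA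
    exact hp.one_lt.ne' (Nat.eq_one_of_dvd_coprimes hψ.coprime hpA hpV)
  · intro g
    rw [← ofMul_pow, ← map_pow, ← hz, pow_orderOf_eq_one, map_one, ofMul_one]
  · intro h0
    have h1 := congrFun h0 1
    rw [map_one] at h1
    have h2 : z = 1 := h1
    rw [h2, orderOf_one] at hz
    exact hp.one_lt.ne hz

theorem occurs_of_torsionFree {A M : Type*} [Group A] [Finite A] [Nontrivial A] [AddCommGroup M]
    {f : A → M} (hf : FpfFun f) (h : ∀ m : ℕ, m ≠ 0 → m • f 1 ≠ 0) : Occurs A := by
  obtain ⟨f', h1, h2⟩ := exists_int_of_torsionFree hf h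
  exact occurs_of_int h1 h2

theorem fpfFun_of_monoidHom {A D : Type*} [Group A] [Ring D] [NoZeroDivisors D] (ρ : A →* D)
    (hρ : ∀ a, ρ a = 1 → a = 1) : FpfFun ρ := by
  intro a ha g
  have hne : a ≠ 1 := by
    rintro rfl
    exact Nat.not_prime_one (by simpa using ha)
  simp only [map_mul, map_pow]
  rw [← Finset.sum_mul]
  have h1 := mul_geom_sum (ρ a) (orderOf a)
  rw [← map_pow, pow_orderOf_eq_one, map_one, sub_self, mul_eq_zero, sub_eq_zero] at h1
  rw [h1.resolve_left fun h => hne (hρ a h), zero_mul]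

end Cfsg.Agent.FGS.FrobCompl
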