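import Mathlib
import Cfsg.Agent.FGS.FpfFun

/-! Fixed-point-free actions of the quaternion group of order eight. -/

namespace Cfsg.Agent.FGS.FrobCompl

open Cfsg.Agent.Solv

theorem exists_sq_add_sq_add_one {N : ℕ} (hN : Odd N) : ∃ a b : ℤ, (N : ℤ) ∣ a ^ 2 + b ^ 2 + 1 := by
  obtain ⟨k, rfl⟩ := hN
  have hc : (4 * k + 1).Coprime (4 * (2 * k + 1)) := by
    apply Nat.Coprime.mul_right
    · rw [Nat.coprime_comm, show 4 * k + 1 = 1 + 4 * k by ring, Nat.coprime_add_mul_left_right]
      simp
    · rw [← Nat.isCoprime_iff_coprime]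
      exact ⟨-1, 2, by push_cast; ring⟩
  obtain ⟨q, -, hq, hmod⟩ := Nat.forall_exists_prime_gt_and_modEq 0 (by omega) hc
  haveI := Fact.mk hq
  have h4 : q % 4 ≠ 3 := by
    have := Nat.ModEq.of_mul_right _ hmod
    unfold Nat.ModEq at this
    omega
  obtain ⟨a, b, hab⟩ := Nat.Prime.sq_add_sq h4
  refine ⟨a, b, ?_⟩
  have h1 := (Nat.modEq_iff_dvd.1 (Nat.ModEq.of_mul_left _ hmod))
  obtain ⟨c, hc⟩ := h1
  refine ⟨2 - c, ?_⟩
  rw [← hab] at hc
  push_cast at hc ⊢
  linear_combination (-1 : ℤ) * hc

theorem isSquare_card_of_quaternion {K : Type*} [AddCommGroup K] [Finite K]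
    (hodd : Odd (Nat.card K)) (i j : AddMonoid.End K) (hi : i * i = -1) (hj : j * j = -1)
    (hij : i * j = -(j * i)) : IsSquare (Nat.card K) := by
  obtain ⟨a, b, c, hc⟩ := exists_sq_add_sq_add_one hodd
  have hN : ∀ x : K, Nat.card K • x = 0 := fun x => card_nsmul_eq_zero'
  have hN' : ((Nat.card K : ℤ) : AddMonoid.End K) = 0 := by
    ext x
    simpa using hN x
  let t : AddMonoid.End K := a • i + b • j
  let s : AddMonoid.End K := i * j
  have ht : t * t = 1 := by
    have h1 : t * t = -((a ^ 2 + b ^ 2 : ℤ) • (1 : AddMonoid.End K)) := by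
      simp only [t, mul_add, add_mul, smul_mul_smul_comm, hi, hj, hij]
      module
    have h2 : (a ^ 2 + b ^ 2 + 1 : ℤ) • (1 : AddMonoid.End K) = 0 := by
      rw [hc, zsmul_eq_mul, Int.cast_mul, hN', zero_mul, zero_mul]
    rw [add_smul, one_smul] at h2
    rw [h1]
    exact (eq_neg_of_add_eq_zero_right h2).symm
  have hji : j * i = -(i * j) := by rw [hij, neg_neg]
  have hs : s * s = -1 := by
    calc s * s = i * (j * i) * j := by simp only [s, mul_assoc]
      _ = -((i * i) * (j * j)) := by rw [hji]; simp only [mul_neg, neg_mul, mul_assoc]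
      _ = -1 := by rw [hi, hj]; simp
  have hst : t * s = -(s * t) := by
    have h1 : i * s = -(s * i) := by
      simp only [s]; rw [mul_assoc, hji, mul_neg, neg_neg]
    have h2 : j * s = -(s * j) := by
      simp only [s]; rw [← mul_assoc, hji, neg_mul]
    simp only [t, mul_add, add_mul, smul_mul_assoc, mul_smul_comm, h1, h2]
    module
  have ht' : ∀ x, t (t x) = x := fun x => DFunLike.congr_fun ht x
  have hst' : ∀ x, t (s x) = -s (t x) := fun x => DFunLike.congr_fun hst x
  have hsinj : Function.Injective s := by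
    intro x y h
    have h1 : s (s x) = -x := DFunLike.congr_fun hs x
    have h2 : s (s y) = -y := DFunLike.congr_fun hs y
    rw [h, h2] at h1
    exact (neg_injective h1).symm
  let u : K →+ K := (t - 1 : AddMonoid.End K)
  have hu : ∀ x, u x = t x - x := fun x => rfl
  have hker : ∀ x, x ∈ u.ker ↔ t x = x := fun x => by rw [AddMonoidHom.mem_ker, hu, sub_eq_zero]
  have hrange : ∀ x, x ∈ u.range ↔ t x = -x := by
    intro x
    constructor
    · rintro ⟨y, rfl⟩
      rw [hu, map_sub, ht', neg_sub]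
    · intro hx
      obtain ⟨k, hk⟩ := hodd
      refine ⟨k • x, ?_⟩
      have h1 := hN x
      rw [hk, add_nsmul, one_nsmul, mul_comm, mul_nsmul, two_nsmul] at h1
      rw [hu, map_nsmul, hx, smul_neg, ← neg_add']
      exact neg_eq_of_add_eq_zero_right h1
  have h1 : Nat.card u.ker ≤ Nat.card u.range := by
    refine Nat.card_le_card_of_injective (fun x => ⟨s x, (hrange _).2 ?_⟩) ?_
    · rw [hst', (hker _).1 x.2]
    · intro x y h
      exact Subtype.ext (hsinj (congrArg Subtype.val h))
  have h2 : Nat.card u.range ≤ Nat.card u.ker := by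
    refine Nat.card_le_card_of_injective (fun x => ⟨s x, (hker _).2 ?_⟩) ?_
    · rw [hst', (hrange _).1 x.2, map_neg, neg_neg]
    · intro x y h
      exact Subtype.ext (hsinj (congrArg Subtype.val h))
  refine ⟨Nat.card u.ker, ?_⟩
  rw [← u.ker.card_mul_index, AddSubgroup.index_ker, le_antisymm h2 h1]

theorem IsFpf.odd_isSquare {A V : Type*} [Group A] [Group V] [Finite V] {φ : A →* MulAut V}
    (hφ : IsFpf φ) {x y z : A} (hz : z ≠ 1) (hzz : z * z = 1) (hx : x * x = z) (hy : y * y = z)
    (hxy : x * y = y * x * z) : Odd (Nat.card V) ∧ IsSquare (Nat.card V) := by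
  have h1 : MonoidHom.FixedPointFree (φ z) := fun v hv => (hφ z v hv).resolve_left hz
  have h2 : Function.Involutive (φ z) := fun v => by
    rw [← MulAut.mul_apply, ← map_mul, hzz, map_one, MulAut.one_apply]
  have hodd := h1.odd_card_of_involutive h2
  have hinv : ∀ v, φ z v = v⁻¹ := fun v => congrFun (h1.coe_eq_inv_of_involutive h2) v
  refine ⟨hodd, ?_⟩
  letI : CommGroup V := h1.commGroupOfInvolutive h2
  let F : A → AddMonoid.End (Additive V) := fun g => MonoidHom.toAdditive (φ g : V →* V)
  have hF : ∀ g h, F g * F h = F (g * h) := fun g h => by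
    ext v
    simp only [F, map_mul]
    rfl
  have hFz : F z = -1 := by
    ext v
    exact congrArg Additive.ofMul (hinv v.toMul)
  refine isSquare_card_of_quaternion (K := Additive V) hodd (F x) (F y) ?_ ?_ ?_
  · rw [hF, hx, hFz]
  · rw [hF, hy, hFz]
  · rw [hF, hxy, ← hF, hFz, hF]
    exact mul_neg_one (F (y * x))

open QuaternionGroup in
theorem IsFpf.odd_isSquare_of_quaternion {A V : Type*} [Group A] [Group V] [Finite V]
    {φ : A →* MulAut V} (hφ : IsFpf φ) {m : ℕ} (hm : m ≠ 0) (f : QuaternionGroup (2 * m) →* A)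
    (hf : Function.Injective f) : Odd (Nat.card V) ∧ IsSquare (Nat.card V) := by
  haveI : NeZero (2 * m) := ⟨by omega⟩
  have h0 : ((2 * m : ℕ) : ZMod (2 * (2 * m))) + ((2 * m : ℕ) : ZMod (2 * (2 * m))) = 0 := by
    rw [← Nat.cast_add, ← two_mul, ZMod.natCast_self]
  refine (hφ.comp f hf).odd_isSquare (x := xa 0) (y := xa m) (z := a (2 * m : ℕ)) ?_ ?_ ?_ ?_ ?_
  · rw [one_def, Ne, a.injEq, ZMod.natCast_eq_zero_iff]
    intro h
    have := Nat.le_of_dvd (by omega) h
    omega
  · rw [a_mul_a, h0, one_def]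
  · simp
  · simp
  · rw [xa_mul_xa, xa_mul_xa, a_mul_a]
    congr 1
    push_cast
    ring

open QuaternionGroup in
theorem exists_quaternion_hom {G : Type*} [Group G] (n : ℕ) (x y : G) (hx : x ^ (2 * n) = 1)
    (hy : y * y = x ^ n) (hxy : x * y = y * x⁻¹) :
    ∃ f : QuaternionGroup n →* G, f (a 1) = x ∧ f (xa 0) = y := by
  let l : ZMod (2 * n) →+ Additive G := ZMod.lift (2 * n) ⟨zmultiplesHom _ (Additive.ofMul x), by
    rw [zmultiplesHom_apply, natCast_zsmul, ← ofMul_pow, hx, ofMul_one]⟩
  let r : ZMod (2 * n) → G := fun i => (l i).toMul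
  have hr : ∀ k : ℤ, r k = x ^ k := fun k => by
    simp only [r, l, ZMod.lift_coe]
    simp
  have hadd : ∀ i j, r (i + j) = r i * r j := fun i j => by simp only [r, map_add, toMul_add]
  have hc : ∀ i, r i * y = y * r (-i) := by
    intro i
    obtain ⟨k, rfl⟩ := ZMod.intCast_surjective i
    rw [← Int.cast_neg, hr, hr, zpow_neg, ← inv_zpow]
    exact (SemiconjBy.zpow_right (show SemiconjBy y x⁻¹ x from hxy.symm) k).symm
  have hn : r n = y * y := by rw [hy, ← zpow_natCast, ← hr, Int.cast_natCast]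
  refine ⟨MonoidHom.mk' (fun g => match g with
    | .a i => r i
    | .xa i => y * r i) ?_, ?_, ?_⟩
  · rintro (i | i) (j | j)
    · exact hadd i j
    · change y * r (j - i) = r i * (y * r j)
      rw [← mul_assoc, hc, mul_assoc, ← hadd, neg_add_eq_sub]
    · change y * r (i + j) = y * r i * r j
      rw [hadd, mul_assoc]
    · change r (n + j - i) = y * r i * (y * r j)
      rw [mul_assoc y, ← mul_assoc (r i), hc, mul_assoc y, ← hadd, ← mul_assoc, ← hn, ← hadd]
      congr 1
      ring
  · change r 1 = x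
    rw [← Int.cast_one, hr, zpow_one]
  · change y * r 0 = y
    rw [← Int.cast_zero, hr, zpow_zero, mul_one]

open QuaternionGroup in
theorem occursWith_quaternion {k : ℕ} (hk : Odd k) (h1 : 1 < k) :
    OccursWith (QuaternionGroup 2) (k * k) := by
  haveI : NeZero k := ⟨by omega⟩
  haveI : Fact (1 < k) := ⟨h1⟩
  obtain ⟨a', b', hab⟩ := exists_sq_add_sq_add_one hk
  have hab' : (a' : ZMod k) ^ 2 + (b' : ZMod k) ^ 2 + 1 = 0 := by
    exact_mod_cast (ZMod.intCast_zmod_eq_zero_iff_dvd _ _).2 hab
  generalize (a' : ZMod k) = c at hab'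
  generalize (b' : ZMod k) = d at hab'
  let I : ZMod k × ZMod k ≃+ ZMod k × ZMod k :=
    { toFun := fun v => (-v.2, v.1)
      invFun := fun v => (v.2, -v.1)
      left_inv := fun v => by simp
      right_inv := fun v => by simp
      map_add' := fun v w => by ext <;> simp [add_comm] }
  let J : ZMod k × ZMod k ≃+ ZMod k × ZMod k :=
    { toFun := fun v => (c * v.1 + d * v.2, d * v.1 - c * v.2)
      invFun := fun v => (-(c * v.1 + d * v.2), -(d * v.1 - c * v.2))
      left_inv := fun v => by
        ext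
        · linear_combination (-v.1) * hab'
        · linear_combination (-v.2) * hab'
      right_inv := fun v => by
        ext
        · linear_combination (-v.1) * hab'
        · linear_combination (-v.2) * hab'
      map_add' := fun v w => by ext <;> simp <;> ring }
  let x : MulAut (Multiplicative (ZMod k × ZMod k)) := AddEquiv.toMultiplicative I
  let y : MulAut (Multiplicative (ZMod k × ZMod k)) := AddEquiv.toMultiplicative J
  have hx2 : ∀ v, (x ^ 2) v = v⁻¹ := fun v => by rw [pow_two]; rfl
  refine (exists_quaternion_hom 2 x y ?_ ?_ ?_).elim fun f ⟨hf1, _⟩ => ?_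
  rotate_right
  · have hcard : Nat.card (Multiplicative (ZMod k × ZMod k)) = k * k := by simp
    rw [← hcard]
    refine occursWith_of_isFpf f (isFpf_of_prime f ?_)
    intro g hg v hv
    have h2 : ∀ g : QuaternionGroup 2, g = 1 ∨ g = a 1 ^ 2 ∨ orderOf g = 4 := by
      rintro (i | i)
      · fin_cases i
        · exact Or.inl rfl
        · exact Or.inr (Or.inr orderOf_a_one)
        · exact Or.inr (Or.inl rfl)
        · refine Or.inr (Or.inr ?_)
          rw [← orderOf_inv]
          exact orderOf_a_one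
      · exact Or.inr (Or.inr (orderOf_xa i))
    rcases h2 g with rfl | rfl | h
    · exact absurd hg (by simp [Nat.not_prime_one])
    · rw [map_pow, hf1, hx2] at hv
      have h3 : v ^ 2 = 1 := by rw [pow_two]; nth_rw 1 [← hv]; exact inv_mul_cancel v
      have h4 : v ^ (k * k) = 1 := by rw [← hcard]; exact pow_card_eq_one'
      have h5 := pow_gcd_eq_one.2 ⟨h3, h4⟩
      rwa [Nat.Coprime.gcd_eq_one (Nat.coprime_two_left.2 (hk.mul hk)), pow_one] at h5
    · rw [h] at hg
      exact absurd hg (by decide)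
  · ext v : 1
    rw [show 2 * 2 = 2 + 2 from rfl, pow_add, MulAut.mul_apply, hx2, hx2, inv_inv, MulAut.one_apply]
  · ext v : 1
    rw [hx2]
    apply Multiplicative.toAdd.injective
    ext
    · change c * (c * v.toAdd.1 + d * v.toAdd.2) + d * (d * v.toAdd.1 - c * v.toAdd.2) = -v.toAdd.1
      linear_combination v.toAdd.1 * hab'
    · change d * (c * v.toAdd.1 + d * v.toAdd.2) - c * (d * v.toAdd.1 - c * v.toAdd.2) = -v.toAdd.2
      linear_combination v.toAdd.2 * hab'
  · ext v : 1
    apply Multiplicative.toAdd.injective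
    ext
    · change -(d * v.toAdd.1 - c * v.toAdd.2) = c * v.toAdd.2 + d * (-v.toAdd.1)
      ring
    · change c * v.toAdd.1 + d * v.toAdd.2 = d * v.toAdd.2 - c * (-v.toAdd.1)
      ring

end Cfsg.Agent.FGS.FrobCompl
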