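import Mathlib
import Cfsg.Agent.PLocal.HHRed

/-!
An orbit count refining the critical case of the Hall–Higman theorem: an exceptional element `x`
centralizes the fixed points of the subgroup of order `p` of `⟨x⟩` on `Q / Z`.
-/

namespace Cfsg.Agent.FGS.Gross

open Module Subgroup Cfsg.Agent.FT.Rep Cfsg.Agent.PLocal.HH
open scoped commutatorElement

universe u v

variable {F : Type*} [Field F] {W : Type*} [AddCommGroup W] [Module F W]
  {Γ : Type*} [Group Γ] (ρ : Γ →* End F W) {Γ' : Type*} [Group Γ'] (π : Γ →* Γ')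

structure Crit' (Q : Subgroup Γ) (x : Γ) : Prop where
  nQ : x ∈ normalizer (Q : Set Γ)
  scal : ∀ z ∈ Q, π z = 1 → ∃ c : F, ρ z = c • 1
  nondeg : ∀ t ∈ Q, π t ≠ 1 → ∃ g ∈ Q, π ⁅g, t⁆ = 1 ∧ ρ ⁅g, t⁆ ≠ 1
  cop : ∀ t ∈ Q, π (x * t * x⁻¹ * t⁻¹) = 1 → ρ (x * t * x⁻¹ * t⁻¹) = 1
  card_ne : (Nat.card Q : F) ≠ 0
  irr : ∀ Y : Submodule F W, (∀ g ∈ Q, ∀ w ∈ Y, ρ g w ∈ Y) → (∀ w ∈ Y, ρ x w ∈ Y) → Y = ⊥ ∨ Y = ⊤

theorem cop_of_pow [Nontrivial W] {p : ℕ} [hp : Fact p.Prime] [CharP F p] {x t : Γ} {m : ℕ}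
    (hx : x ^ p ^ m = 1) {c : F} (hc : ρ (x * t * x⁻¹ * t⁻¹) = c • 1) :
    ρ (x * t * x⁻¹ * t⁻¹) = 1 := by
  have h1 : ρ (x * t * x⁻¹) = c • ρ t := by
    rw [show x * t * x⁻¹ = x * t * x⁻¹ * t⁻¹ * t by group, map_mul, hc, smul_mul_assoc, one_mul]
  have h2 : ∀ k : ℕ, ρ (x ^ k * t * (x ^ k)⁻¹) = c ^ k • ρ t := fun k => by
    induction k with
    | zero => simp
    | succ k ih =>
      rw [show x ^ (k + 1) * t * (x ^ (k + 1))⁻¹ = x * (x ^ k * t * (x ^ k)⁻¹) * x⁻¹ by group,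
        map_mul, map_mul, ih, mul_smul_comm, smul_mul_assoc, ← map_mul, ← map_mul, h1, smul_smul,
        pow_succ]
  have h3 := h2 (p ^ m)
  rw [hx, one_mul, inv_one, mul_one] at h3
  obtain ⟨w, hw⟩ := exists_ne (0 : W)
  have h4 : c ^ p ^ m = 1 := smul_left_injective F (apply_ne_zero ρ t hw)
    ((LinearMap.congr_fun h3 w).symm.trans (one_smul F _).symm)
  have h5 : c = 1 := by
    have h6 : (c - 1) ^ p ^ m = 0 := by rw [sub_pow_char_pow, h4, one_pow, sub_self]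
    exact sub_eq_zero.mp (pow_eq_zero_iff (pow_pos hp.out.pos m).ne' |>.mp h6)
  rw [hc, h5, one_smul]

namespace Crit'

variable {ρ π} {Q : Subgroup Γ} {x : Γ} (h : Crit' ρ π Q x)
include h

theorem eq_zero_or_injective (f : End F W) (h1 : ∀ g ∈ Q, f * ρ g = ρ (x * g * x⁻¹) * f)
    (h2 : f * ρ x = ρ x * f) : f = 0 ∨ LinearMap.ker f = ⊥ := by
  rw [or_comm, ← LinearMap.ker_eq_top]
  refine h.irr _ (fun g hg w hw => ?_) fun w hw => ?_
  · rw [LinearMap.mem_ker] at hw ⊢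
    rw [← End.mul_apply, h1 g hg, End.mul_apply, hw, map_zero]
  · rw [LinearMap.mem_ker] at hw ⊢
    rw [← End.mul_apply, h2, End.mul_apply, hw, map_zero]

theorem irrQ [Finite Q] [FiniteDimensional F W] [Nontrivial W] [IsAlgClosed F]
    (Y : Submodule F W) (hY : ∀ g ∈ Q, ∀ w ∈ Y, ρ g w ∈ Y) : Y = ⊥ ∨ Y = ⊤ := by
  classical
  have := Fintype.ofFinite Q
  have hc : ∀ t ∈ Q, x * t * x⁻¹ ∈ Q := fun t ht => (mem_normalizer_iff.mp h.nQ t).mp ht
  set u : End F W := ∑ t : Q, ρ (x * t * x⁻¹ * (t : Γ)⁻¹) with hu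
  have hu1 : ∀ g ∈ Q, u * ρ g = ρ (x * g * x⁻¹) * u := by
    intro g hg
    rw [hu, Finset.sum_mul, Finset.mul_sum]
    refine (Fintype.sum_equiv (Equiv.mulLeft (⟨g, hg⟩ : Q)) _ _ fun t => ?_).symm
    rw [← map_mul, ← map_mul]
    congr 1
    simp only [Equiv.coe_mulLeft, Subgroup.coe_mul]
    group
  have hu2 : u * ρ x = ρ x * u := by
    rw [hu, Finset.sum_mul, Finset.mul_sum]
    refine (Fintype.sum_equiv (Q.normalizerMonoidHom ⟨x, h.nQ⟩).toEquiv _ _ fun t => ?_).symm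
    rw [← map_mul, ← map_mul]
    congr 1
    change _ = x * (x * t * x⁻¹) * x⁻¹ * (x * t * x⁻¹)⁻¹ * x
    group
  set C := (centralizer {π x}).comap π with hC
  have hCm : ∀ t : Γ, t ∈ C ↔ π (x * t * x⁻¹ * t⁻¹) = 1 := fun t => by
    rw [hC, mem_comap, mem_centralizer_singleton_iff, ← commutatorElement_def, map_commutatorElement,
      commutatorElement_eq_one_iff_mul_comm, eq_comm]
  have hu0 : u ≠ 0 := by
    intro h0
    have h1 : avg ρ Q u = ∑ t : Q, if (t : Γ) ∈ C then (Nat.card Q : F) • (1 : End F W) else 0 := by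
      rw [hu, map_sum]
      refine Finset.sum_congr rfl fun t _ => ?_
      split_ifs with ht
      · rw [h.cop t t.2 ((hCm t).mp ht), avg_one]
      · have hm := Q.mul_mem (hc t t.2) (Q.inv_mem t.2)
        obtain ⟨g, hg, hgZ, hg1⟩ := h.nondeg _ hm (fun h3 => ht ((hCm t).mpr h3))
        obtain ⟨c, hc⟩ := h.scal _ (commutator_le_self Q (commutator_mem_commutator hg hm)) hgZ
        exact eq_zero_of_conj ρ _ (avg_conj ρ Q _ hg) hc hg1
    rw [h0, map_zero, ← Finset.sum_filter, Finset.sum_const, ← Nat.cast_smul_eq_nsmul F,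
      smul_smul] at h1
    have h2 : (Finset.univ.filter fun t : Q => (t : Γ) ∈ C).card = Nat.card (C.subgroupOf Q) := by
      rw [Nat.card_eq_fintype_card, Fintype.card_subtype]
      rfl
    rw [h2] at h1
    exact mul_ne_zero (natCast_ne_zero_of_dvd (card_subgroup_dvd_card _) h.card_ne) h.card_ne
      ((smul_eq_zero.mp h1.symm).resolve_right one_ne_zero)
  obtain ⟨v, hv⟩ := (LinearMap.isUnit_iff_ker_eq_bot u).mpr
    ((h.eq_zero_or_injective u hu1 hu2).resolve_left hu0)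
  obtain ⟨c, hc'⟩ := End.exists_eigenvalue (((v⁻¹ : (End F W)ˣ) : End F W) * ρ x)
  obtain ⟨w₀, hw₀⟩ := hc'.exists_hasEigenvector
  have hxu : ρ x - c • u = 0 := by
    refine (h.eq_zero_or_injective _ (fun g hg => ?_) ?_).resolve_right fun hk => hw₀.2 ?_
    · rw [sub_mul, mul_sub, smul_mul_assoc, mul_smul_comm, hu1 g hg, ← map_mul, ← map_mul,
        inv_mul_cancel_right]
    · rw [sub_mul, mul_sub, smul_mul_assoc, mul_smul_comm, hu2]
    · rw [← Submodule.mem_bot F, ← hk, LinearMap.mem_ker, LinearMap.sub_apply, LinearMap.smul_apply,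
        ← map_smul, ← hw₀.apply_eq_smul, ← End.mul_apply, ← hv, Units.mul_inv_cancel_left, sub_self]
  refine h.irr Y hY fun w hw => ?_
  rw [sub_eq_zero.mp hxu, LinearMap.smul_apply, hu, LinearMap.sum_apply]
  exact Y.smul_mem _ (Y.sum_mem fun t _ => hY _ (Q.mul_mem (hc t t.2) (Q.inv_mem t.2)) w hw)

theorem crit_one [Finite Q] [FiniteDimensional F W] [Nontrivial W] [IsAlgClosed F] :
    Crit ρ Q (π.ker ⊓ Q) 1 where
  le := inf_le_right
  nQ := one_mem _
  nZ := one_mem _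
  scal := fun z hz => h.scal z hz.2 hz.1
  nondeg := fun t ht htZ => by
    obtain ⟨g, hg, h1, h2⟩ := h.nondeg t ht fun h3 => htZ ⟨h3, ht⟩
    exact ⟨g, hg, ⟨h1, commutator_le_self Q (commutator_mem_commutator hg ht)⟩, h2⟩
  semireg := fun y hy hy1 => absurd (mem_bot.mp (zpowers_one_eq_bot (G := Γ) ▸ hy)) hy1
  card_ne := h.card_ne
  irr := fun Y h1 _ => h.irrQ Y h1

theorem finrank_sq [Finite Q] [FiniteDimensional F W] [Nontrivial W] [IsAlgClosed F] :
    finrank F W ^ 2 = Nat.card (Q.map π) := by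
  rw [h.crit_one.finrank_sq, inf_relIndex_right, relIndex_ker]

theorem finrank_commutant [Finite Γ] [FiniteDimensional F W] [Nontrivial W] [IsAlgClosed F]
    (hx1 : x ≠ 1) {y : Γ'}
    (hy : ∀ g ∈ zpowers x, g ≠ 1 → Q.map π ⊓ centralizer {π g} ≤ centralizer {y}) :
    finrank F (commutant (ρ x)) * orderOf x ≤ Nat.card (Q.map π) +
      ((orderOf x - 2) * Nat.card (Q.map π ⊓ centralizer {y} : Subgroup Γ') +
        Nat.card (Q.map π ⊓ centralizer {π x} : Subgroup Γ')) := by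
  classical
  set A := Q.map π with hA
  have hXQ : zpowers x ≤ normalizer (Q : Set Γ) := zpowers_le.mpr h.nQ
  let φ : zpowers x →* normalizer (A : Set Γ') :=
    (π.comp (zpowers x).subtype).codRestrict _ fun g => le_normalizer_map π (mem_map_of_mem π (hXQ g.2))
  letI act : MulDistribMulAction (zpowers x) A :=
    MulDistribMulAction.compHom A (A.normalizerMonoidHom.comp φ)
  have hsmul : ∀ (g : zpowers x) (t : A), ((g • t : A) : Γ') = π g * t * (π g)⁻¹ := fun _ _ => rfl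
  have : Finite A := Finite.of_surjective _ (π.subgroupMap_surjective Q)
  have := Fintype.ofFinite A
  have := Fintype.ofFinite (zpowers x)
  have := Fintype.ofFinite (MulAction.orbitRel.Quotient (zpowers x) A)
  have hcx : Fintype.card (zpowers x) = orderOf x := by
    rw [← Nat.card_eq_fintype_card, Nat.card_zpowers]
  have hb := MulAction.sum_card_fixedBy_eq_card_orbits_mul_card_group (zpowers x) A
  have hfix : ∀ g : zpowers x, Fintype.card (MulAction.fixedBy A g) =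
      Nat.card (A ⊓ centralizer {π g} : Subgroup Γ') := by
    intro g
    rw [← Nat.card_eq_fintype_card]
    refine Nat.card_congr ⟨fun a => ⟨a.1, a.1.2, mem_centralizer_singleton_iff.mpr ?_⟩,
      fun a => ⟨⟨a.1, a.2.1⟩, Subtype.ext ?_⟩, fun _ => rfl, fun _ => rfl⟩
    · have := congrArg Subtype.val (MulAction.mem_fixedBy.mp a.2)
      rw [hsmul, mul_inv_eq_iff_eq_mul] at this
      exact this.symm
    · rw [hsmul, mul_inv_eq_iff_eq_mul]
      exact (mem_centralizer_singleton_iff.mp a.2.2).symm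
  set x' : zpowers x := ⟨x, mem_zpowers x⟩ with hx'
  have hx'1 : x' ∈ Finset.univ.erase (1 : zpowers x) :=
    Finset.mem_erase.mpr ⟨fun h => hx1 (congrArg Subtype.val h), Finset.mem_univ _⟩
  rw [← Finset.add_sum_erase _ _ (Finset.mem_univ 1), ← Finset.add_sum_erase _ _ hx'1, hcx, hfix,
    hfix] at hb
  have h0 : Nat.card (A ⊓ centralizer {π (1 : zpowers x)} : Subgroup Γ') = Nat.card A := by
    rw [inf_eq_left.mpr fun a _ => mem_centralizer_singleton_iff.mpr (by simp)]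
  have h1 : ∑ g ∈ (Finset.univ.erase (1 : zpowers x)).erase x', Fintype.card (MulAction.fixedBy A g) ≤
      (orderOf x - 2) * Nat.card (A ⊓ centralizer {y} : Subgroup Γ') := by
    refine (Finset.sum_le_card_nsmul _ _ (Nat.card (A ⊓ centralizer {y} : Subgroup Γ'))
      fun g hg => ?_).trans (le_of_eq ?_)
    · rw [hfix]
      have : Finite (A ⊓ centralizer {y} : Subgroup Γ') :=
        Finite.of_injective _ (inclusion_injective inf_le_left)
      exact card_le_of_le (le_inf inf_le_left (hy g g.2 fun h =>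
        Finset.ne_of_mem_erase (Finset.mem_of_mem_erase hg) (Subtype.ext h)))
    · rw [Finset.card_erase_of_mem hx'1, Finset.card_erase_of_mem (Finset.mem_univ _),
        Finset.card_univ, hcx, smul_eq_mul]
      rfl
  choose s hsQ hs using fun a : A => mem_map.mp a.2
  let Ψ : commutant (ρ x) →ₗ[F] (MulAction.orbitRel.Quotient (zpowers x) A → F) :=
    LinearMap.pi fun o => LinearMap.trace F W ∘ₗ LinearMap.mulRight F (ρ (s o.out)) ∘ₗ
      (commutant (ρ x)).subtype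
  have hinj : Function.Injective Ψ := by
    rw [injective_iff_map_eq_zero]
    intro a ha
    refine Subtype.ext (eq_zero_of_trace ρ h.irrQ h.card_ne a fun t ht => ?_)
    set o : MulAction.orbitRel.Quotient (zpowers x) A := Quotient.mk _ ⟨π t, mem_map_of_mem π ht⟩
    obtain ⟨g, hg⟩ : (⟨π t, mem_map_of_mem π ht⟩ : A) ∈ MulAction.orbit (zpowers x) o.out :=
      Quotient.exact (Quotient.out_eq o).symm
    have hg' : π g * π (s o.out) * (π g)⁻¹ = π t := by
      rw [hs]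
      exact congrArg Subtype.val hg
    refine h.crit_one.trace_mul_eq_zero (s := g * s o.out * (g : Γ)⁻¹) ⟨?_, ?_⟩ ?_
    · change π _ = 1
      rw [map_mul, map_inv, map_mul, map_mul, map_inv, hg', inv_mul_cancel]
    · exact Q.mul_mem (Q.inv_mem ((mem_normalizer_iff.mp (hXQ g.2) _).mp (hsQ _))) ht
    have hcomm : ρ g * a = a * ρ g := by
      obtain ⟨k, hk⟩ := (mem_powers_iff_mem_zpowers.mpr g.2 : (g : Γ) ∈ Submonoid.powers x)
      rw [← hk, map_pow]
      exact (Commute.pow_left a.2 k)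
    have h0 : LinearMap.trace F W (a * ρ (s o.out)) = 0 := congrFun ha o
    rw [ρ.map_mul, ρ.map_mul, ← mul_assoc, ← mul_assoc, ← hcomm, mul_assoc (ρ g), trace_conj', h0]
  have h2 := LinearMap.finrank_le_finrank_of_injective hinj
  rw [finrank_fintype_fun_eq_card] at h2
  have h4 := (Nat.mul_le_mul_right (orderOf x) h2).trans hb.ge
  rw [h0] at h4
  change _ ≤ _ + (Nat.card (A ⊓ centralizer {π x} : Subgroup Γ') + _) at h4
  omega

theorem card_le [Finite Γ] [FiniteDimensional F W] [Nontrivial W] [IsAlgClosed F]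
    {P : ℕ} (hP : 0 < P) (ho : orderOf x = P + 1) (hT : (ρ x - 1) ^ P = 0) {y : Γ'}
    (hy : ∀ g ∈ zpowers x, g ≠ 1 → Q.map π ⊓ centralizer {π g} ≤ centralizer {y}) :
    Nat.card (Q.map π) ≤ P * ((P - 1) * Nat.card (Q.map π ⊓ centralizer {y} : Subgroup Γ') +
        Nat.card (Q.map π ⊓ centralizer {π x} : Subgroup Γ')) := by
  have h1 := h.finrank_sq
  have h2 := h.finrank_commutant (fun h0 => by rw [h0, orderOf_one] at ho; omega) hy
  have h3 := finrank_sq_le _ hT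
  rw [commutant_sub_one, h1] at h3
  rw [ho, show P + 1 - 2 = P - 1 by omega] at h2
  nlinarith

end Crit'

theorem red_card_le {W : Type v} [AddCommGroup W] [Module F W] {Γ : Type u} [Group Γ]
    (ρ : Γ →* End F W) [FiniteDimensional F W] [IsAlgClosed F] [Finite Γ]
    {p q : ℕ} [hp : Fact p.Prime] [hq : Fact q.Prime] [CharP F p] (hpq : p ≠ q) {B Q Z : Subgroup Γ}
    {Y : Submodule F W} (h : Red ρ q B Q Z Y) {x : Γ} (hx : x ∈ B) {n : ℕ}
    (ho : orderOf x = p ^ (n + 1)) (hT : ∀ w ∈ Y, ((ρ x - 1) ^ (p ^ (n + 1) - 1)) w = 0)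
    {L : Subgroup Γ} (hQL : Q ≤ L) (hxL : x ∈ L) (π : L →* Γ')
    (hπ : ∀ t : L, (t : Γ) ∈ Q → (π t = 1 ↔ (t : Γ) ∈ Z)) :
    Nat.card ((Q.subgroupOf L).map π) ≤ (p ^ (n + 1) - 1) * ((p ^ (n + 1) - 1 - 1) *
      Nat.card ((Q.subgroupOf L).map π ⊓ centralizer {π ⟨x, hxL⟩ ^ p ^ n} : Subgroup Γ') +
        Nat.card ((Q.subgroupOf L).map π ⊓ centralizer {π ⟨x, hxL⟩} : Subgroup Γ')) := by
  obtain ⟨Y₀, ⟨hY0, hYY, hYQ, hYx⟩, hmin⟩ := (wellFounded_lt (α := Submodule F W)).has_min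
    {Y₀ : Submodule F W | Y₀ ≠ ⊥ ∧ Y₀ ≤ Y ∧ (∀ g ∈ Q, ∀ w ∈ Y₀, ρ g w ∈ Y₀) ∧ ∀ w ∈ Y₀, ρ x w ∈ Y₀}
    ⟨Y, h.ne_bot, le_rfl, h.invQ, h.invB x hx⟩
  set M := Q ⊔ zpowers x with hM
  obtain ⟨σ, hσ⟩ := exists_restrict ρ M Y₀ (invariant_sup_zpowers ρ hYQ hYx)
  have : Nontrivial Y₀ := Submodule.nontrivial_iff_ne_bot.mpr hY0
  have hQM : Q ≤ M := le_sup_left
  have hML : M ≤ L := sup_le hQL (zpowers_le.mpr hxL)
  set x' : M := ⟨x, mem_sup_right (mem_zpowers x)⟩ with hx'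
  set π' := π.comp (inclusion hML) with hπ'
  have hπZ : ∀ t : M, (t : Γ) ∈ Q → (π' t = 1 ↔ (t : Γ) ∈ Z) := fun t ht => hπ (inclusion hML t) ht
  have hscal : ∀ (z : M) (c : F), (∀ w ∈ Y, ρ z w = c • w) → σ z = c • 1 := fun z c hc => by
    ext w
    rw [hσ, hc w (hYY w.2)]
    rfl
  have ho' : orderOf x' = p ^ (n + 1) := (orderOf_mk _ _).trans ho
  have hscal' : ∀ z ∈ Q.subgroupOf M, π' z = 1 → ∃ c : F, σ z = c • 1 := fun z hz h1 =>
    let ⟨c, hc⟩ := h.scal z ((hπZ z hz).mp h1); ⟨c, hscal z c hc⟩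
  have hnQ : x' ∈ normalizer ((Q.subgroupOf M : Subgroup M) : Set M) :=
    mem_normalizer_subgroupOf (h.nQ hx)
  have hc : Crit' σ π' (Q.subgroupOf M) x' :=
    { nQ := hnQ
      scal := hscal'
      nondeg := fun t ht htZ => by
        have h1 : ¬ ∀ g ∈ Q, ∀ w ∈ Y, ρ (g * t) w = ρ (t * g) w := fun h1 =>
          htZ ((hπZ t ht).mpr (h.nondeg t ht h1))
        push Not at h1
        obtain ⟨g, hg, w, hw, hne⟩ := h1
        have hgZ : ⁅g, (t : Γ)⁆ ∈ Z := h.comm (commutator_mem_commutator hg ht)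
        refine ⟨⟨g, hQM hg⟩, hg, (hπZ _ (h.le hgZ)).mpr hgZ, fun h1 => hne ?_⟩
        obtain ⟨c, hc⟩ := h.scal _ hgZ
        have h2 := hscal ⁅(⟨g, hQM hg⟩ : M), t⁆ c hc
        rw [h1] at h2
        obtain ⟨w', hw'⟩ := exists_ne (0 : Y₀)
        have h3 : c = 1 :=
          smul_left_injective F hw' ((LinearMap.congr_fun h2 w').symm.trans (one_smul F w').symm)
        have e : g * t = ⁅g, (t : Γ)⁆ * (t * g) := by rw [commutatorElement_def]; group
        rw [e, apply_mul, hc _ (h.invQ _ (Q.mul_mem (show (t : Γ) ∈ Q from ht) hg) w hw), h3, one_smul]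
      cop := fun t ht h1 => by
        obtain ⟨c, hc⟩ := hscal' _ (mul_mem ((mem_normalizer_iff.mp hnQ t).mp ht) (inv_mem ht)) h1
        exact cop_of_pow σ (ho' ▸ pow_orderOf_eq_one x') hc
      card_ne := by
        rw [Grp.card_subgroupOf_of_le hQM]
        exact natCast_card_ne_zero hpq h.qQ
      irr := fun Y' h1 h2 => by
        by_cases h0 : Y' = ⊥
        · exact Or.inl h0
        right
        by_contra htop
        refine hmin (Y'.map Y₀.subtype) ⟨?_, (Submodule.map_subtype_le _ _).trans hYY, ?_, ?_⟩ ?_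
        · rwa [Ne, ← LinearMap.le_ker_iff_map, Submodule.ker_subtype, le_bot_iff]
        · rintro g hg _ ⟨w, hw, rfl⟩
          exact ⟨_, h1 ⟨g, hQM hg⟩ hg w hw, hσ _ _⟩
        · rintro _ ⟨w, hw, rfl⟩
          exact ⟨_, h2 w hw, hσ _ _⟩
        · refine lt_of_le_of_ne (Submodule.map_subtype_le _ _) fun h => htop ?_
          apply Submodule.map_injective_of_injective Y₀.injective_subtype
          rw [h, Submodule.map_subtype_top] }
  have hA : (Q.subgroupOf M).map π' = (Q.subgroupOf L).map π := by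
    rw [hπ', ← map_map]
    congr 1
    ext t
    constructor
    · rintro ⟨s, hs, rfl⟩; exact hs
    · exact fun ht => ⟨⟨t, hQM ht⟩, ht, rfl⟩
  have h1p : 1 < p ^ (n + 1) := Nat.one_lt_pow (Nat.succ_ne_zero n) hp.out.one_lt
  have key := hc.card_le (P := p ^ (n + 1) - 1) (by omega) (by omega) (by
      ext w
      rw [coe_sub_one_pow (hσ x'), hT _ (hYY w.2)]
      rfl) (y := π' x' ^ p ^ n) fun g hg hg1 => by
    have hy1 : x' ^ p ^ n ≠ 1 := fun h0 => by
      have := orderOf_dvd_of_pow_eq_one h0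
      rw [ho', Nat.pow_dvd_pow_iff_le_right hp.out.one_lt] at this
      omega
    have hyo : orderOf (x' ^ p ^ n) = p := orderOf_eq_prime
      (by rw [← pow_mul, ← pow_succ, ← ho', pow_orderOf_eq_one]) hy1
    have h2 : x' ^ p ^ n ∈ zpowers g := by
      refine Char.BS.mem_zpowers_of_mem_zpowers_of_dvd (npow_mem_zpowers _ _) hg ?_
      obtain ⟨j, -, hj⟩ := (Nat.dvd_prime_pow hp.out).mp (ho' ▸ orderOf_dvd_of_mem_zpowers hg)
      rw [hyo, hj]
      refine dvd_pow_self p fun h0 => hg1 ?_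
      rwa [h0, pow_zero, orderOf_eq_one_iff] at hj
    obtain ⟨k, hk⟩ := h2
    intro a ha
    rw [← map_pow, ← hk, map_zpow, mem_centralizer_singleton_iff]
    exact (Commute.zpow_right (mem_centralizer_singleton_iff.mp ha.2) k).eq
  rwa [hA] at key

/-- The reduction `PLocal.HH.reduce` together with the orbit count. -/
theorem reduce' {W : Type v} [AddCommGroup W] [Module F W] {Γ : Type u} [Group Γ]
    (ρ : Γ →* End F W) [FiniteDimensional F W] [Finite Γ] (hρ : Function.Injective ρ)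
    {p q : ℕ} [hp : Fact p.Prime] [hq : Fact q.Prime] [CharP F p] (hpq : p ≠ q) {X D Q : Subgroup Γ}
    (hQ : IsPGroup q Q) (hXQ : X ≤ normalizer (Q : Set Γ)) (hDX : D ≤ X)
    (hXD : X ≤ normalizer (D : Set Γ)) (hD : (Nat.card D).Coprime q) (hnt : ⁅Q, D⁆ ≠ ⊥) :
    ∃ (B : Subgroup Γ) (Γ' : Type u) (_ : Group Γ') (_ : Finite Γ') (f : B →* Γ') (A : Subgroup Γ'),
      B ≤ X ∧ IsElementaryAbelian q A ∧ A.Normal ∧
      (D ≤ B → A ≠ ⊥ ∧ ⁅A, (D.subgroupOf B).map f⁆ = A) ∧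
      ∀ x ∈ X, ∀ e, (ρ x - 1) ^ (p ^ e - 1) = 0 → ∃ (a n : ℕ) (hb : x ^ p ^ a ∈ B), a + n + 1 = e ∧
        (Nat.card (⁅A, zpowers (f ⟨_, hb⟩ ^ p ^ n)⁆ : Subgroup Γ') = 1 ∨
          Nat.card (⁅A, zpowers (f ⟨_, hb⟩ ^ p ^ n)⁆ : Subgroup Γ') = (p ^ (n + 1) - 1) ^ 2) ∧
        (orderOf (x ^ p ^ a) = p ^ (n + 1) → Nat.card A ≤ (p ^ (n + 1) - 1) * ((p ^ (n + 1) - 1 - 1) *
          Nat.card (A ⊓ centralizer {f ⟨_, hb⟩ ^ p ^ n} : Subgroup Γ') +
            Nat.card (A ⊓ centralizer {f ⟨_, hb⟩} : Subgroup Γ'))) := by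
  obtain ⟨Ψ, hΨ⟩ := PLocal.exists_end_ringHom_injective F (AlgebraicClosure F) W
  set ρ' := Ψ.toMonoidHom.comp ρ with hρ'
  obtain ⟨B, Q₀, Z, Y, hBX, -, -, hQD, h, hl, hne⟩ :=
    two_step ρ' (hΨ.comp hρ) hpq hQ hXQ hDX hXD hD hnt
  set L := B ⊔ Q₀ with hL
  have hQL : Q₀ ≤ L := le_sup_right
  have hZL : Z ≤ L := h.le.trans hQL
  have hQZ : Q₀ ≤ normalizer (Z : Set Γ) := fun g hg => mem_normalizer_fintype fun z hz => by
    have := Z.mul_mem (h.comm (commutator_mem_commutator hg (h.le hz))) hz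
    rwa [commutatorElement_def, inv_mul_cancel_right] at this
  have hZn : (Z.subgroupOf L).Normal :=
    (normal_subgroupOf_iff_le_normalizer hZL).mpr (sup_le h.nZ hQZ)
  have hQn : (Q₀.subgroupOf L).Normal :=
    (normal_subgroupOf_iff_le_normalizer hQL).mpr (sup_le h.nQ le_normalizer)
  let π := QuotientGroup.mk' (Z.subgroupOf L)
  have hπ : ∀ E : Subgroup Γ, (hE : E ≤ B) → (E.subgroupOf B).map (π.comp (inclusion le_sup_left)) =
      (E.subgroupOf L).map π := fun E hE => by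
    rw [← map_map]
    congr 1
    ext t
    constructor
    · rintro ⟨s, hs, rfl⟩; exact hs
    · exact fun ht => ⟨⟨t, hE ht⟩, ht, rfl⟩
  have hcomm : ∀ E : Subgroup Γ, E ≤ B → ⁅Q₀.subgroupOf L, E.subgroupOf L⁆ = ⁅Q₀, E⁆.subgroupOf L :=
    fun E hE => by
      apply map_injective L.subtype_injective
      rw [map_commutator, map_subgroupOf_eq_of_le hQL, map_subgroupOf_eq_of_le (hE.trans le_sup_left),
        map_subgroupOf_eq_of_le ((Solv.commutator_le_of_le_normalizer (hE.trans h.nQ)).trans hQL)]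
  refine ⟨B, L ⧸ Z.subgroupOf L, inferInstance, inferInstance, π.comp (inclusion le_sup_left),
    (Q₀.subgroupOf L).map π, hBX, ⟨⟨⟨?_⟩⟩, ?_⟩, hQn.map π (QuotientGroup.mk'_surjective _),
    fun hDB => ⟨fun h0 => hne hDB ?_, ?_⟩, fun x hx e hT => ?_⟩
  · rintro ⟨_, a, ha, rfl⟩ ⟨_, b, hb, rfl⟩
    refine Subtype.ext (commutatorElement_eq_one_iff_mul_comm.mp ?_)
    exact (map_commutatorElement π a b).symm.trans
      ((QuotientGroup.eq_one_iff _).mpr (h.comm (commutator_mem_commutator ha hb)))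
  · rintro _ ⟨a, ha, rfl⟩
    exact (map_pow π a q).symm.trans ((QuotientGroup.eq_one_iff _).mpr (h.pow a ha))
  · rw [Subgroup.map_eq_bot_iff, QuotientGroup.ker_mk'] at h0
    exact fun t ht => h0 (show (⟨t, hQL ht⟩ : L) ∈ Q₀.subgroupOf L from ht)
  · rw [hπ D hDB, ← map_commutator, hcomm D hDB, hQD]
  · have hT' : (ρ' x - 1) ^ (p ^ e - 1) = 0 := by
      have : (ρ' x - 1) ^ (p ^ e - 1) = Ψ ((ρ x - 1) ^ (p ^ e - 1)) := by
        rw [map_pow, map_sub, map_one]; rfl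
      rw [this, hT, map_zero]
    have hxe : x ^ p ^ e = 1 := hρ (by
      rw [map_pow, map_one, ← sub_eq_zero, ← sub_one_pow_char_pow (F := F) p,
        ← Nat.sub_add_cancel (pow_pos hp.out.pos e), pow_succ, hT, zero_mul])
    obtain ⟨a, n, hae, hb, hw⟩ := hl.level h.ne_bot hx hxe hT'
    refine ⟨a, n, hb, hae, ?_, fun ho => red_card_le ρ' hpq h hb ho hw hQL (mem_sup_left hb) π
      fun t _ => QuotientGroup.eq_one_iff _⟩
    have hE : zpowers ((x ^ p ^ a) ^ p ^ n) ≤ B := zpowers_le.mpr (B.pow_mem hb _)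
    have h1 : zpowers ((π.comp (inclusion le_sup_left)) ⟨_, hb⟩ ^ p ^ n) =
        ((zpowers ((x ^ p ^ a) ^ p ^ n)).subgroupOf L).map π := by
      rw [← hπ _ hE, ← map_pow, ← MonoidHom.map_zpowers]
      congr 1
      apply map_injective B.subtype_injective
      rw [MonoidHom.map_zpowers, map_subgroupOf_eq_of_le hE]
      rfl
    have h2 : Nat.card (⁅(Q₀.subgroupOf L).map π,
        zpowers ((π.comp (inclusion le_sup_left)) ⟨_, hb⟩ ^ p ^ n)⁆ :
        Subgroup _) = Z.relIndex (⁅Q₀, zpowers ((x ^ p ^ a) ^ p ^ n)⁆ ⊔ Z) := by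
      rw [h1, ← map_commutator, hcomm _ hE, ← relIndex_ker, QuotientGroup.ker_mk',
        ← relIndex_sup_right, ← subgroupOf_sup ((Solv.commutator_le_of_le_normalizer
          (hE.trans h.nQ)).trans hQL) hZL, relIndex_subgroupOf (sup_le
          ((Solv.commutator_le_of_le_normalizer (hE.trans h.nQ)).trans hQL) hZL)]
    rw [h2]
    exact (h.card ρ' hpq hb hw).imp_left fun h3 => relIndex_eq_one.mpr (sup_le h3 le_rfl)

end Cfsg.Agent.FGS.Gross
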