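import Mathlib
import Cfsg.Agent.FGS.GrossCount
import Cfsg.Agent.FGS.GrossRefl
import Cfsg.Agent.PLocal.HHExp
import Cfsg.Agent.PLocal.SylowIn
import Cfsg.Agent.PLocal.ElemAb
import Cfsg.Agent.Grp.Fitting
import Cfsg.Agent.Grp.CardProduct

/-!
Gross's theorem: in a solvable linear group in characteristic two without normal `2`-subgroups in which all
`2`-elements are exceptional of level `e + 1`, the `2 ^ e`-th powers of `2`-elements lie in `O_{2',2}`.
-/

namespace Cfsg.Agent.FGS.Gross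

open Module Subgroup Cfsg.Agent.PLocal Cfsg.Agent.PLocal.HH
open scoped commutatorElement IsMulCommutative

universe u v

theorem refl_of_card {Γ : Type*} [Group Γ] [Finite Γ] {A : Subgroup Γ} [A.Normal] [IsMulCommutative A]
    (hA : Odd (Nat.card A)) {h : Γ} {n : ℕ} (hh : h ^ 2 ^ (n + 1) = 1)
    (h1 : Nat.card (⁅A, zpowers (h ^ 2 ^ n)⁆ : Subgroup Γ) = (2 ^ (n + 1) - 1) ^ 2)
    (h2 : Nat.card A ≤ (2 ^ (n + 1) - 1) * ((2 ^ (n + 1) - 1 - 1) *
      Nat.card (A ⊓ centralizer {h ^ 2 ^ n} : Subgroup Γ) + Nat.card (A ⊓ centralizer {h} : Subgroup Γ))) :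
    Refl n (MulAut.conjNormal h : MulAut A) := by
  set y := h ^ 2 ^ n with hy
  have hy2 : y * y = 1 := by rw [hy, ← pow_two, ← pow_mul, ← pow_succ, hh]
  have hcop : (Nat.card (zpowers y)).Coprime (Nat.card A) := by
    rw [Nat.card_zpowers]
    exact (Nat.coprime_two_left.mpr hA).coprime_dvd_left (orderOf_dvd_of_pow_eq_one (by rwa [pow_two]))
  have h3 := Solv.coprime_commutator_sup_centralizer (zpowers y) A le_normalizer_of_normal hcop
    (Or.inr (Solv.isSolvable_of_isMulCommutative A))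
  have h4 := Solv.coprime_centralizer_inf_commutator (zpowers y) A le_normalizer_of_normal hcop
  have h5 := Grp.card_mul_card_eq_of_le_normalizer (H := A ⊓ centralizer (zpowers y : Set Γ))
    (K := ⁅A, zpowers y⁆) (inf_le_left.trans (Solv.le_normalizer_commutator_left _ _))
  rw [h4, card_bot, one_mul, sup_comm, h3, h1, centralizer_zpowers_eq] at h5
  have hsq : (MulAut.conjNormal h : MulAut A) ^ 2 ^ n * (MulAut.conjNormal h : MulAut A) ^ 2 ^ n = 1 := by
    rw [← map_pow, ← map_mul, hy2, map_one]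
  have hfix : ∀ (g : Γ) (a : A), (MulAut.conjNormal g : MulAut A) a = a ↔ (a : Γ) ∈ centralizer {g} :=
    fun g a => by
      rw [Subtype.ext_iff, MulAut.conjNormal_apply, mem_centralizer_singleton_iff, mul_inv_eq_iff_eq_mul,
        eq_comm]
  obtain ⟨P, hP⟩ : ∃ P, 2 ^ (n + 1) - 1 = P + 1 :=
    ⟨2 ^ (n + 1) - 2, by have := Nat.one_lt_pow (Nat.succ_ne_zero n) one_lt_two; omega⟩
  refine ⟨hsq, fun a ha => ?_, ?_⟩
  · rw [← map_pow, hfix] at ha
    rw [hfix]
    have h6 : A ⊓ centralizer {h} ≤ A ⊓ centralizer {y} := inf_le_inf_left _ fun b hb =>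
      mem_centralizer_singleton_iff.mpr (Commute.pow_right (mem_centralizer_singleton_iff.mp hb) _).eq
    have h7 := eq_of_le_of_card_ge h6 (by
      rw [← h5, hP, Nat.add_sub_cancel] at h2
      nlinarith)
    exact (h7.ge ⟨a.2, ha⟩).2
  · have h6 := card_neg_mul hA hsq
    have h7 : Nat.card (((MulAut.conjNormal h : MulAut A) ^ 2 ^ n).toMonoidHom.eqLocus (MonoidHom.id A)) =
        Nat.card (A ⊓ centralizer {y} : Subgroup Γ) := by
      rw [← map_pow, inf_comm, ← Grp.card_subgroupOf]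
      refine congrArg (fun K : Subgroup A => Nat.card K) ?_
      ext a
      exact hfix y a
    rw [h7, ← h5, mul_comm] at h6
    exact Nat.eq_of_mul_eq_mul_left Nat.card_pos h6

theorem pow_mem_pPrimePCore {F : Type*} [Field F] [CharP F 2] {W : Type v} [AddCommGroup W] [Module F W]
    [FiniteDimensional F W] {Γ : Type u} [Group Γ] [Finite Γ] [Group.IsSolvable Γ] (ρ : Γ →* End F W)
    (hρ : Function.Injective ρ) (hO : pCore 2 Γ = ⊥) {e : ℕ}
    (hT : ∀ g : Γ, (∃ j, g ^ 2 ^ j = 1) → (ρ g - 1) ^ (2 ^ (e + 1) - 1) = 0) {x : Γ}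
    (hx : ∃ j, x ^ 2 ^ j = 1) : x ^ 2 ^ e ∈ pPrimePCore 2 Γ := by
  obtain ⟨j, hj⟩ := hx
  obtain ⟨S, hS⟩ := (isPGroup_zpowers_of_pow_eq_one hj).exists_le_sylow
  set U := pPrimePCore 2 Γ with hU
  set U₀ := (S : Subgroup Γ) ⊓ U with hU₀
  set X := normalizer (U₀ : Set Γ) with hX
  have hU₀p : IsPGroup 2 U₀ := S.isPGroup'.to_inf_left
  have hxX : x ∈ X := Solv.le_normalizer_inf le_normalizer le_normalizer_of_normal (hS (mem_zpowers x))
  have hSyl : IsSylowIn 2 U₀ U := (isSylowIn_top S).inf_normal le_top le_normalizer_of_normal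
  set K := closure {t | ∃ g ∈ X, (∃ j, g ^ 2 ^ j = 1) ∧ t = g ^ 2 ^ e} with hK
  have hKX : K ≤ X := (closure_le _).mpr (by rintro _ ⟨g, hg, -, rfl⟩; exact X.pow_mem hg _)
  have hXK : X ≤ normalizer (K : Set Γ) := fun g hg => mem_normalizer_fintype fun d hd => by
    refine ((closure_le (K.comap (MulAut.conj g).toMonoidHom)).mpr ?_ : K ≤ _) hd
    rintro _ ⟨a, ha, ⟨i, hi⟩, rfl⟩
    refine subset_closure ⟨g * a * g⁻¹, X.mul_mem (X.mul_mem hg ha) (X.inv_mem hg),
      ⟨i, by rw [conj_pow, hi]; group⟩, ?_⟩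
    rw [conj_pow]
    rfl
  set D := ⨆ r : {r : Γ // r ∈ K ∧ Odd (orderOf r)}, ⁅U₀, zpowers (r : Γ)⁆ with hD
  have hDU : D ≤ U₀ := iSup_le fun r =>
    Solv.commutator_le_of_le_normalizer (zpowers_le.mpr (hKX r.2.1))
  have hDK : D ≤ K := iSup_le fun r => (commutator_mono le_rfl (zpowers_le.mpr r.2.1)).trans
    (commutator_comm U₀ K ▸ Solv.commutator_le_of_le_normalizer (le_normalizer.trans hXK))
  have hXD : X ≤ normalizer (D : Set Γ) := fun g hg => mem_normalizer_fintype fun d hd => by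
    refine ((iSup_le fun r => ?_) : D ≤ D.comap (MulAut.conj g).toMonoidHom) hd
    rw [← map_le_iff_le_comap, map_commutator, MonoidHom.map_zpowers]
    refine le_trans (commutator_mono ?_ le_rfl) (le_iSup (fun r : {r : Γ // r ∈ K ∧ Odd (orderOf r)} =>
      ⁅U₀, zpowers (r : Γ)⁆) ⟨MulAut.conj g r, (mem_normalizer_iff.mp (hXK hg) _).mp r.2.1, ?_⟩)
    · rintro _ ⟨a, ha, rfl⟩
      exact (mem_normalizer_iff.mp hg a).mp ha
    · rw [(MulAut.conj g).orderOf_eq]
      exact r.2.2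
  have hcop : ∀ r : Γ, Odd (orderOf r) → (Nat.card (zpowers r)).Coprime (Nat.card U₀) := fun r hr => by
    rw [Nat.card_zpowers]
    exact Solv.coprime_card_of_isPGroup hU₀p (Nat.coprime_two_right.mpr hr)
  have hDD : D ≤ ⁅D, K⁆ := iSup_le fun r => by
    rw [← Solv.coprime_commutator_commutator _ U₀ (zpowers_le.mpr (hKX r.2.1)) (hcop r r.2.2)
      (Or.inr (Solv.isSolvable_of_isPGroup hU₀p))]
    exact commutator_mono (le_iSup (fun r : {r : Γ // r ∈ K ∧ Odd (orderOf r)} =>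
      ⁅U₀, zpowers (r : Γ)⁆) r) (zpowers_le.mpr r.2.1)
  by_cases hD0 : D = ⊥
  · have h1 : ∀ r ∈ K, Odd (orderOf r) → r ∈ U := fun r hr ho => by
      refine IsPConstrained.centralizer_sylow_inf_le
        (isPConstrained_of_isPSolvable isPSolvable_of_isSolvable) S ?_
      have h2 : ⁅U₀, zpowers r⁆ = ⊥ := le_bot_iff.mp ((le_iSup
        (fun r : {r : Γ // r ∈ K ∧ Odd (orderOf r)} => ⁅U₀, zpowers (r : Γ)⁆) ⟨r, hr, ho⟩).trans hD0.le)
      rw [commutator_comm, commutator_eq_bot_iff_le_centralizer] at h2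
      exact h2 (mem_zpowers r)
    have h2 : (K.map (QuotientGroup.mk' U)).Normal := ⟨by
      rintro _ ⟨k, hk, rfl⟩ g
      obtain ⟨g, rfl⟩ := QuotientGroup.mk'_surjective U g
      obtain ⟨u, hu, n, hn, rfl⟩ := hSyl.frattini (g := g) (le_normalizer_of_normal (mem_top g))
      refine ⟨n * k * n⁻¹, (mem_normalizer_iff.mp (hXK hn) k).mp hk, ?_⟩
      have h3 : QuotientGroup.mk' U u = 1 := (QuotientGroup.eq_one_iff u).mpr hu
      simp only [map_mul, map_inv, h3, one_mul]⟩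
    have h3 : IsPGroup 2 (K.map (QuotientGroup.mk' U)) := isPGroup_subgroup_iff.mpr (by
      rintro _ ⟨k, hk, rfl⟩
      obtain ⟨i, m, hm, him⟩ := Nat.exists_eq_two_pow_mul_odd (orderOf_pos k).ne'
      refine ⟨i, ?_⟩
      rw [← map_pow]
      refine (QuotientGroup.eq_one_iff _).mpr (h1 _ (K.pow_mem hk _) (hm.of_dvd_nat ?_))
      exact orderOf_dvd_of_pow_eq_one (by rw [← pow_mul, ← him, pow_orderOf_eq_one]))
    have h4 := Grp.le_pCore h2 h3
    rw [pCore_quotient_pPrimePCore] at h4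
    exact (QuotientGroup.eq_one_iff _).mp (h4 (mem_map_of_mem _ (subset_closure ⟨x, hxX, ⟨j, hj⟩, rfl⟩)))
  exfalso
  have hDp : IsPGroup 2 D := hU₀p.to_le hDU
  obtain ⟨q, hq⟩ : ∃ q : Nat.Primes, ¬ pCore (q : ℕ) Γ ≤ centralizer (D : Set Γ) := by
    by_contra h
    push Not at h
    have h1 : D ≤ fittingSubgroup Γ := (le_centralizer_iff.mp (by
      rw [Grp.fitting_eq_iSup_pCore]; exact iSup_le h)).trans (Grp.centralizer_fitting_le Γ)
    exact hD0 (le_bot_iff.mp (hO ▸ Grp.le_pCore_of_le_fitting hDp h1))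
  have hqp := Fact.mk q.2
  have h2q : 2 ≠ (q : ℕ) := fun h => hq (by rw [← h, hO]; exact bot_le)
  obtain ⟨B, Γ', _, _, f, A, hBX, hA, hAn, hDB, hsm⟩ := reduce' ρ hρ h2q (Grp.pCore_isPGroup q Γ)
    (X := X) (D := D) le_normalizer_of_normal (hDU.trans le_normalizer) hXD
    (Grp.coprime_card_of_isPGroup_of_ne h2q hDp)
    (fun h => hq (commutator_eq_bot_iff_le_centralizer.mp h))
  have hAc := hA.1
  have hAo : Odd (Nat.card A) :=
    Nat.coprime_two_right.mp (Grp.coprime_card_of_isPGroup_of_ne h2q.symm (elemAb_isPGroup hA))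
  have hKB : K ≤ B := (closure_le _).mpr (by
    rintro _ ⟨g, hg, hgp, rfl⟩
    obtain ⟨a, n, hb, h1, -⟩ := hsm g hg _ (hT g hgp)
    rw [← Nat.succ.inj h1, pow_add, pow_mul]
    exact B.pow_mem hb _)
  let φ : B →* MulAut A := MulAut.conjNormal.comp f
  set D' := (D.subgroupOf B).map φ with hD'
  have hD'p : IsPGroup 2 D' := hDp.comap_subtype.map φ
  have hBD' : ∀ b : B, φ b ∈ normalizer (D' : Set (MulAut A)) := fun b =>
    le_normalizer_map φ (mem_map_of_mem φ (mem_normalizer_subgroupOf (hXD (hBX b.2))))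
  set M := (frattini D').map D'.subtype with hM
  have hBM : ∀ b : B, ∀ m ∈ M, φ b * m * (φ b)⁻¹ ∈ M := fun b m hm =>
    (mem_normalizer_iff.mp (Grp.normalizer_le_normalizer_map_of_characteristic D' _ (hBD' b)) m).mp hm
  let T : Subgroup B :=
    { carrier := {b | ∀ d ∈ D', ⁅d, φ b⁆ ∈ M}
      one_mem' := fun d _ => by rw [map_one, commutatorElement_one_right]; exact one_mem _
      mul_mem' := fun {a b} ha hb d hd => by
        have := M.mul_mem (ha d hd) (hBM a _ (hb d hd))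
        convert this using 1
        simp only [map_mul, commutatorElement_def]
        group
      inv_mem' := fun {a} ha d hd => by
        have := hBM a⁻¹ _ (M.inv_mem (ha d hd))
        convert this using 1
        simp only [map_inv, commutatorElement_def]
        group }
  have hKT : K ≤ T.map B.subtype := (closure_le _).mpr (by
    rintro _ ⟨g, hg, hgp, rfl⟩
    obtain ⟨a, n, hb, h1, h2, h3⟩ := hsm g hg _ (hT g hgp)
    have he : (g ^ 2 ^ a) ^ 2 ^ n = g ^ 2 ^ e := by rw [← pow_mul, ← pow_add, Nat.succ.inj h1]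
    refine ⟨⟨_, hb⟩ ^ 2 ^ n, fun d hd => ?_, he⟩
    by_cases h0 : φ (⟨_, hb⟩ ^ 2 ^ n) = 1
    · rw [h0, commutatorElement_one_right]; exact one_mem _
    have hc1 : Nat.card (⁅A, zpowers (f ⟨_, hb⟩ ^ 2 ^ n)⁆ : Subgroup Γ') ≠ 1 := fun h4 => h0 (by
      rw [card_eq_one, commutator_eq_bot_iff_le_centralizer] at h4
      ext a
      change f _ * a * (f _)⁻¹ = a
      rw [map_pow, h4 a.2 _ (mem_zpowers _), mul_inv_cancel_right])
    have hge : g ^ 2 ^ (e + 1) = 1 := hρ (by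
      rw [map_pow, map_one, ← sub_eq_zero, ← sub_one_pow_char_pow (F := F) 2,
        ← Nat.sub_add_cancel (Nat.two_pow_pos (e + 1)), pow_succ, hT g hgp, zero_mul])
    have hpw : (g ^ 2 ^ a) ^ 2 ^ (n + 1) = 1 := by rw [← pow_mul, ← pow_add, ← add_assoc, h1, hge]
    have ho : orderOf (g ^ 2 ^ a) = 2 ^ (n + 1) := orderOf_eq_prime_pow (fun h4 => h0 (by
      rw [show (⟨_, hb⟩ : B) ^ 2 ^ n = 1 from Subtype.ext h4, map_one])) hpw
    have h4 := h2.resolve_left hc1
    rcases n with _ | n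
    · exact absurd h4 hc1
    have H := refl_of_card hAo (by
      rw [← map_pow, show (⟨_, hb⟩ : B) ^ 2 ^ (n + 1 + 1) = 1 from Subtype.ext hpw, map_one]) h4 (h3 ho)
    obtain ⟨c, hc, hce⟩ := H.commutator_eq_sq hAo hD'p (hBD' ⟨_, hb⟩) hd
    rw [map_pow]
    exact hce ▸ ⟨⟨c, hc⟩ ^ 2, Grp.PFrattini.pow_mem_frattini hD'p _, rfl⟩)
  have h1 : D' ≤ M := by
    have h2 : D.subgroupOf B ≤ ⁅D.subgroupOf B, K.subgroupOf B⁆ := by
      rw [← map_le_map_iff_of_injective B.subtype_injective, map_commutator,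
        map_subgroupOf_eq_of_le (hDK.trans hKB), map_subgroupOf_eq_of_le hKB]
      exact hDD
    refine (map_mono h2).trans ?_
    rw [map_commutator, commutator_le]
    rintro d hd _ ⟨k, hk, rfl⟩
    obtain ⟨k', hk', h3⟩ := hKT hk
    exact (Subtype.ext h3 : k' = k) ▸ hk' d hd
  have h2 : D' = ⊥ := by
    have h3 : frattini D' = ⊤ := eq_top_iff.mpr fun d _ => by
      obtain ⟨m, hm, h4⟩ := h1 d.2
      exact (Subtype.ext h4 : m = d) ▸ hm
    have h4 : (⊥ : Subgroup D') = ⊤ := frattini_nongenerating (by rw [h3, bot_sup_eq])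
    exact (eq_bot_iff_forall _).mpr fun d hd =>
      congrArg Subtype.val (mem_bot.mp (h4.ge (mem_top (⟨d, hd⟩ : D'))))
  obtain ⟨h3, h4⟩ := hDB (hDK.trans hKB)
  refine h3 (h4.symm.trans (commutator_eq_bot_iff_le_centralizer.mpr fun a ha => ?_))
  rintro _ ⟨d, hd, rfl⟩
  have h5 : φ d = 1 := mem_bot.mp (h2.le (mem_map_of_mem φ hd))
  have h6 : f d * a * (f d)⁻¹ = a := congrArg Subtype.val (MulEquiv.congr_fun h5 ⟨a, ha⟩)
  exact mul_inv_eq_iff_eq_mul.mp h6

variable {G : Type u} [Group G]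

theorem expLE_quotient_quotient [Finite G] [Group.IsSolvable G] {e : ℕ} (h : ExpLE 2 (e + 1) G) :
    ExpLE 2 e ((G ⧸ pPrimePCore 2 G) ⧸ pPrimePCore 2 (G ⧸ pPrimePCore 2 G)) := by
  obtain ⟨X₀, _, _, f₀, hEA₀, σ₀, hf₀, -, -, hσ₀, hval₀⟩ :=
    exists_hh_rep (isPConstrained_of_isPSolvable (isPSolvable_of_isSolvable (G := G) (p := 2)))
  have hT : ∀ y : G ⧸ pPrimePCore 2 G, (∃ j, y ^ 2 ^ j = 1) → (σ₀ y - 1) ^ (2 ^ (e + 1) - 1) = 0 := by
    intro y hy
    obtain ⟨x, ⟨j, hj⟩, rfl⟩ := exists_lift_pElement _ (QuotientGroup.mk'_surjective _) hy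
    exact (h.of_surjective f₀ hf₀).sub_one_pow_eq_zero (hval₀ x) ⟨j, by rw [← map_pow, hj, map_one]⟩
  intro y hy
  obtain ⟨x, hx, rfl⟩ := exists_lift_pElement _ (QuotientGroup.mk'_surjective _) hy
  rw [← map_pow]
  exact (QuotientGroup.eq_one_iff _).mpr
    (pow_mem_pPrimePCore σ₀ hσ₀ pCore_quotient_pPrimePCore hT hx)

theorem pLengthLE_one_of_expLE [Finite G] [Group.IsSolvable G] (h : ExpLE 2 1 G) : PLengthLE 2 1 G := by
  obtain ⟨X₀, _, _, f₀, hEA₀, σ₀, hf₀, -, -, hσ₀, hval₀⟩ :=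
    exists_hh_rep (isPConstrained_of_isPSolvable (isPSolvable_of_isSolvable (G := G) (p := 2)))
  refine pLengthLE_succ_iff.mpr (pLengthLE_zero_of_expLE fun y hy => ?_)
  obtain ⟨x, ⟨j, hj⟩, rfl⟩ := exists_lift_pElement _ (QuotientGroup.mk'_surjective _) hy
  have h1 := (h.of_surjective f₀ hf₀).sub_one_pow_eq_zero (hval₀ x) ⟨j, by rw [← map_pow, hj, map_one]⟩
  rw [pow_zero, pow_one]
  refine hσ₀ ?_
  rw [map_one]
  simpa [sub_eq_zero] using h1

theorem pLengthLE_of_expLE (e : ℕ) : ∀ {G : Type u} [Group G] [Finite G] [Group.IsSolvable G],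
    ExpLE 2 (e + 1) G → PLengthLE 2 (2 * e + 1) G := by
  induction e with
  | zero => exact fun h => pLengthLE_one_of_expLE h
  | succ e ih =>
    intro G _ _ _ h
    exact pLengthLE_succ_iff.mpr (pLengthLE_succ_iff.mpr (ih (expLE_quotient_quotient h)))

end Cfsg.Agent.FGS.Gross
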