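import Mathlib
import Cfsg.Prelude.Def_TwoFusion
import Cfsg.Agent.Fus.Flag
import Cfsg.Agent.Fus.GroupHyper
import Cfsg.Agent.Fus.GroupQuot
import Cfsg.Agent.Grp.PFrattini
import Cfsg.Agent.Grp.Frattini
import Cfsg.Agent.Misc.Four
import Cfsg.Agent.PLocal.Alperin
import Cfsg.Agent.Transfer.Tate

/-! `H`-subgroups (`E^g ∩ N(E) ≤ E`), and `p`-groups all of whose subgroups of one order are
invariant under a group of automorphisms. -/

set_option autoImplicit false

namespace Cfsg.Agent.FGS.HSub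

open Subgroup Cfsg.Agent.Fus.AC
open scoped commutatorElement

section Aut
variable {V : Type*} [Group V] [Finite V] {p : ℕ} [hp : Fact p.Prime] {𝒜 : Subgroup (MulAut V)}

/-- An element of the flag kernel of order prime to `p` fixes an invariant subgroup whose subgroups
of index `p` are invariant. -/
theorem fix_of_coatoms (hV : IsPGroup p V) {α : MulAut V} (hα : α ∈ flagKer p 𝒜)
    (hc : (orderOf α).Coprime p) {F : Subgroup V} (hF : Inv 𝒜 F)
    (h : ∀ M : Subgroup V, M ≤ F → M.relIndex F = p → Inv 𝒜 M) : ∀ x ∈ F, α x = x := by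
  obtain ⟨ρ, hρ⟩ := exists_subHom hF
  have h1 : ρ ⟨α, hα.1⟩ = 1 := by
    refine eq_one_of_frattini (hV.to_subgroup F) (Nat.Coprime.coprime_dvd_left ?_ hc) fun y => ?_
    · refine (orderOf_map_dvd ρ _).trans ?_
      rw [← orderOf_coe]
    · refine Grp.le_frattini_iff.2 (fun M hM => ?_) (mem_zpowers _)
      rw [zpowers_le]
      have hi : (M.map F.subtype).relIndex F = p := by
        rw [relIndex, ← Grp.PFrattini.index_of_isCoatom (hV.to_subgroup F) hM]
        congr 1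
        exact comap_map_eq_self_of_injective F.subtype_injective M
      have := (mem_flagKer.1 hα).2 (M.map F.subtype) F
        ⟨h _ (map_subtype_le M) hi, hF, hi ▸ dvd_rfl⟩ y y.2
      obtain ⟨z, hz, e⟩ := this
      have : z = y⁻¹ * ρ ⟨α, hα.1⟩ y := Subtype.ext (by
        rw [coe_mul, hρ]; exact e)
      exact this ▸ hz
  intro x hx
  have := hρ ⟨α, hα.1⟩ ⟨x, hx⟩
  rw [h1] at this
  exact this.symm

omit [Finite V] in
theorem inv_of_le_cyclic {E M : Subgroup V} [Finite E] (hc : IsCyclic E) (hE : Inv 𝒜 E) (hM : M ≤ E) :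
    Inv 𝒜 M := by
  intro a ha x hx
  obtain ⟨c, hc⟩ := (isCyclic_iff_exists_zpowers_eq_top (α := E)).1 hc
  have hm : ∀ y ∈ E, ∃ n : ℤ, (c : V) ^ n = y := fun y hy => by
    obtain ⟨n, hn⟩ := (hc ▸ mem_top (⟨y, hy⟩ : E) : (⟨y, hy⟩ : E) ∈ zpowers c)
    exact ⟨n, by simpa using congrArg Subtype.val hn⟩
  obtain ⟨n, rfl⟩ := hm x (hM hx)
  obtain ⟨m, hm'⟩ := hm _ (hE a ha c c.2)
  rw [map_zpow, ← hm', ← zpow_mul, mul_comm, zpow_mul]
  exact zpow_mem hx m

/-- If all subgroups of order `p ^ k < |V|` are invariant, the flag kernel fixes them. -/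
theorem fix_of_card (hV : IsPGroup p V) {k : ℕ} (hlt : p ^ k < Nat.card V)
    (h : ∀ E : Subgroup V, Nat.card E = p ^ k → Inv 𝒜 E) {α : MulAut V} (hα : α ∈ flagKer p 𝒜)
    (hc : (orderOf α).Coprime p) {E : Subgroup V} (hE : Nat.card E = p ^ k) : ∀ x ∈ E, α x = x := by
  obtain ⟨n, hn⟩ := IsPGroup.iff_card.1 hV
  have hkn : k + 1 ≤ n := (Nat.pow_lt_pow_iff_right hp.out.one_lt).1 (hn ▸ hlt)
  obtain ⟨F, hF, hEF⟩ := Sylow.exists_subgroup_card_pow_prime_le p (m := k + 1)
    (hn ▸ pow_dvd_pow p hkn) E hE (Nat.le_succ k)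
  have hM : ∀ M : Subgroup V, M ≤ F → M.relIndex F = p → Nat.card M = p ^ k := fun M hM hi => by
    have := relIndex_mul_card_of_le_aux hM
    rw [hi, hF, pow_succ, mul_comm] at this
    exact Nat.eq_of_mul_eq_mul_right hp.out.pos this
  by_cases hcy : IsCyclic F
  · have : IsCyclic E := isCyclic_of_le hEF
    exact fix_of_coatoms hV hα hc (h E hE) fun M hM _ => inv_of_le_cyclic this (h E hE) hM
  · have hFi : Inv 𝒜 F := by
      intro a ha x hx
      have hne : zpowers x ≠ F := fun e => hcy (e ▸ inferInstance)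
      obtain ⟨j, hj⟩ := IsPGroup.iff_card.1 (hV.to_subgroup (zpowers x))
      have hlt : Nat.card (zpowers x) < Nat.card F :=
        PLocal.CF.card_lt_of_lt' (lt_of_le_of_ne (zpowers_le.2 hx) hne)
      rw [hj, hF] at hlt
      have hjk : j ≤ k := Nat.lt_succ_iff.1 ((Nat.pow_lt_pow_iff_right hp.out.one_lt).1 hlt)
      obtain ⟨B, h1, h2, h3⟩ := Misc.exists_le_card_eq_pow (zpowers_le.2 hx) hj hjk
        (hF ▸ pow_dvd_pow p (Nat.le_succ k))
      exact h2 (h B h3 a ha x (h1 (mem_zpowers x)))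
    exact fun x hx => fix_of_coatoms hV hα hc hFi (fun M h1 h2 => h M (hM M h1 h2)) x (hEF hx)
where
  relIndex_mul_card_of_le_aux {A B : Subgroup V} (h : A ≤ B) :
      A.relIndex B * Nat.card A = Nat.card B := by
    rw [relIndex, ← Nat.card_congr (subgroupOfEquivOfLe h).toEquiv, index_mul_card]

/-- If all subgroups of order `p ^ k` (and of order four if `p ^ k = 2`) are invariant, where
`1 < p ^ k < |V|`, the flag kernel is a `p`-group. -/
theorem isPGroup_flagKer_of_card (hV : IsPGroup p V) {k : ℕ} (hk : 1 ≤ k) (hlt : p ^ k < Nat.card V)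
    (h : ∀ E : Subgroup V, (Nat.card E = p ^ k ∨ (p ^ k = 2 ∧ Nat.card E = 4)) → Inv 𝒜 E) :
    IsPGroup p (flagKer p 𝒜) := by
  refine isPGroup_of_coprime fun α hα hc => ?_
  obtain ⟨D, -, hD, -, hD'⟩ := Grp.CritExp.exists_char hV
  refine hD' α hc fun d hd => ?_
  obtain ⟨n, hn⟩ := IsPGroup.iff_card.1 hV
  have hkn : k ≤ n := ((Nat.pow_lt_pow_iff_right hp.out.one_lt).1 (hn ▸ hlt)).le
  obtain ⟨j, hj⟩ := IsPGroup.iff_card.1 (hV.to_subgroup (zpowers d))
  by_cases hjk : j ≤ k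
  · obtain ⟨E, hE, hdE⟩ := Sylow.exists_subgroup_card_pow_prime_le p (m := k)
      (hn ▸ pow_dvd_pow p hkn) (zpowers d) hj hjk
    exact fix_of_card hV hlt (fun E hE => h E (Or.inl hE)) hα hc hE d (hdE (mem_zpowers d))
  · have hdvd : p ^ j ∣ Grp.CritExp.expQ p := by
      rw [← hj, Nat.card_zpowers]; exact orderOf_dvd_of_pow_eq_one (hD d hd)
    by_cases h2 : p = 2
    · subst h2
      rw [Grp.CritExp.expQ_two] at hdvd
      have hj2 : j ≤ 2 := (Nat.pow_dvd_pow_iff_le_right (by norm_num)).1 (show 2 ^ j ∣ 2 ^ 2 from hdvd)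
      have hk1 : k = 1 := by omega
      have hj2' : j = 2 := by omega
      subst hk1 hj2'
      have hi : Inv 𝒜 (zpowers d) := h _ (Or.inr ⟨rfl, hj⟩)
      exact fix_of_coatoms hV hα hc hi (fun M hM _ => inv_of_le_cyclic inferInstance hi hM) d
        (mem_zpowers d)
    · rw [Grp.CritExp.expQ_of_ne h2] at hdvd
      have := (Nat.pow_dvd_pow_iff_le_right hp.out.one_lt).1 (show p ^ j ∣ p ^ 1 by simpa using hdvd)
      omega

/-- If the flag kernel is a `p`-group, every proper invariant subgroup has an invariant cyclic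
extension. -/
theorem exists_step_of_flagKer (hV : IsPGroup p V) (hI : Inn V ≤ 𝒜) (hK : IsPGroup p (flagKer p 𝒜))
    {U : Subgroup V} (hU : Inv 𝒜 U) (hne : U ≠ ⊤) : ∃ x, x ∉ U ∧ Inv 𝒜 (U ⊔ zpowers x) := by
  haveI : U.Normal := normal_of_inv hI hU
  obtain ⟨ρ, hρ⟩ := exists_quotHom hU
  have : Nontrivial (V ⧸ U) := QuotientGroup.nontrivial_iff.2 hne
  have hQ : IsPGroup p (V ⧸ U) := hV.to_quotient U
  let K : Subgroup (MulAut (V ⧸ U)) := ((flagKer p 𝒜).subgroupOf 𝒜).map ρ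
  have hKp : IsPGroup p K := (hK.comap_subtype).map ρ
  have hcen : ∀ x ∈ fix K, ∀ y, y * x = x * y := by
    intro x hx y
    obtain ⟨y, rfl⟩ := QuotientGroup.mk_surjective y
    obtain ⟨x, rfl⟩ := QuotientGroup.mk_surjective x
    obtain ⟨k, hk⟩ := hV y
    have hy : MulAut.conj y ∈ 𝒜 := hI ⟨y, rfl⟩
    have hy' : MulAut.conj y ∈ flagKer p 𝒜 :=
      pElt_mem_flagKer hV hy (k := k) (by rw [← map_pow, hk, map_one])
    have := mem_fix.1 hx (ρ ⟨_, hy⟩) ⟨⟨_, hy⟩, hy', rfl⟩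
    rw [hρ, MulAut.conj_apply, QuotientGroup.mk_mul, QuotientGroup.mk_mul, QuotientGroup.mk_inv,
      mul_inv_eq_iff_eq_mul] at this
    exact this
  let W : Subgroup (V ⧸ U) :=
    { carrier := {x | x ∈ fix K ∧ x ^ p = 1}
      one_mem' := ⟨one_mem _, one_pow _⟩
      mul_mem' := fun {x y} hx hy => ⟨mul_mem hx.1 hy.1, by
        rw [Commute.mul_pow (hcen y hy.1 x), hx.2, hy.2, one_mul]⟩
      inv_mem' := fun {x} hx => ⟨inv_mem hx.1, by rw [inv_pow, hx.2, inv_one]⟩ }
  have hfix : ∀ a : 𝒜, (a : MulAut V) ∈ flagKer p 𝒜 → ∀ x ∈ W, ρ a x = x :=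
    fun a ha x hx => mem_fix.1 hx.1 _ ⟨a, ha, rfl⟩
  have hW : Inv ρ.range W := by
    rintro _ ⟨a, rfl⟩ x hx
    refine ⟨mem_fix.2 ?_, by rw [← map_pow, hx.2, map_one]⟩
    rintro _ ⟨b, hb, rfl⟩
    have := hfix (a⁻¹ * b * a⁻¹⁻¹) (conj_mem_flagKer (inv_mem a.2) hb) x hx
    rw [inv_inv, map_mul, map_mul, MulAut.mul_apply, MulAut.mul_apply, map_inv] at this
    have h2 := congrArg (ρ a) this
    rwa [MulAut.apply_inv_self] at h2
  obtain ⟨x, -, hx1, hx⟩ := exists_common_eigen (p := p) hW (by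
      obtain ⟨z, -, hz1, hz⟩ := exists_fix_ne_one hKp (U := ⊤) (hQ.to_subgroup ⊤) (inv_top _)
        top_ne_bot
      obtain ⟨k, hk⟩ := IsPGroup.iff_orderOf.1 hQ z
      have hk0 : k ≠ 0 := by
        rintro rfl
        exact hz1 (orderOf_eq_one_iff.1 (by simpa using hk))
      obtain ⟨k, rfl⟩ := Nat.exists_eq_succ_of_ne_zero hk0
      intro h
      have : z ^ p ^ k ∈ W := ⟨pow_mem hz _, by rw [← pow_mul, ← pow_succ, ← hk, pow_orderOf_eq_one]⟩
      rw [h, mem_bot] at this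
      have := Nat.le_of_dvd (pow_pos hp.out.pos k) (orderOf_dvd_of_pow_eq_one this)
      rw [hk] at this
      exact absurd this (not_le.2 (Nat.pow_lt_pow_right hp.out.one_lt (Nat.lt_succ_self k))))
    (fun x _ y hy => hcen y hy.1 x) (fun x hx => hx.2) (by
      rintro _ ⟨a, rfl⟩ _ ⟨b, rfl⟩ x hx
      have := hfix ⁅a, b⁆ (commutator_mem_flagKer hV a.2 b.2) _
        (hW _ ⟨b, rfl⟩ _ (hW _ ⟨a, rfl⟩ x hx))
      rw [← this, map_commutatorElement]
      simp [commutatorElement_def])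
    (by
      rintro _ ⟨a, rfl⟩ x hx
      rw [← map_pow]
      exact hfix _ (pow_mem_flagKer hV a.2) x hx)
  obtain ⟨x, rfl⟩ := QuotientGroup.mk_surjective x
  refine ⟨x, fun h => hx1 ((QuotientGroup.eq_one_iff x).2 h), fun a ha y hy => ?_⟩
  have e : U ⊔ zpowers x = (zpowers (x : V ⧸ U)).comap (QuotientGroup.mk' U) := by
    rw [← QuotientGroup.mk'_apply, ← MonoidHom.map_zpowers, comap_map_eq, QuotientGroup.ker_mk',
      sup_comm]
  rw [e] at hy ⊢
  have := hx _ ⟨⟨a, ha⟩, rfl⟩ _ hy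
  rwa [QuotientGroup.mk'_apply, hρ] at this

end Aut

variable {G : Type*} [Group G]

/-- `E` is an `H`-subgroup. -/
def IsH (E : Subgroup G) : Prop :=
  ∀ g : G, E.map (MulAut.conj g).toMonoidHom ⊓ normalizer (E : Set G) ≤ E

theorem IsH.mem {E : Subgroup G} (h : IsH E) {x : G} (hx : x ∈ E) (g : G)
    (hn : g * x * g⁻¹ ∈ normalizer (E : Set G)) : g * x * g⁻¹ ∈ E :=
  h g ⟨⟨x, hx, rfl⟩, hn⟩

theorem isH_of_mem {E : Subgroup G}
    (h : ∀ x ∈ E, ∀ g : G, g * x * g⁻¹ ∈ normalizer (E : Set G) → g * x * g⁻¹ ∈ E) : IsH E := by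
  rintro g _ ⟨⟨x, hx, rfl⟩, hn⟩
  exact h x hx g hn

variable [Finite G] {p : ℕ} [hp : Fact p.Prime]

theorem IsH.le_normalizer {E P : Subgroup G} (h : IsH E) (hP : IsPGroup p P) (hEP : E ≤ P) :
    P ≤ normalizer (E : Set G) := by
  by_contra hn
  have hlt : P ⊓ normalizer (E : Set G) < P := lt_of_le_of_ne inf_le_left (fun e => hn (e ▸ inf_le_right))
  obtain ⟨g, ⟨hgP, hgN⟩, hg⟩ := SetLike.exists_of_lt (PLocal.CF.lt_inf_nm hP hlt)
  refine hg ⟨hgP, mem_normalizer_fintype (S := (E : Set G)) fun x hx => ?_⟩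
  exact h.mem hx g (PLocal.CF.conj_mem_of_mem_nm hgN ⟨hEP hx, Subgroup.le_normalizer hx⟩).2

theorem IsH.stronglyClosed {E P : Subgroup G} (h : IsH E) (hP : IsPGroup p P) (hEP : E ≤ P) :
    IsStronglyClosed E P :=
  ⟨hEP, fun _ hx g hg => h.mem hx g (h.le_normalizer hP hEP hg)⟩

theorem isH_of_stronglyClosed {E : Subgroup G} (P : Sylow p G)
    (h : IsStronglyClosed E (P : Subgroup G)) : IsH E := by
  refine isH_of_mem fun x hx g hg => ?_
  have hPN : (P : Subgroup G) ≤ normalizer (E : Set G) := fun y hy =>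
    mem_normalizer_fintype (S := (E : Set G)) fun z hz =>
      h.2 z hz y (mul_mem (mul_mem hy (h.1 hz)) (inv_mem hy))
  have hS : PLocal.CF.Syl p (P : Subgroup G) (normalizer (E : Set G)) :=
    (PLocal.CF.syl_top P).of_le hPN le_top
  have hp' : IsPGroup p (zpowers (g * x * g⁻¹)) := by
    obtain ⟨k, hk⟩ := P.isPGroup' ⟨x, h.1 hx⟩
    refine IsPGroup.of_card (n := (Nat.card (zpowers (g * x * g⁻¹))).factorization p) ?_
    have hk' : x ^ p ^ k = 1 := by simpa using congrArg Subtype.val hk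
    have : orderOf (g * x * g⁻¹) ∣ p ^ k :=
      orderOf_dvd_of_pow_eq_one (by rw [conj_pow, hk', mul_one, mul_inv_cancel])
    obtain ⟨j, -, hj⟩ := (Nat.dvd_prime_pow hp.out).1 this
    rw [Nat.card_zpowers, hj, hp.out.factorization_pow]
    simp
  obtain ⟨n, hn, hle⟩ := hS.exists_cj_le hp' (zpowers_le.2 hg)
  have h1 : n * (g * x * g⁻¹) * n⁻¹ ∈ (P : Subgroup G) := hle ⟨_, mem_zpowers _, rfl⟩
  have h2 : (n * g) * x * (n * g)⁻¹ ∈ E := h.2 x hx _ (by convert h1 using 1; group)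
  have h3 := PLocal.CF.conj_mem_of_mem_nm (inv_mem hn) h2
  convert h3 using 1; group

/-- The hyperfocal subgroup theorem as a criterion. -/
theorem inf_pResidual_le (P : Sylow p G) {K : Subgroup G}
    (h : ∀ V : Subgroup G, V ≤ P → ∀ α : MulAut V, (orderOf α).Coprime p →
      (∃ g : G, ∀ x : V, ((α x : V) : G) = g * x * g⁻¹) → ∀ x : V, ((x⁻¹ * α x : V) : G) ∈ K) :
    pResidual p G ⊓ (P : Subgroup G) ≤ K := by
  rw [inf_comm, ← Fus.hyp_group, Fus.hyp_le_iff]
  intro V hV α hα hc x hx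
  rw [Fus.autGroup_group hV, Fus.mem_autInducedBy_iff] at hα
  obtain ⟨g, -, hg⟩ := hα
  rw [Fus.afn_apply α hx]
  exact h V hV α hc ⟨g, hg⟩ ⟨x, hx⟩

/-- If `p` is the smallest prime divisor and all subgroups of one intermediate order of a Sylow
`p`-subgroup are strongly closed, there is a normal `p`-complement. -/
theorem hasNormalPComplement (hmin : ∀ q : ℕ, q.Prime → q ∣ Nat.card G → p ≤ q) (P : Sylow p G)
    {k : ℕ} (hk : 1 ≤ k) (hlt : p ^ k < Nat.card (P : Subgroup G))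
    (h : ∀ E : Subgroup G, E ≤ P → (Nat.card E = p ^ k ∨ (p ^ k = 2 ∧ Nat.card E = 4)) →
      IsStronglyClosed E (P : Subgroup G)) : HasNormalPComplement p G := by
  refine Transfer.hasNormalPComplement_of_inf_pResidual_le_frattini P
    (inf_pResidual_le P fun V hV α hc ⟨g, hg⟩ x => ?_)
  have hVp : IsPGroup p V := P.isPGroup'.to_le hV
  -- the order of `α` is prime to `p - 1`
  have hpow : ∀ n : ℕ, ∀ y : V, (((α ^ n) y : V) : G) = g ^ n * y * (g ^ n)⁻¹ := by
    intro n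
    induction n with
    | zero => simp
    | succ n ih => intro y; rw [pow_succ', MulAut.mul_apply, hg, ih]; group
  have hord : orderOf α ∣ Nat.card G := by
    refine orderOf_dvd_of_pow_eq_one (MulEquiv.ext fun y => Subtype.ext ?_)
    rw [hpow, pow_card_eq_one']; simp
  have hcop : (orderOf α).Coprime (p - 1) := by
    refine Nat.coprime_of_dvd fun q hq h1 h2 => ?_
    have := hmin q hq (h1.trans hord)
    have := Nat.le_of_dvd (Nat.sub_pos_of_lt hp.out.one_lt) h2
    have := hp.out.pos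
    omega
  have hK : α ∈ flagKer p (zpowers α) := by
    obtain ⟨m, hm⟩ := exists_pow_eq_self_of_coprime hcop.symm
    have := pow_mem (pow_mem_flagKer hVp (mem_zpowers α)) m
    rwa [hm] at this
  have hinv : ∀ E : Subgroup G, IsStronglyClosed E (P : Subgroup G) →
      Inv (zpowers α) (E.subgroupOf V) := fun E hE => inv_zpowers fun y hy => by
    rw [mem_subgroupOf, hg]
    exact hE.2 _ hy g (hg y ▸ hV (α y).2)
  by_cases hbig : p ^ k < Nat.card V
  · have h1 := isPGroup_flagKer_of_card (𝒜 := zpowers α) hVp hk hbig fun E hE => by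
      have := hinv (E.map V.subtype) (h _ ((map_subtype_le E).trans hV)
        (by rwa [card_map_of_injective V.subtype_injective]))
      rwa [subgroupOf, comap_map_eq_self_of_injective V.subtype_injective] at this
    obtain ⟨j, hj⟩ := h1 ⟨α, hK⟩
    have hj' : α ^ p ^ j = 1 := by simpa using congrArg Subtype.val hj
    have : α = 1 := orderOf_eq_one_iff.1
      (Nat.eq_one_of_self_dvd_coprime_aux (orderOf_dvd_of_pow_eq_one hj') (hc.pow_right j))
    rw [this]; simp
  · obtain ⟨n, hn⟩ := IsPGroup.iff_card.1 P.isPGroup'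
    obtain ⟨j, hj⟩ := IsPGroup.iff_card.1 hVp
    have hkn : k + 1 ≤ n := (Nat.pow_lt_pow_iff_right hp.out.one_lt).1 (hn ▸ hlt)
    have hjk : j ≤ k + 1 := by
      rw [hj, not_lt] at hbig
      exact ((Nat.pow_le_pow_iff_right hp.out.one_lt).1 hbig).trans (Nat.le_succ k)
    obtain ⟨F, hVF, hFP, hF⟩ := Misc.exists_le_card_eq_pow hV hj hjk (hn ▸ pow_dvd_pow p hkn)
    have hxP : ((x⁻¹ * α x : V) : G) ∈ (P : Subgroup G) := hV (x⁻¹ * α x).2
    refine ⟨⟨_, hxP⟩, Grp.le_frattini_iff.2 (fun M hM => ?_) (mem_zpowers _), rfl⟩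
    rw [zpowers_le]
    set M' := M.map (P : Subgroup G).subtype with hM'
    suffices hs : ((x⁻¹ * α x : V) : G) ∈ M' by
      obtain ⟨z, hz, e⟩ := hs
      have : z = ⟨_, hxP⟩ := Subtype.ext e
      exact this ▸ hz
    by_cases hVM : V ≤ M'
    · exact hVM (x⁻¹ * α x).2
    have hi : M'.relIndex P = p := by
      refine Eq.trans ?_ (Grp.PFrattini.index_of_isCoatom P.isPGroup' hM)
      rw [relIndex]
      congr 1
      exact comap_map_eq_self_of_injective (P : Subgroup G).subtype_injective M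
    have hdvd : ∀ X : Subgroup G, X ≤ P → M'.relIndex X ∣ p := fun X hX => by
      have hle : M'.relIndex X ≤ p := 
        (relIndex_le_of_le_right hX (hi.trans_ne hp.out.ne_zero)).trans hi.le
      obtain ⟨a, ha⟩ := IsPGroup.iff_card.1 (P.isPGroup'.to_le hX)
      obtain ⟨b, -, hb⟩ := (Nat.dvd_prime_pow hp.out).1 (ha ▸ relIndex_dvd_card M' X)
      rw [hb] at hle ⊢
      have : b ≤ 1 := (Nat.pow_le_pow_iff_right hp.out.one_lt).1 (by simpa using hle)
      simpa using pow_dvd_pow p this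
    have hiF : M'.relIndex F = p :=
      ((Nat.dvd_prime hp.out).1 (hdvd F hFP)).resolve_left fun e =>
        hVM (hVF.trans (relIndex_eq_one.1 e))
    have hcard : Nat.card (M' ⊓ F : Subgroup G) = p ^ k := by
      have := fix_of_card.relIndex_mul_card_of_le_aux (inf_le_right : M' ⊓ F ≤ F)
      rw [inf_relIndex_right, hiF, hF, pow_succ, mul_comm] at this
      exact Nat.eq_of_mul_eq_mul_right hp.out.pos this
    have hI := hinv _ (h (M' ⊓ F) (inf_le_right.trans hFP) (Or.inl hcard))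
    have := (mem_flagKer.1 hK).2 ((M' ⊓ F).subgroupOf V) ⊤ ⟨hI, inv_top _, by
      rw [relIndex_top_right, ← relIndex, inf_comm]
      have e : (F ⊓ M').relIndex V = M'.relIndex V := by
        rw [← inf_relIndex_right (F ⊓ M') V, ← inf_relIndex_right M' V]
        congr 1
        rw [inf_comm F, inf_assoc, inf_eq_right.2 hVF]
      exact e ▸ hdvd V hV⟩ x (mem_top x)
    exact this.1
where
  Nat.eq_one_of_self_dvd_coprime_aux {a b : ℕ} (h : a ∣ b) (hc : a.Coprime b) : a = 1 :=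
    Nat.Coprime.eq_one_of_dvd hc h

end Cfsg.Agent.FGS.HSub
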