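import Cfsg.Agent.S0154
import Cfsg.Agent.S0076
import Cfsg.Agent.S0215
import Cfsg.Agent.Char.Degrees
import Cfsg.Agent.GW.Cust
import Cfsg.Agent.Transfer.Focal
import Cfsg.Agent.Transfer.PCompl
import Cfsg.Agent.Inv.RankOne
import Cfsg.Agent.Class.SmallIso

/-! Groups in which the number of classes of `2`-elements is half the order of a Sylow
`2`-subgroup. -/

set_option autoImplicit false
set_option linter.dupNamespace false

namespace Cfsg.Agent.FGS.Half

open Subgroup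
open scoped commutatorElement

theorem sum_inv_fiber {X Y : Type*} [Fintype X] (f : X → Y) :
    ∑ x, (1 / (Set.ncard {y | f y = f x}) : ℚ) = (Set.range f).ncard := by
  classical
  rw [← Finset.sum_fiberwise_of_maps_to (t := Finset.univ.image f) (g := f)
    fun x _ => Finset.mem_image_of_mem f (Finset.mem_univ x), ← Set.image_univ, ← Finset.coe_univ,
    ← Finset.coe_image, Set.ncard_coe_finset, Finset.card_eq_sum_ones, Nat.cast_sum]
  refine Finset.sum_congr rfl fun y hy => ?_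
  obtain ⟨a, -, rfl⟩ := Finset.mem_image.1 hy
  have h : ∀ x ∈ Finset.univ.filter (f · = f a), (1 / (Set.ncard {y | f y = f x}) : ℚ) =
      1 / (Finset.univ.filter (f · = f a)).card := fun x hx => by
    rw [(Finset.mem_filter.1 hx).2, ← Set.ncard_coe_finset]
    simp
  have h0 : ((Finset.univ.filter (f · = f a)).card : ℚ) ≠ 0 :=
    Nat.cast_ne_zero.2 (Finset.card_ne_zero.2 ⟨a, by simp⟩)
  rw [Finset.sum_congr rfl h, Finset.sum_const, nsmul_eq_mul, mul_one_div_cancel h0, Nat.cast_one]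

variable {G : Type*} [Group G] [Finite G]

theorem four_mul_card_conjClasses_le :
    4 * Nat.card (ConjClasses G) ≤ Nat.card G + 3 * (_root_.commutator G).index := by
  classical
  rw [← Char.card_irr, ← Char.sum_charDegree_sq (G := G), ← S0154.result, Nat.card_eq_fintype_card,
    Nat.card_eq_fintype_card, Fintype.card_subtype fun χ : IrrCharacter G => (χ : G → ℂ) 1 = 1,
    Finset.card_filter, ← Finset.card_univ, Finset.card_eq_sum_ones,
    Finset.mul_sum, Finset.mul_sum, ← Finset.sum_add_distrib]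
  refine Finset.sum_le_sum fun χ _ => ?_
  have h1 := Char.charDegree_irr_pos χ
  have h2 := Char.coe_charDegree_irr χ
  split_ifs with h
  · nlinarith
  · have : charDegree (χ : G → ℂ) ≠ 1 := fun e => h (by rw [← h2, e, Nat.cast_one])
    have : 2 ≤ charDegree (χ : G → ℂ) := by omega
    nlinarith

/-- The conjugates of `x` in the coset `x V` and in `P`. -/
def T (P V : Subgroup G) (x : G) : Set G := {y | y ∈ P ∧ IsConj x y ∧ x⁻¹ * y ∈ V}

/-- The number of fusion classes is half the order. -/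
def Half (P : Subgroup G) : Prop :=
  2 * (Set.range fun x : P => ConjClasses.mk (x : G)).ncard = Nat.card P

variable {P : Subgroup G}

theorem Half.sum (h : Half P) [Fintype P] :
    ∑ x : P, (1 / (T P ⊤ x).ncard : ℚ) = Nat.card P / 2 := by
  have h1 := sum_inv_fiber fun x : P => ConjClasses.mk (x : G)
  rw [← h, Nat.cast_mul, ← h1, Nat.cast_ofNat, mul_div_cancel_left₀ _ two_ne_zero]
  refine Finset.sum_congr rfl fun x _ => ?_
  rw [← Set.ncard_image_of_injective _ Subtype.val_injective]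
  congr 3
  ext y
  simp only [T, mem_top, and_true, Set.mem_setOf_eq, Set.mem_image, ConjClasses.mk_eq_mk_iff_isConj]
  exact ⟨fun ⟨a, b⟩ => ⟨⟨y, a⟩, b.symm, rfl⟩, fun ⟨a, b, c⟩ => c ▸ ⟨a.2, b.symm⟩⟩

open Classical in
theorem sum_ind [Fintype P] {A : Subgroup G} (hA : A ≤ P) :
    ∑ x : P, (if (x : G) ∈ A then (1 : ℚ) else 0) = Nat.card A := by
  rw [Finset.sum_boole, ← Nat.card_congr (subgroupOfEquivOfLe hA).toEquiv,
    Nat.card_eq_fintype_card, Fintype.card_subtype]
  rfl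

omit [Finite G] in
theorem self_mem_T (V : Subgroup G) {x : G} (hx : x ∈ P) : x ∈ T P V x :=
  ⟨hx, IsConj.refl x, by rw [inv_mul_cancel]; exact one_mem V⟩

open Classical in
theorem Half.key (h : Half P) (V : Subgroup G) {A B : Subgroup G} (hA : A ≤ P) (hB : B ≤ P)
    (a b c : ℚ) (hu : ∀ x ∈ P, 1 ≤ (a + b * (if x ∈ A then 1 else 0) +
      c * (if x ∈ B then 1 else 0)) * (T P V x).ncard) :
    (Nat.card P / 2 : ℚ) ≤ a * Nat.card P + b * Nat.card A + c * Nat.card B ∧
    (a * Nat.card P + b * Nat.card A + c * Nat.card B ≤ (Nat.card P / 2 : ℚ) →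
      ∀ x ∈ P, ∀ y ∈ P, IsConj x y → x⁻¹ * y ∈ V) := by
  have := Fintype.ofFinite P
  have hs : ∑ x : P, (a + b * (if (x : G) ∈ A then 1 else 0) + c * (if (x : G) ∈ B then 1 else 0))
      = a * Nat.card P + b * Nat.card A + c * Nat.card B := by
    rw [Finset.sum_add_distrib, Finset.sum_add_distrib, ← Finset.mul_sum, ← Finset.mul_sum,
      sum_ind hA, sum_ind hB, Finset.sum_const, nsmul_eq_mul, mul_comm, Finset.card_univ,
      ← Nat.card_eq_fintype_card]
  have hp : ∀ x : P, (0 : ℚ) < (T P V x).ncard := fun x =>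
    Nat.cast_pos.2 ((Set.ncard_pos (Set.toFinite _)).2 ⟨_, self_mem_T V x.2⟩)
  have hsub : ∀ x : G, T P V x ⊆ T P ⊤ x := fun x y hy => ⟨hy.1, hy.2.1, trivial⟩
  have h1 : ∀ x : P, (1 / (T P ⊤ x).ncard : ℚ) ≤ 1 / (T P V x).ncard := fun x =>
    one_div_le_one_div_of_le (hp x) (Nat.cast_le.2 (Set.ncard_le_ncard (hsub x)))
  have h2 : ∀ x : P, (1 / (T P V x).ncard : ℚ) ≤ _ := fun x => (div_le_iff₀ (hp x)).2 (hu x x.2)
  rw [← hs, ← h.sum]
  refine ⟨Finset.sum_le_sum fun x _ => (h1 x).trans (h2 x), fun h3 x hx y hy hxy => ?_⟩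
  have h4 := (Finset.sum_eq_sum_iff_of_le fun x _ => h1 x).1 (le_antisymm
    (Finset.sum_le_sum fun x _ => h1 x) ((Finset.sum_le_sum fun x _ => h2 x).trans h3))
    ⟨x, hx⟩ (Finset.mem_univ _)
  rw [one_div, one_div, inv_inj, Nat.cast_inj] at h4
  have h5 := Set.eq_of_subset_of_ncard_le (hsub x) h4.le
  exact (h5 ▸ show y ∈ T P ⊤ x from ⟨hy, hxy, trivial⟩ : y ∈ T P V x).2.2

theorem Half.not_le_two (h : Half P) (h2 : ∀ x ∈ P, (T P ⊤ x).ncard ≤ 2) : False := by
  have := Fintype.ofFinite P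
  have h3 : ∑ _x : P, (1 / 2 : ℚ) < ∑ x : P, (1 / (T P ⊤ x).ncard : ℚ) :=
    Finset.sum_lt_sum (fun x _ => one_div_le_one_div_of_le (Nat.cast_pos.2 ((Set.ncard_pos
      (Set.toFinite _)).2 ⟨_, self_mem_T ⊤ x.2⟩)) (by exact_mod_cast h2 x x.2))
      ⟨1, Finset.mem_univ _, by
        have : T P ⊤ ((1 : P) : G) = {1} := Set.eq_singleton_iff_unique_mem.2
          ⟨self_mem_T ⊤ (one_mem P), fun y hy => isConj_one_right.1 hy.2.1⟩
        rw [this, Set.ncard_singleton]; norm_num⟩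
  rw [h.sum, Finset.sum_const, Finset.card_univ, ← Nat.card_eq_fintype_card, nsmul_eq_mul] at h3
  linarith

theorem Half.card_commutator_le (h : Half P) : Nat.card (_root_.commutator P) ≤ 3 := by
  have h1 := four_mul_card_conjClasses_le (G := P)
  have h2 : (Set.range fun x : P => ConjClasses.mk (x : G)).ncard ≤ Nat.card (ConjClasses P) := by
    have : (Set.range fun x : P => ConjClasses.mk (x : G)) ⊆
        Set.range (ConjClasses.map P.subtype) := by
      rintro _ ⟨x, rfl⟩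
      exact ⟨ConjClasses.mk x, rfl⟩
    refine (Set.ncard_le_ncard this).trans ?_
    rw [← Set.image_univ, ← Set.ncard_univ]
    exact Set.ncard_image_le
  have h3 := (_root_.commutator P).card_mul_index
  have h4 : 0 < (_root_.commutator P).index := Nat.pos_of_ne_zero index_ne_zero_of_finite
  unfold Half at h
  refine Nat.le_of_mul_le_mul_right ?_ h4
  omega

omit [Finite G] in
theorem eq_one_of_conj {h x d : G} (ho : Odd (orderOf h)) (hx : h * x * h⁻¹ = x * d)
    (hd : h * d * h⁻¹ = d) (hP : IsPGroup 2 P) (h2 : d ∈ P) : d = 1 := by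
  have h1 : ∀ n : ℕ, h ^ n * x * (h ^ n)⁻¹ = x * d ^ n := fun n => by
    induction n with
    | zero => simp
    | succ n ih =>
      calc h ^ (n + 1) * x * (h ^ (n + 1))⁻¹ = h * (h ^ n * x * (h ^ n)⁻¹) * h⁻¹ := by group
        _ = h * x * h⁻¹ * (h * d * h⁻¹) ^ n := by rw [ih, conj_pow]; group
        _ = x * d ^ (n + 1) := by rw [hx, hd]; group
  have h3 := h1 (orderOf h)
  rw [pow_orderOf_eq_one, one_mul, inv_one, mul_one, left_eq_mul] at h3
  exact Transfer.eq_one_of_mem_isPGroup_of_coprime hP h2 (Nat.coprime_two_right.2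
    (ho.of_dvd_nat (orderOf_dvd_of_pow_eq_one h3)))

theorem two_mul_le {H K : Subgroup G} (h : H ≤ K) {x : G} (hx : x ∈ K) (hx' : x ∉ H) :
    2 * Nat.card H ≤ Nat.card K := by
  obtain ⟨c, hc⟩ := card_dvd_of_le h
  have h1 : Nat.card H < Nat.card K := Grp.card_lt_of_lt (lt_of_le_of_ne h fun e => hx' (e ▸ hx))
  have h2 : 2 ≤ c := by
    by_contra h3
    have : c = 0 ∨ c = 1 := by omega
    rcases this with rfl | rfl <;> omega
  rw [hc, mul_comm]
  exact Nat.mul_le_mul_left _ h2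

/-- The commutator subgroup of `P` is generated by `z` with `z² = 1`. -/
structure Cm (P : Subgroup G) (z : G) : Prop where
  mem : z ∈ ⁅P, P⁆
  sq : z * z = 1
  conj : ∀ a ∈ P, ∀ b ∈ P, b * a * b⁻¹ = a ∨ b * a * b⁻¹ = a * z
  fix : ∀ n ∈ normalizer (P : Set G), n * z * n⁻¹ = z

theorem exists_cm (hP : IsPGroup 2 P) (h : Nat.card (_root_.commutator P) ≤ 3) : ∃ z, Cm P z := by
  obtain ⟨k, hk⟩ := IsPGroup.iff_card.1 (hP.to_subgroup (_root_.commutator P))
  have h1 : Nat.card (⁅P, P⁆ : Subgroup G) = 2 ^ k := by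
    rw [← map_subtype_commutator, card_subtype, hk]
  obtain ⟨z, hz, h2⟩ : ∃ z ∈ ⁅P, P⁆, ∀ x ∈ ⁅P, P⁆, x = 1 ∨ x = z := by
    rcases k with _ | _ | k
    · exact ⟨1, one_mem _, fun x hx => Or.inl (by rwa [card_eq_one.1 h1, mem_bot] at hx)⟩
    · obtain ⟨z, -, h3⟩ := (Nat.card_eq_two_iff' (1 : (⁅P, P⁆ : Subgroup G))).1 h1
      exact ⟨z, z.2, fun x hx => or_iff_not_imp_left.2 fun e =>
        congrArg Subtype.val (h3 ⟨x, hx⟩ fun e' => e (congrArg Subtype.val e'))⟩
    · have : 0 < 2 ^ k := by positivity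
      rw [hk, pow_succ, pow_succ] at h
      omega
  refine ⟨z, hz, (h2 _ (mul_mem hz hz)).elim id fun e => by rw [mul_eq_left.1 e, mul_one],
    fun a ha b hb => ?_, fun n hn => ?_⟩
  · have h3 : b * a * b⁻¹ = a * ⁅a⁻¹, b⁆ := by rw [commutatorElement_def]; group
    exact (h2 _ (commutator_mem_commutator (inv_mem ha) hb)).imp (fun e => by rw [h3, e, mul_one])
      fun e => by rw [h3, e]
  · have h3 : n * z * n⁻¹ ∈ ⁅P, P⁆ := by
      have := (PLocal.mem_normalizer_iff_conj_map_eq).1 hn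
      rw [← this, ← map_commutator]
      exact PLocal.conj_mem_map_conj n hz
    exact (h2 _ h3).elim (fun e => by rw [e, eq_comm]; simpa using e) id

variable {z : G}

omit [Finite G] in
theorem Cm.memP (h : Cm P z) : z ∈ P := 
  (map_subtype_commutator P).ge.trans (map_subtype_le _) h.mem

omit [Finite G] in
theorem Cm.comm (h : Cm P z) {a : G} (ha : a ∈ P) : a * z = z * a :=
  mul_inv_eq_iff_eq_mul.1 (h.fix a (le_normalizer ha))

theorem four_mul_card_le (hP : IsPGroup 2 P) {h x : G} (hn : h ∈ normalizer (P : Set G))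
    (ho : Odd (orderOf h)) (hx : x ∈ P) (hx' : h * x * h⁻¹ ≠ x) :
    4 * Nat.card ↥(P ⊓ centralizer {h}) ≤ Nat.card P := by
  have hm : ∀ a, a ∈ centralizer {h} ↔ h * a * h⁻¹ = a := fun a => by
    rw [mem_centralizer_singleton_iff, mul_inv_eq_iff_eq_mul, eq_comm]
  have hx2 : h * x * h⁻¹ ∈ P := (mem_normalizer_iff.1 hn x).1 hx
  obtain ⟨k, hk⟩ := hP.index ((centralizer {h}).subgroupOf P)
  rw [← ((centralizer {h}).subgroupOf P).index_mul_card, hk, inf_comm, ← subgroupOf_map_subtype,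
    card_subtype]
  refine Nat.mul_le_mul_right _ ?_
  rcases k with _ | _ | k
  · have : (⟨x, hx⟩ : P) ∈ (centralizer {h}).subgroupOf P := index_eq_one.1 hk ▸ mem_top _
    exact absurd ((hm x).1 this) hx'
  · have h1 : (⟨x, hx⟩ : P)⁻¹ * ⟨_, hx2⟩ ∈ (centralizer {h}).subgroupOf P := by
      rw [mul_mem_iff_of_index_two hk, inv_mem_iff, mem_subgroupOf, mem_subgroupOf, hm, hm]
      exact iff_of_false hx' fun e => hx' (by simpa using e)
    have := eq_one_of_conj (x := x) (d := x⁻¹ * (h * x * h⁻¹)) ho (by group) ((hm _).1 h1) hP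
      (mul_mem (inv_mem hx) hx2)
    exact absurd (inv_mul_eq_one.1 this).symm hx'
  · have : 0 < 2 ^ k := by positivity
    rw [pow_succ, pow_succ]
    omega

theorem focal_eq (P : Sylow 2 G) {V : Subgroup G} (h1 : V ≤ _root_.commutator G ⊓ P)
    (h2 : ∀ x ∈ P, ∀ y ∈ P, IsConj x y → x⁻¹ * y ∈ V) : _root_.commutator G ⊓ P = V := by
  refine le_antisymm ?_ h1
  rw [commutator_inf_eq_focalSubgroup, focalSubgroup_def, closure_le]
  rintro _ ⟨h3, x, hx, u, rfl⟩
  have := h2 _ (inv_mem hx) _ (mul_mem (inv_mem hx) h3) (isConj_iff.2 ⟨u, by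
    rw [commutatorElement_def]; group⟩)
  rwa [inv_inv, mul_inv_cancel_left] at this

omit [Finite G] in
theorem conj_mem_T {V : Subgroup G} {x g : G} (h1 : g * x * g⁻¹ ∈ P) (h2 : x⁻¹ * (g * x * g⁻¹) ∈ V) :
    g * x * g⁻¹ ∈ T P V x := ⟨h1, isConj_iff.2 ⟨g, rfl⟩, h2⟩

theorem one_le_T (V : Subgroup G) {x : G} (hx : x ∈ P) : (1 : ℚ) ≤ (T P V x).ncard :=
  Nat.one_le_cast.2 ((Set.ncard_pos (Set.toFinite _)).2 ⟨_, self_mem_T V hx⟩)

theorem two_le_T {V : Subgroup G} {x y : G} (hx : x ∈ P) (hy : y ∈ T P V x) (h : y ≠ x) :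
    (2 : ℚ) ≤ (T P V x).ncard := by
  exact_mod_cast (Set.one_lt_ncard (Set.toFinite _)).2 ⟨_, hy, _, self_mem_T V hx, h⟩

theorem three_le_T {V : Subgroup G} {x y w : G} (hx : x ∈ P) (hy : y ∈ T P V x) (hw : w ∈ T P V x)
    (h1 : y ≠ x) (h2 : w ≠ x) (h3 : y ≠ w) : (3 : ℚ) ≤ (T P V x).ncard := by
  exact_mod_cast (Set.two_lt_ncard (Set.toFinite _)).2
    ⟨_, hy, _, hw, _, self_mem_T V hx, h3, h1, h2⟩

omit [Finite G] in
theorem mem_cent {h a : G} : a ∈ centralizer {h} ↔ h * a * h⁻¹ = a := by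
  rw [mem_centralizer_singleton_iff, mul_inv_eq_iff_eq_mul, eq_comm]

/-- The conclusion of the fusion analysis. -/
def Concl (P : Subgroup G) : Prop :=
  Nat.card ↥(_root_.commutator G ⊓ P) = 4 ∧ _root_.commutator G ⊓ P ⊓ center G = ⊥

theorem Half.abelian (P : Sylow 2 G) (H : Half (P : Subgroup G)) (hc : Cm (P : Subgroup G) 1)
    {h x : G} (hn : h ∈ normalizer ((P : Subgroup G) : Set G)) (ho : Odd (orderOf h)) (hx : x ∈ P)
    (hx' : h * x * h⁻¹ ≠ x) : Concl (P : Subgroup G) := by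
  classical
  have hab : ∀ a ∈ P, ∀ b ∈ P, b * a = a * b := fun a ha b hb =>
    mul_inv_eq_iff_eq_mul.1 ((hc.conj a ha b hb).elim id fun e => by rw [e, mul_one])
  have hm : ∀ a ∈ (P : Subgroup G), h * a * h⁻¹ ∈ (P : Subgroup G) := fun a ha =>
    (mem_normalizer_iff.1 hn a).1 ha
  let φ : (P : Subgroup G) →* G := MonoidHom.mk' (fun a => (a : G)⁻¹ * (h * a * h⁻¹)) fun a b => by
    have := hab _ (mul_mem (inv_mem a.2) (hm a a.2)) _ (inv_mem b.2)
    calc _ = (b : G)⁻¹ * ((a : G)⁻¹ * (h * a * h⁻¹)) * (h * b * h⁻¹) := by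
          simp only [coe_mul]; group
      _ = _ := by rw [this]; group
  have h4 := four_mul_card_le P.2 hn ho hx hx'
  obtain ⟨h1, h2⟩ := H.key φ.range (A := P ⊓ centralizer {h}) (B := P ⊓ centralizer {h})
    inf_le_left inf_le_left (1 / 3) (2 / 3) 0 fun a ha => by
      split_ifs with h5
      · linarith [one_le_T φ.range ha]
      · have h6 : h * a * h⁻¹ ≠ a := fun e => h5 ⟨ha, mem_cent.2 e⟩
        have := three_le_T (V := φ.range) ha (conj_mem_T (hm a ha) ⟨⟨a, ha⟩, rfl⟩)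
          (conj_mem_T (g := h * h)
          (by simpa [mul_assoc] using hm _ (hm a ha)) ⟨⟨a, ha⟩ * ⟨_, hm a ha⟩, by
            rw [map_mul]; simp [φ, mul_assoc]⟩) h6 (fun e => h6 (by
              obtain ⟨k, hk⟩ := ho
              have h7 : h ∈ centralizer {a} := by
                have : h = (h * h) ^ (k + 1) := by
                  rw [← pow_two, ← pow_mul, show 2 * (k + 1) = 2 * k + 1 + 1 by ring, pow_succ, ← hk,
                    pow_orderOf_eq_one, one_mul]
                rw [this]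
                exact pow_mem (mem_centralizer_singleton_iff.2 (mul_inv_eq_iff_eq_mul.1 e)) _
              exact mul_inv_eq_iff_eq_mul.2 (mem_centralizer_singleton_iff.1 h7)))
          fun e => h6 (by
            rw [show h * h * a * (h * h)⁻¹ = h * (h * a * h⁻¹) * h⁻¹ by group] at e
            exact (mul_left_cancel (mul_right_cancel e)).symm)
        linarith
  have h5 : 4 * Nat.card ↥((P : Subgroup G) ⊓ centralizer {h}) = Nat.card P :=
    le_antisymm h4 (by
      have : (Nat.card P : ℚ) ≤ 4 * Nat.card ↥((P : Subgroup G) ⊓ centralizer {h}) := by linarith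
      exact_mod_cast this)
  have h6 := focal_eq P (V := φ.range) (by
    rintro _ ⟨a, rfl⟩
    refine mem_inf.2 ⟨?_, mul_mem (inv_mem a.2) (hm a a.2)⟩
    have := commutator_mem_commutator (mem_top (a : G)⁻¹) (mem_top h)
    rw [commutatorElement_def, inv_inv] at this
    simpa [φ, mul_assoc, _root_.commutator_def] using this) (h2 (by rw [← h5]; push_cast; linarith))
  have h7 : φ.ker = (centralizer {h}).subgroupOf P := by
    ext a
    rw [mem_subgroupOf, mem_cent, MonoidHom.mem_ker, eq_comm (b := (a : G))]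
    exact inv_mul_eq_one
  rw [Concl, h6]
  refine ⟨?_, eq_bot_iff.2 ?_⟩
  · rw [inf_comm, ← subgroupOf_map_subtype, card_subtype, ← h7, ← φ.ker.index_mul_card,
      index_ker] at h5
    exact (Nat.eq_of_mul_eq_mul_right Nat.card_pos h5).symm
  · rintro _ ⟨⟨a, rfl⟩, ha⟩
    exact eq_one_of_conj (x := (a : G)) ho (mul_inv_cancel_left _ _).symm
      (mul_inv_eq_iff_eq_mul.2 (mem_center_iff.1 ha h)) P.2 (mul_mem (inv_mem a.2) (hm a a.2))

theorem Half.not_odd (H : Half P) (hP : IsPGroup 2 P) (hc : Cm P z) (hz : z ≠ 1) {h x : G}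
    (hn : h ∈ normalizer (P : Set G)) (ho : Odd (orderOf h)) (hx : x ∈ P)
    (hx' : h * x * h⁻¹ ≠ x) : False := by
  classical
  have hm : ∀ a ∈ P, h * a * h⁻¹ ∈ P := fun a ha => (mem_normalizer_iff.1 hn a).1 ha
  have hZ : ∀ a ∈ P, a ∉ P ⊓ centralizer (P : Set G) → ∃ b ∈ P, b * a * b⁻¹ = a * z :=
    fun a ha h1 => by
      by_contra! h2
      exact h1 ⟨ha, fun b hb => mul_inv_eq_iff_eq_mul.1 ((hc.conj a ha b hb).resolve_right (h2 b hb))⟩
  have h4 := four_mul_card_le hP hn ho hx hx'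
  have h5 : 4 * Nat.card ↥(P ⊓ centralizer (P : Set G)) ≤ Nat.card P := by
    obtain ⟨a, ha, h5⟩ : ∃ a ∈ P, a ∉ P ⊓ centralizer (P : Set G) := by
      by_contra! h5
      have := hc.mem
      rw [commutator_eq_bot_iff_le_centralizer.2 fun a ha => (h5 a ha).2, mem_bot] at this
      exact hz this
    obtain ⟨b, hb, h6⟩ := hZ a ha h5
    have h7 := two_mul_le (K := P ⊓ centralizer {b}) (inf_le_inf_left P (centralizer_le
      (Set.singleton_subset_iff.2 hb))) (x := b) ⟨hb, mem_cent.2 (by group)⟩ fun e =>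
        hz (by rwa [← e.2 a ha, mul_inv_cancel_right, left_eq_mul] at h6)
    have h8 := two_mul_le (H := P ⊓ centralizer {b}) inf_le_left ha fun e =>
      hz (by rwa [mem_cent.1 e.2, left_eq_mul] at h6)
    omega
  have h1 := (H.key ⊤ (A := P ⊓ centralizer {h}) (B := P ⊓ centralizer (P : Set G)) inf_le_left
    inf_le_left (1 / 4) (1 / 4) (1 / 2) fun a ha => by
      split_ifs with h6 h7 h7
      · linarith [one_le_T ⊤ ha]
      · obtain ⟨b, hb, h8⟩ := hZ a ha h7
        have := two_le_T ha (conj_mem_T (g := b) (mul_mem (mul_mem hb ha) (inv_mem hb)) (mem_top _))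
          (by rwa [h8, Ne, mul_eq_left])
        linarith
      · have := two_le_T ha (conj_mem_T (hm a ha) (mem_top _)) fun e => h6 ⟨ha, mem_cent.2 e⟩
        linarith
      · obtain ⟨b, hb, h8⟩ := hZ a ha h7
        have h9 : h * a * h⁻¹ ≠ a := fun e => h6 ⟨ha, mem_cent.2 e⟩
        have h10 : h * a * h⁻¹ ≠ a * z := fun e => hz (eq_one_of_conj ho e (hc.fix h hn) hP hc.memP)
        have h11 : h * b * a * (h * b)⁻¹ = h * a * h⁻¹ * z := by
          rw [← hc.fix h hn, conj_mul, ← h8]; group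
        have : (4 : ℚ) ≤ (T P ⊤ a).ncard := by
          exact_mod_cast (Set.three_lt_ncard (Set.toFinite _)).2 ⟨_, self_mem_T ⊤ ha, _,
            conj_mem_T (g := b) (mul_mem (mul_mem hb ha) (inv_mem hb)) (mem_top _), _,
            conj_mem_T (hm a ha) (mem_top _), _, conj_mem_T (g := h * b)
              (h11 ▸ mul_mem (hm a ha) hc.memP) (mem_top _), by rwa [h8, Ne, left_eq_mul], h9.symm,
            fun e => h10 (by rw [h11] at e; rw [e, mul_assoc _ z, hc.sq, mul_one]; simp [← e]),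
            h8 ▸ h10.symm, fun e => h9 (by rwa [h8, h11, mul_left_inj, eq_comm] at e),
            by rwa [h11, Ne, left_eq_mul]⟩
        linarith).1
  have h6 : (4 : ℚ) * Nat.card ↥(P ⊓ centralizer {h}) ≤ Nat.card P := by exact_mod_cast h4
  have h7 : (4 : ℚ) * Nat.card ↥(P ⊓ centralizer (P : Set G)) ≤ Nat.card P := by exact_mod_cast h5
  have h8 : (0 : ℚ) < Nat.card P := Nat.cast_pos.2 Nat.card_pos
  linarith

theorem Half.not_central (P : Sylow 2 G) (H : Half (P : Subgroup G)) (hc : Cm (P : Subgroup G) z)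
    (hz : z ∈ center G) (hn : ∀ h ∈ normalizer ((P : Subgroup G) : Set G), Odd (orderOf h) →
      ∀ x ∈ P, h * x * h⁻¹ = x) : False := by
  have hz' : ∀ g a : G, g * (a * z) * g⁻¹ = g * a * g⁻¹ * z := fun g a => by
    rw [mul_assoc _ g⁻¹ z, mem_center_iff.1 hz g⁻¹]; group
  have hzz : ∀ a : G, a * z * z = a := fun a => by rw [mul_assoc, hc.sq, mul_one]
  have him : ∀ g a : G, g * a * g⁻¹ = a ∨ g * a * g⁻¹ = a * z →
      (fun y => g * y * g⁻¹) '' {a, a * z} = {a, a * z} := fun g a h => by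
    rw [Set.image_pair, hz']
    rcases h with h | h
    · rw [h]
    · rw [h, hzz, Set.pair_comm]
  refine H.not_le_two fun x hx => (Set.ncard_le_ncard (t := {x, x * z}) ?_).trans
    ((Set.ncard_insert_le _ _).trans (by rw [Set.ncard_singleton]))
  rintro y ⟨hy, hxy, -⟩
  obtain ⟨g, rfl⟩ := isConj_iff.1 hxy
  obtain ⟨n, h1, h2⟩ := S0076.result P {x, x * z} {g * x * g⁻¹, g * x * g⁻¹ * z}
    (Set.pair_subset hx (mul_mem hx hc.memP)) (Set.pair_subset hy (mul_mem hy hc.memP))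
    (fun b hb => him b _ (hc.conj _ hx b hb)) (fun b hb => him b _ (hc.conj _ hy b hb)) g
    (by rw [Set.image_pair, hz'])
  obtain ⟨u, v, hu, hv, ⟨k, hk⟩, h3, rfl⟩ := Transfer.exists_pPart_mul (p := 2) n
  have h4 : u ∈ P := by
    have h5 : IsPGroup 2 (zpowers u) := PLocal.Amb.isPGroup_zpowers ⟨k, hk⟩
    exact ((h5.inf_normalizer_sylow P).le ⟨mem_zpowers u, zpowers_le.2 h1 hu⟩).2
  rw [him _ _ (by
    have := hn v (zpowers_le.2 h1 hv) (Nat.coprime_two_right.1 h3) x hx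
    rw [show u * v * x * (u * v)⁻¹ = u * (v * x * v⁻¹) * u⁻¹ by group, this]
    exact hc.conj x hx u h4)] at h2
  exact h2 ▸ Set.mem_insert _ _

theorem Cm.exists_move (P : Sylow 2 G) (hc : Cm (P : Subgroup G) z) {g : G}
    (hx : g⁻¹ * z * g ∈ P) (hne : g⁻¹ * z * g ≠ z) :
    ∃ t ∈ P, t * (g⁻¹ * z * g) * t⁻¹ = g⁻¹ * z * g * z := by
  by_contra! h
  obtain ⟨n, hn, e⟩ := P.conj_eq_normalizer_conj_of_mem_centralizer z g (fun a ha => hc.comm ha)
    fun a ha => mul_inv_eq_iff_eq_mul.1 ((hc.conj _ hx a ha).resolve_right (h a ha))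
  exact hne (by simpa [e] using hc.fix _ (inv_mem hn))

theorem Cm.exists_tau (P : Sylow 2 G) (hc : Cm (P : Subgroup G) z) {g : G}
    (hx : g * z * g⁻¹ ∈ P) (hne : g * z * g⁻¹ ≠ z) {y : G} (hy : g * z * g⁻¹ = y) :
    ∃ s : G, s * z * s⁻¹ = z * y ∧ s * y * s⁻¹ = y ∧
      ∀ a ∈ (P : Subgroup G) ⊓ centralizer {y}, s * a * s⁻¹ = a ∨ s * a * s⁻¹ = a * y := by
  have h1 : PLocal.IsSylowIn 2 ((P : Subgroup G).map (MulAut.conj g).toMonoidHom)
      (centralizer {y}) := ((PLocal.isSylowIn_top P).map_conj g).mono (by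
        rintro _ ⟨a, ha, rfl⟩
        rw [mem_centralizer_singleton_iff, ← hy]
        calc g * a * g⁻¹ * (g * z * g⁻¹) = g * (a * z) * g⁻¹ := by group
          _ = _ := by rw [hc.comm ha]; simp [mul_assoc]) (by rw [PLocal.map_conj_top]; exact le_top)
  obtain ⟨c, h2, h3⟩ := h1.exists_conj_le (P.2.to_inf_left (K := centralizer {y})) inf_le_right
  obtain ⟨h, h4, h5⟩ : ∃ h, h * z * h⁻¹ = y ∧ ∀ a ∈ (P : Subgroup G) ⊓ centralizer {y},
      h⁻¹ * a * h ∈ (P : Subgroup G) := ⟨c⁻¹ * g, by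
        rw [show c⁻¹ * g * z * (c⁻¹ * g)⁻¹ = c⁻¹ * (g * z * g⁻¹ * c) by group, hy,
          ← mem_centralizer_singleton_iff.1 h2, inv_mul_cancel_left], fun a ha => by
        simpa [mul_assoc] using PLocal.mem_map_conj_iff.1 (h3 (PLocal.conj_mem_map_conj c ha))⟩
  obtain ⟨t, ht, h6⟩ := hc.exists_move P (h5 z ⟨hc.memP, mem_centralizer_singleton_iff.2
    (hc.comm (hy ▸ hx)).symm⟩) fun e => hne (by rw [hy, ← h4]; nth_rw 1 [← e]; group)
  refine ⟨h * t * h⁻¹, ?_, ?_, fun a ha => ?_⟩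
  · calc _ = h * (t * (h⁻¹ * z * h) * t⁻¹) * h⁻¹ := by group
      _ = _ := by rw [h6, ← h4]; group
  · calc _ = h * (t * z * t⁻¹) * h⁻¹ := by rw [← h4]; group
      _ = _ := by rw [hc.comm ht, mul_inv_cancel_right, h4]
  · rw [show h * t * h⁻¹ * a * (h * t * h⁻¹)⁻¹ = h * (t * (h⁻¹ * a * h) * t⁻¹) * h⁻¹ by group]
    exact (hc.conj _ (h5 a ha) t ht).imp (fun e => by rw [e]; group) fun e => by
      rw [e, ← h4]; group

theorem Half.moved (P : Sylow 2 G) (H : Half (P : Subgroup G)) (hc : Cm (P : Subgroup G) z) {g : G}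
    (hx : g * z * g⁻¹ ∈ P) (hne : g * z * g⁻¹ ≠ z) : Concl (P : Subgroup G) := by
  classical
  obtain ⟨t, ht, h1⟩ := hc.exists_move P (g := g⁻¹) (by rwa [inv_inv]) (by rwa [inv_inv])
  rw [inv_inv] at h1
  obtain ⟨s, h2, h3, h4⟩ := hc.exists_tau P hx hne rfl
  have hz : z ≠ 1 := fun e => hne (by simp [e])
  have hy2 : g * z * g⁻¹ * (g * z * g⁻¹) = 1 := by rw [conj_mul, hc.sq]; group
  have hyD : g * z * g⁻¹ ∈ _root_.commutator G := (inferInstance : (_root_.commutator G).Normal).conj_mem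
    z (commutator_mono le_top le_top hc.mem) g
  have hy : g * z * g⁻¹ ≠ 1 := fun e => hz (by simpa using e)
  have hzc : z ∉ center G := fun e => hne (by rw [mem_center_iff.1 e, mul_inv_cancel_right])
  generalize g * z * g⁻¹ = y at *
  have htz : t * z * t⁻¹ = z := by rw [hc.comm ht, mul_inv_cancel_right]
  have hV := Misc.isKleinFour_closure_pair hc.sq hy2 (hc.comm hx).symm hz hy hne.symm
  have hzV : z ∈ closure {z, y} := subset_closure (by simp)
  have hyV : y ∈ closure {z, y} := subset_closure (by simp)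
  have hVP : closure {z, y} ≤ _root_.commutator G ⊓ P := (closure_le _).2 (Set.pair_subset
    ⟨commutator_mono le_top le_top hc.mem, hc.memP⟩ ⟨hyD, hx⟩)
  have hT : ∀ a ∈ (P : Subgroup G), ∀ v ∈ closure {z, y}, ∀ k, k * a * k⁻¹ = a * v →
      a * v ∈ T P (closure {z, y}) a := fun a ha v hv k e =>
    ⟨mul_mem ha (hVP hv).2, isConj_iff.2 ⟨k, e⟩, by rwa [inv_mul_cancel_left]⟩
  have hzy : z * y ≠ 1 := Inv.Klein.mul_ne_one hV hyV hne.symm
  have h5 := two_mul_le (H := P ⊓ centralizer {y} ⊓ centralizer {t} ⊓ centralizer {s}) inf_le_left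
    (x := z) ⟨⟨hc.memP, mem_centralizer_singleton_iff.2 (hc.comm hx).symm⟩, mem_cent.2 htz⟩
    fun e => hy (by rwa [mem_cent.1 e.2, left_eq_mul] at h2)
  have h6 := two_mul_le (H := P ⊓ centralizer {y} ⊓ centralizer {t}) inf_le_left (x := y)
    ⟨hx, mem_centralizer_singleton_iff.2 rfl⟩ fun e => hz (by rwa [mem_cent.1 e.2, left_eq_mul] at h1)
  have h7 := focal_eq P hVP ((H.key (closure {z, y}) (A := P ⊓ centralizer {y})
    (B := P ⊓ centralizer {y} ⊓ centralizer {t} ⊓ centralizer {s}) inf_le_left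
    (inf_le_left.trans (inf_le_left.trans inf_le_left)) (1 / 2) (-1 / 6) (2 / 3) fun a ha => by
      split_ifs with h7 h8 h8
      · linarith [one_le_T (closure {z, y}) ha]
      · have : (3 : ℚ) ≤ (T P (closure {z, y}) a).ncard := by
          rcases hc.conj a ha t ht with e | e <;> rcases h4 a h7 with e' | e'
          · exact absurd ⟨⟨h7, mem_cent.2 e⟩, mem_cent.2 e'⟩ h8
          · exact three_le_T ha (hT a ha y hyV s e') (hT a ha _ (mul_mem hyV hzV) (t * s) (by
              rw [← h1, ← e, conj_mul, ← e', e]; group)) (by simpa) (by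
                rwa [Ne, mul_eq_left, hc.comm hx]) (by simpa)
          · exact three_le_T ha (hT a ha z hzV t e) (hT a ha _ (mul_mem hzV hyV) (s * t) (by
              rw [← h2, ← e', conj_mul, ← e, e']; group)) (by simpa) (by
                rwa [Ne, mul_eq_left]) (by simpa)
          · exact three_le_T ha (hT a ha z hzV t e) (hT a ha y hyV s e') (by simpa) (by simpa)
              (by simpa using hne.symm)
        linarith
      · linarith [one_le_T (closure {z, y}) ha]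
      · have := two_le_T ha (hT a ha z hzV y ((hc.conj a ha y hx).resolve_left fun e =>
          h7 ⟨ha, mem_cent.2 e⟩)) (by simpa)
        linarith).2 (by
      have : (4 : ℚ) * Nat.card ↥((P : Subgroup G) ⊓ centralizer {y} ⊓ centralizer {t} ⊓
        centralizer {s}) ≤ Nat.card ↥((P : Subgroup G) ⊓ centralizer {y}) := by
        exact_mod_cast (by omega : 4 * _ ≤ _)
      linarith))
  rw [Concl, h7]
  refine ⟨hV.card_four, eq_bot_iff.2 fun v hv => ?_⟩
  have h8 := mem_center_iff.1 hv.2 t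
  rcases Inv.Klein.cases hV hzV hyV hv.1 hz hy hne.symm with e | e | e | e
  · exact e
  · exact absurd (e ▸ hv.2) hzc
  · rw [← e, h8, mul_inv_cancel_right, left_eq_mul] at h1
    exact absurd h1 hz
  · rw [← mul_inv_eq_iff_eq_mul, e, ← conj_mul, h1, htz, mul_right_inj, mul_eq_left] at h8
    exact absurd h8 hz

theorem Half.concl (P : Sylow 2 G) (H : Half (P : Subgroup G)) (hO : pPrimeCore 2 G = ⊥) :
    Concl (P : Subgroup G) := by
  obtain ⟨z, hc⟩ := exists_cm P.2 H.card_commutator_le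
  by_cases h1 : ∀ h ∈ normalizer ((P : Subgroup G) : Set G), Odd (orderOf h) →
      ∀ x ∈ P, h * x * h⁻¹ = x
  · by_cases h2 : ∀ g : G, g * z * g⁻¹ ∈ P → g * z * g⁻¹ = z
    · refine (H.not_central P hc ?_ h1).elim
      by_cases hz : z = 1
      · exact hz ▸ one_mem _
      obtain ⟨N, h3, h4, h5⟩ := S0215.result P z (orderOf_eq_prime (by rw [pow_two, hc.sq]) hz)
        hc.memP h2
      have h6 := Grp.le_pPrimeCore h3 (Nat.coprime_two_right.2 h4)
      rw [hO] at h6
      exact mem_center_iff.2 fun g => (commutatorElement_eq_one_iff_mul_comm.1 (h6 (h5 g))).symm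
    · push Not at h2
      obtain ⟨g, h3, h4⟩ := h2
      exact H.moved P hc h3 h4
  · push Not at h1
    obtain ⟨h, h2, h3, x, h4, h5⟩ := h1
    by_cases hz : z = 1
    · exact H.abelian P (hz ▸ hc) h2 h3 h4 h5
    · exact (H.not_odd P.2 hc hz h2 h3 h4 h5).elim

theorem klein_selfcent {R : Subgroup G} [R.Normal] (hV : IsKleinFour R)
    (hC : centralizer (R : Set G) ≤ R) : IsPGroup 2 G ∨ Nonempty (G ≃* alternatingGroup (Fin 4)) ∨
      Nonempty (G ≃* Equiv.Perm (Fin 4)) := by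
  have hRP : IsPGroup 2 R := .of_card (n := 2) hV.card_four
  have hRN : normalizer (R : Set G) = ⊤ := normalizer_eq_top R
  have hCR : centralizer (R : Set G) = R :=
    le_antisymm hC fun a ha b hb => Inv.Klein.comm hV hb ha
  have h6 := Inv.relIndex_centralizer_kleinFour_dvd hV
  rw [hCR, hRN, relIndex_top_right] at h6
  have hcard := R.card_mul_index
  rw [hV.card_four] at hcard
  have hno : ∀ g : G, orderOf g ≠ 6 := by
    intro g hg
    have hu : orderOf (g ^ 2) = 3 := by rw [orderOf_pow' _ two_ne_zero, hg]; rfl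
    have hs : orderOf (g ^ 3) = 2 := by rw [orderOf_pow' _ three_ne_zero, hg]; rfl
    have hodd : Odd (orderOf (g ^ 2)) := by rw [hu]; decide
    have hfix : ∀ z ∈ R, z ≠ 1 → g ^ 2 * z * (g ^ 2)⁻¹ ≠ z := fun z hz hz1 hzu => by
      rw [Transfer.eq_one_of_mem_isPGroup_of_coprime hRP (hC (Inv.mem_centralizer_kleinFour_of_odd
        hV (hRN ▸ mem_top _) hodd hz hz1 hzu)) (Nat.coprime_two_right.2 hodd)] at hu
      simp at hu
    obtain ⟨a, ha, ha1⟩ := Misc.exists_ne_one_of_isKleinFour hV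
    obtain ⟨z, hz, hz1, hzc⟩ := Misc.exists_mem_centralizer_of_isPGroup
      (PLocal.Amb.isPGroup_zpowers ⟨1, by rw [pow_one, ← hs, pow_orderOf_eq_one]⟩) hRP
      (hRN ▸ le_top) fun h0 => ha1 (by rwa [h0, mem_bot] at ha)
    have hsz := hzc _ (mem_zpowers _)
    have hwR : g ^ 2 * z * (g ^ 2)⁻¹ ∈ R := ‹R.Normal›.conj_mem z hz _
    have hsw : g ^ 3 * (g ^ 2 * z * (g ^ 2)⁻¹) = g ^ 2 * z * (g ^ 2)⁻¹ * g ^ 3 := by
      calc _ = g ^ 2 * (g ^ 3 * z) * (g ^ 2)⁻¹ := by group
        _ = _ := by rw [hsz]; group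
    refine hfix (g ^ 3) (hC fun y hy => ?_) (fun h1 => by simp [h1] at hs) (by group)
    rcases Inv.Klein.cases hV hwR hz hy (fun h1 => hz1 (by simpa using h1)) hz1 (hfix z hz hz1)
      with e | e | e | e
    · rw [e, one_mul, mul_one]
    · rw [e, hsw]
    · rw [e, hsz]
    · rw [e, mul_assoc, ← hsz, ← mul_assoc, ← hsw, mul_assoc]
  have hle := Nat.le_of_dvd (by norm_num) h6
  generalize R.index = m at h6 hcard hle
  interval_cases m
  · omega
  · exact Or.inl (IsPGroup.of_card (n := 2) hcard.symm)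
  · exact Or.inl (IsPGroup.of_card (n := 3) hcard.symm)
  · exact Or.inr (Or.inl (Class.SmallIso.alt4_of_orders hcard.symm hno))
  · omega
  · omega
  · exact Or.inr (Or.inr (Class.SmallIso.sym4_of_orders hcard.symm hno))

theorem cyclic_or_klein {V : Subgroup G} (h : Nat.card V = 4) : IsCyclic V ∨ IsKleinFour V :=
  or_iff_not_imp_left.2 fun hc => Misc.isKleinFour_iff.2 ⟨h, fun x hx => by
    have h1 : orderOf (⟨x, hx⟩ : V) ∣ 2 ^ 2 := (_root_.orderOf_dvd_natCard _).trans h.dvd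
    obtain ⟨i, hi, e⟩ := (Nat.dvd_prime_pow Nat.prime_two).1 h1
    have h2 : i ≠ 2 := fun h2 => hc (isCyclic_of_orderOf_eq_card _ (by rw [e, h2, h]; rfl))
    rw [← orderOf_dvd_iff_pow_eq_one, ← orderOf_mk x hx, e]
    exact (pow_dvd_pow 2 (by omega : i ≤ 1)).trans (by simp)⟩

theorem Concl.charP (P : Sylow 2 G) (h : Concl (P : Subgroup G))
    (hC : centralizer (pCore 2 G : Set G) ≤ pCore 2 G) :
    Nonempty (G ⧸ center G ≃* alternatingGroup (Fin 4)) ∨
      Nonempty (G ⧸ center G ≃* Equiv.Perm (Fin 4)) := by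
  have hF := Grp.pCore_isPGroup 2 G
  set V := _root_.commutator G ⊓ pCore 2 G with hVdef
  have hle : V ≤ _root_.commutator G ⊓ P := inf_le_inf_left _ (Grp.pCore_le_sylow P)
  have hVZ : V ⊓ center G = ⊥ := eq_bot_iff.2 ((inf_le_inf_right _ hle).trans h.2.le)
  have hcm : ∀ f ∈ pCore 2 G, ∀ x : G, f⁻¹ * (x * f * x⁻¹) ∈ V := fun f hf x => mem_inf.2
    ⟨by
      have := commutator_mem_commutator (mem_top f⁻¹) (mem_top x)
      rw [commutatorElement_def, inv_inv] at this
      simpa [mul_assoc, _root_.commutator_def] using this,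
    mul_mem (inv_mem hf) ((inferInstance : (pCore 2 G).Normal).conj_mem f hf x)⟩
  have hV0 : V ≠ ⊥ := fun e => by
    have h1 : (⊤ : Subgroup G) ≤ pCore 2 G := fun x _ => hC fun f hf => by
      have := hcm f hf x
      rw [e, mem_bot, inv_mul_eq_one] at this
      exact (mul_inv_eq_iff_eq_mul.1 this.symm).symm
    have h2 := h.1
    rw [le_bot_iff.1 ((inf_le_inf_left _ (le_top.trans h1)).trans e.le), card_bot] at h2
    omega
  have hN : normalizer (V : Set G) = ⊤ := normalizer_eq_top V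
  obtain ⟨ρ, ho, hρ⟩ : ∃ ρ : G, (orderOf ρ).Coprime 2 ∧ ρ ∉ centralizer (V : Set G) := by
    by_contra! h1
    obtain ⟨v, h2, h3, h4⟩ := Misc.exists_mem_centralizer_of_isPGroup P.2 hF.to_inf_right
      (hN ▸ le_top) hV0
    have h5 : (⊤ : Subgroup G) ≤ centralizer {v} := by
      rw [← Transfer.pResidual_sup_sylow P]
      exact sup_le (Transfer.pResidual_le_iff.2 fun x hx => mem_centralizer_singleton_iff.2
        (h1 x hx v h2).symm) fun g hg => mem_centralizer_singleton_iff.2 (h4 g hg)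
    exact h3 (hVZ.le ⟨h2, mem_center_iff.2 fun g => mem_centralizer_singleton_iff.1 (h5 (mem_top g))⟩)
  have hnc : ¬ IsCyclic V := fun hc => hρ (Inv.mem_centralizer_of_isPGroup_mulAut (p := 2) (by
    have h1 : Nat.card V ∣ 2 ^ 2 := (card_dvd_of_le hle).trans h.1.dvd
    obtain ⟨i, hi, e⟩ := (Nat.dvd_prime_pow Nat.prime_two).1 h1
    have h2 := IsCyclic.card_mulAut V
    interval_cases i
    · exact .of_card (n := 0) (by rw [h2, e]; rfl)
    · exact .of_card (n := 0) (by rw [h2, e]; rfl)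
    · exact .of_card (n := 1) (by rw [h2, e]; rfl)) (hN ▸ mem_top ρ) ho)
  have hV : IsKleinFour V := (cyclic_or_klein (by
    have h1 : Nat.card V ∣ 2 ^ 2 := (card_dvd_of_le hle).trans h.1.dvd
    obtain ⟨i, hi, e⟩ := (Nat.dvd_prime_pow Nat.prime_two).1 h1
    interval_cases i
    · exact (hnc (isCyclic_of_card_dvd_prime (p := 2) (by rw [e]; decide))).elim
    · exact (hnc (isCyclic_of_card_dvd_prime (p := 2) (by rw [e]; decide))).elim
    · exact e)).resolve_left hnc
  have ho' := Nat.coprime_two_right.1 ho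
  have hfix : ∀ v ∈ V, ρ * v * ρ⁻¹ = v → v = 1 := fun v hv e => by
    by_contra h1
    exact hρ (Inv.mem_centralizer_kleinFour_of_odd hV (hN ▸ mem_top ρ) ho' hv h1 e)
  have hCF : centralizer (V : Set G) ≤ pCore 2 G := Grp.le_pCore inferInstance
    (PLocal.Amb.isPGroup_of_forall_coprime fun x hx hx' =>
      Transfer.eq_one_of_mem_isPGroup_of_coprime hF (hC fun f hf => by
        have := eq_one_of_conj (Nat.coprime_two_right.1 hx') (mul_inv_cancel_left f _).symm
          (mul_inv_eq_iff_eq_mul.2 (hx _ (hcm f hf x)).symm) hF (hcm f hf x).2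
        rw [inv_mul_eq_one] at this
        exact (mul_inv_eq_iff_eq_mul.1 this.symm).symm) hx')
  have hcen : ∀ d ∈ centralizer (V : Set G), ρ * d * ρ⁻¹ = d → d ∈ center G := fun d hd e => by
    have h1 : ∀ c ∈ centralizer (V : Set G), c * d * c⁻¹ = d := fun c hc => by
      have h2 := hd _ (hcm c (hCF hc) ρ)
      refine (inv_mul_eq_one.1 (hfix _ (hcm d (hCF hd) c) ?_)).symm
      calc _ = (ρ * d * ρ⁻¹)⁻¹ * (c * (c⁻¹ * (ρ * c * ρ⁻¹) * (ρ * d * ρ⁻¹)) *
            (c⁻¹ * (ρ * c * ρ⁻¹))⁻¹ * c⁻¹) := by group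
        _ = _ := by rw [e, h2]; group
    let φ : G →* MulAut V := MulAut.conjNormal
    have hk : ∀ x, φ x = 1 ↔ x ∈ centralizer (V : Set G) := fun x =>
      ⟨fun e v hv => (mul_inv_eq_iff_eq_mul.1 (congrArg (fun f : MulAut V => (f ⟨v, hv⟩ : G)) e)).symm,
        fun e => MulEquiv.ext fun v => Subtype.ext (mul_inv_eq_iff_eq_mul.2 (e v v.2).symm)⟩
    have h3 : orderOf (φ ρ) = 3 := by
      have h4 : orderOf (φ ρ) ∣ 6 := Inv.card_mulAut_kleinFour (T := V) ▸ orderOf_dvd_natCard _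
      have h5 := ho'.of_dvd_nat (orderOf_map_dvd φ ρ)
      have h6 : orderOf (φ ρ) ≠ 1 := fun e => hρ ((hk ρ).1 (orderOf_eq_one_iff.1 e))
      have h7 := Nat.le_of_dvd (by norm_num) h4
      rw [Nat.odd_iff] at h5
      generalize orderOf (φ ρ) = m at *
      interval_cases m <;> omega
    have h4 : (zpowers (φ ρ)).Normal := normal_of_index_eq_two (by
      have := (zpowers (φ ρ)).card_mul_index
      rw [Nat.card_zpowers, h3, Inv.card_mulAut_kleinFour] at this
      omega)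
    refine mem_center_iff.2 fun g => mul_inv_eq_iff_eq_mul.1
      (inv_mul_eq_one.1 (hfix _ (hcm d (hCF hd) g) ?_)).symm
    obtain ⟨i, hi⟩ := h4.conj_mem' _ (mem_zpowers _) (φ g)
    have h5 : g⁻¹ * ρ * g ∈ centralizer {d} := by
      rw [← mul_inv_cancel_left (ρ ^ i) (g⁻¹ * ρ * g)]
      refine mul_mem (zpow_mem (mem_centralizer_singleton_iff.2 (mul_inv_eq_iff_eq_mul.1 e)) i)
        (mem_centralizer_singleton_iff.2 (mul_inv_eq_iff_eq_mul.1 (h1 _ ((hk _).1 ?_))))
      rw [map_mul, map_inv, map_zpow, inv_mul_eq_one, map_mul, map_mul, map_inv]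
      exact hi
    calc _ = (ρ * d * ρ⁻¹)⁻¹ * (g * (g⁻¹ * ρ * g * d) * (g⁻¹ * ρ * g)⁻¹ * g⁻¹) := by group
      _ = _ := by rw [e, mem_centralizer_singleton_iff.1 h5]; group
  obtain ⟨e⟩ := Inv.nonempty_equiv_map_of_inf_ker (QuotientGroup.mk' (center G)) (T := V)
    (by rwa [QuotientGroup.ker_mk'])
  have := (inferInstance : V.Normal).map _ (QuotientGroup.mk'_surjective (center G))
  refine (klein_selfcent (R := V.map (QuotientGroup.mk' (center G)))
    ⟨by rw [← Nat.card_congr e.toEquiv, hV.card_four], by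
      rw [← Monoid.exponent_eq_of_mulEquiv e, hV.exponent_two]⟩ fun c hc => ?_).resolve_left
    fun h2 => hρ (center_le_centralizer _ ((QuotientGroup.eq_one_iff ρ).1
      (Transfer.eq_one_of_isPGroup_of_coprime h2
        (Transfer.coprime_orderOf_map (QuotientGroup.mk' (center G)) ho))))
  obtain ⟨c, rfl⟩ := QuotientGroup.mk_surjective c
  have h1 : c ∈ centralizer (V : Set G) := fun v hv => by
    have h2 : v⁻¹ * (c * v * c⁻¹) ∈ V ⊓ center G := ⟨hcm v hv.2 c, by
      refine (QuotientGroup.eq_one_iff _).1 ?_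
      have := hc _ (mem_map_of_mem _ hv)
      simp only [QuotientGroup.mk'_apply] at this
      simp [← this]⟩
    rw [hVZ, mem_bot, inv_mul_eq_one] at h2
    exact (mul_inv_eq_iff_eq_mul.1 h2.symm).symm
  have h2 : Function.Injective fun v : V => (⟨_, hcm v v.2.2 ρ⟩ : V) := fun v w e => by
    have e' : (v : G)⁻¹ * (ρ * v * ρ⁻¹) = (w : G)⁻¹ * (ρ * w * ρ⁻¹) := congrArg Subtype.val e
    refine Subtype.ext (mul_inv_eq_one.1 (hfix _ (mul_mem v.2 (inv_mem w.2)) ?_))
    calc _ = v * ((v : G)⁻¹ * (ρ * v * ρ⁻¹)) * (ρ * w * ρ⁻¹)⁻¹ := by group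
      _ = _ := by rw [e']; group
  obtain ⟨w, hw⟩ := Finite.surjective_of_injective h2 ⟨_, hcm c (hCF h1) ρ⟩
  have hw' : (w : G)⁻¹ * (ρ * w * ρ⁻¹) = c⁻¹ * (ρ * c * ρ⁻¹) := congrArg Subtype.val hw
  refine ⟨w, w.2, QuotientGroup.eq.2 ?_⟩
  rw [← inv_mem_iff, mul_inv_rev, inv_inv, h1 _ w.2 |> fun e => show c⁻¹ * w = w * c⁻¹ by
    rw [inv_mul_eq_iff_eq_mul, ← mul_assoc, ← e, mul_inv_cancel_right], ← inv_mem_iff, mul_inv_rev,
    inv_inv]
  refine hcen _ (mul_mem h1 fun v hv => Inv.Klein.comm hV hv (inv_mem w.2)) ?_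
  calc _ = c * (c⁻¹ * (ρ * c * ρ⁻¹)) * (ρ * w * ρ⁻¹)⁻¹ := by group
    _ = _ := by rw [← hw']; group

theorem Concl.comp (P : Sylow 2 G) (h : Concl (P : Subgroup G)) (hO : pPrimeCore 2 G = ⊥)
    {L : Subgroup G} (hL : IsComponent L) : L.Normal ∧ centralizer (L : Set G) = center G ∧
      L ⊓ center G = ⊥ ∧ ∃ (F : Type) (_ : Field F) (_ : Fintype F), 3 < Fintype.card F ∧
        (Fintype.card F % 8 = 3 ∨ Fintype.card F % 8 = 5) ∧
        Nonempty (L ≃* Matrix.ProjectiveSpecialLinearGroup (Fin 2) F) := by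
  have hLD : ∀ {K : Subgroup G}, IsComponent K → K ≤ _root_.commutator G := fun hK =>
    (PLocal.comp_commutator hK).ge.trans (commutator_mono le_top le_top)
  have hS := (PLocal.isSylowIn_top P).inf_normal (K := _root_.commutator G) le_top
    (normalizer_eq_top _).ge
  rw [inf_comm] at hS
  have e := subgroupOfEquivOfLe hS.le
  have hS4 : Nat.card hS.toSylow = 4 := (Nat.card_congr e.toEquiv).trans h.1
  have h8 : ¬ 8 ∣ Nat.card L := fun h8 => by
    have := hS.toSylow.pow_dvd_card_of_pow_dvd_card (n := 3) (h8.trans (card_dvd_of_le (hLD hL)))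
    rw [hS4] at this
    omega
  obtain ⟨-, h2, h3⟩ := (GW.Cust.dsub_of_sylow hS.toSylow ((cyclic_or_klein hS4).imp id
    fun h : IsKleinFour (hS.toSylow : Subgroup (_root_.commutator G)) =>
      ⟨2, le_rfl, IsKleinFour.nonempty_mulEquiv⟩) ⊤).cases_comp (by
      rw [Grp.pPrimeCore_eq_subgroupOf_of_normal, hO, bot_subgroupOf])
    (PLocal.comp_subgroupOf hL (hLD hL))
  have h4 : ∀ x ∈ _root_.commutator G, x ∈ centralizer (L : Set G) → x = 1 := fun x hx hx' =>
    congrArg Subtype.val (mem_bot.1 (h2.le (show (⟨x, hx⟩ : _root_.commutator G) ∈ _ from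
      fun y hy => Subtype.ext (hx' _ hy))))
  have hn : L.Normal := ⟨fun x hx g => by
    by_contra h5
    have h6 := commutator_eq_bot_iff_le_centralizer.1 (PLocal.comp_commute_of_ne
      (PLocal.comp_conj hL g) hL fun e => h5 (e ▸ ⟨x, hx, rfl⟩))
    exact PLocal.comp_ne_bot (PLocal.comp_conj hL g) (eq_bot_iff.2 fun y hy =>
      h4 y (hLD (PLocal.comp_conj hL g) hy) (h6 hy))⟩
  refine ⟨hn, le_antisymm (fun c hc => mem_center_iff.2 fun g =>
    commutatorElement_eq_one_iff_mul_comm.1 (h4 _ (commutator_mem_commutator trivial trivial)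
      (mul_mem ((inferInstance : (centralizer (L : Set G)).Normal).conj_mem c hc g) (inv_mem hc))))
    (center_le_centralizer _), eq_bot_iff.2 fun x hx => h4 x (hLD hL hx.1)
      (center_le_centralizer _ hx.2), ?_⟩
  rcases h3.congr (subgroupOfEquivOfLe (hLD hL)) with ⟨q, F, _, _, hF, ho, h5, ⟨f⟩⟩ | ⟨⟨f⟩⟩
  · refine ⟨F, inferInstance, inferInstance, hF ▸ h5, ?_, ⟨f⟩⟩
    have h6 := Class.gcd_mul_card_PSL2 (F := F)
    rw [← Nat.card_congr f.toEquiv, hF] at h6
    rw [hF]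
    by_contra! h7
    obtain ⟨m, hm⟩ : ∃ m, q = 8 * m + 1 ∨ q = 8 * m + 7 := ⟨q / 8, by
      rw [Nat.odd_iff] at ho; omega⟩
    have h9 : Nat.gcd 2 (q - 1) = 2 := Nat.gcd_eq_left (by omega)
    have h10 : 16 ∣ q ^ 2 - 1 := by
      rcases hm with rfl | rfl
      · exact ⟨4 * m ^ 2 + m, by rw [Nat.sub_eq_iff_eq_add (Nat.one_le_pow _ _ (by omega))]; ring⟩
      · exact ⟨4 * m ^ 2 + 7 * m + 3, by
          rw [Nat.sub_eq_iff_eq_add (Nat.one_le_pow _ _ (by omega))]; ring⟩
    have h11 := h10.mul_left q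
    rw [← h6, h9] at h11
    omega
  · refine (h8 ?_).elim
    rw [Nat.card_congr f.toEquiv, nat_card_alternatingGroup]
    simp [Nat.factorial]

end Cfsg.Agent.FGS.Half
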