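import Mathlib
import Cfsg.Prelude.Def_Transfer

/-! An irreducible non-trivial action of an element of prime order `p` on an elementary abelian
`q`-group forces the order `q ^ e`, `e` the multiplicative order of `q` modulo `p`. -/

set_option autoImplicit false

namespace Cfsg.Agent.FGS

open Polynomial

theorem card_eq_pow_orderOf_add {M : Type*} [AddCommGroup M] [Finite M] {p q : ℕ} [hp : Fact p.Prime]
    (hq : q.Prime) (φ : M →ₗ[ℤ] M) (hM : ∀ m : M, q • m = 0) (hφ : φ ^ p = 1) (hφ1 : φ ≠ 1)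
    (hirr : ∀ U : Submodule ℤ M, (∀ u ∈ U, φ u ∈ U) → U = ⊥ ∨ U = ⊤) :
    Nat.card M = q ^ orderOf (q : ZMod p) := by
  haveI : Nontrivial M := by
    by_contra h
    rw [not_nontrivial_iff_subsingleton] at h
    exact hφ1 (LinearMap.ext fun _ => Subsingleton.elim _ _)
  haveI : Nontrivial (Module.AEval' φ) := (Module.AEval'.of φ).symm.toEquiv.nontrivial
  haveI : IsSimpleModule ℤ[X] (Module.AEval' φ) := by
    rw [isSimpleModule_iff]
    refine ⟨fun W => ?_⟩
    rcases hirr ((W.restrictScalars ℤ).comap (Module.AEval'.of φ).toLinearMap) (fun u hu => by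
      have := W.smul_mem X (show Module.AEval'.of φ u ∈ W from hu)
      rwa [Module.AEval'.X_smul_of] at this) with h | h
    · refine Or.inl (eq_bot_iff.2 fun w hw => ?_)
      obtain ⟨m, rfl⟩ := (Module.AEval'.of φ).surjective w
      have : m ∈ (⊥ : Submodule ℤ M) := h ▸ hw
      rw [(Submodule.mem_bot ℤ).1 this, map_zero]
      exact zero_mem _
    · refine Or.inr (eq_top_iff.2 fun w _ => ?_)
      obtain ⟨m, rfl⟩ := (Module.AEval'.of φ).surjective w
      exact (h ▸ Submodule.mem_top : m ∈ (W.restrictScalars ℤ).comap (Module.AEval'.of φ).toLinearMap)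
  obtain ⟨I, hI, ⟨e⟩⟩ := isSimpleModule_iff_quot_maximal.1 this
  letI := Ideal.Quotient.field I
  have hc : Nat.card M = Nat.card (ℤ[X] ⧸ I) :=
    Nat.card_congr ((Module.AEval'.of φ).toEquiv.trans e.toEquiv)
  haveI : Finite (ℤ[X] ⧸ I) := Nat.finite_of_card_ne_zero (hc ▸ Nat.card_pos.ne')
  have key : ∀ f : ℤ[X], Ideal.Quotient.mk I f = 0 ↔ aeval φ f = 0 := by
    intro f
    constructor
    · intro h
      ext m
      apply (Module.AEval'.of φ).injective
      apply e.injective
      have : Module.AEval'.of φ (aeval φ f m) = f • Module.AEval'.of φ m :=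
        Module.AEval.of_aeval_smul φ f m
      rw [this, map_smul, LinearMap.zero_apply, map_zero, map_zero, Algebra.smul_def]
      exact mul_eq_zero_of_left h _
    · intro h
      obtain ⟨m, hm⟩ := (Module.AEval'.of φ).surjective (e.symm 1)
      have : Module.AEval'.of φ (aeval φ f m) = f • Module.AEval'.of φ m :=
        Module.AEval.of_aeval_smul φ f m
      rw [h, hm, LinearMap.zero_apply, map_zero, ← map_smul, eq_comm, e.symm.map_eq_zero_iff,
        Algebra.smul_def, mul_one] at this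
      exact this
  set ζ := Ideal.Quotient.mk I X with hζ
  have h1 : ζ ^ p = 1 := by
    have := (key (X ^ p - 1)).2 (by simp [hφ])
    rwa [map_sub, map_pow, map_one, sub_eq_zero] at this
  have h2 : ζ ≠ 1 := fun h => hφ1 (by
    have := (key (X - 1)).1 (by rw [map_sub, map_one, sub_eq_zero]; exact h)
    simpa [sub_eq_zero] using this)
  have h3 : orderOf ζ = p := orderOf_eq_prime h1 h2
  haveI : CharP (ℤ[X] ⧸ I) q := (CharP.charP_iff_prime_eq_zero hq).2 (by
    have := (key (q : ℤ[X])).2 (by ext m; simpa using hM m)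
    simpa using this)
  haveI := Fact.mk hq
  haveI := Fintype.ofFinite (ℤ[X] ⧸ I)
  obtain ⟨d, -, hd⟩ := FiniteField.card (ℤ[X] ⧸ I) q
  have hζ0 : ζ ≠ 0 := fun h => by rw [h, zero_pow hp.out.ne_zero] at h1; exact zero_ne_one h1
  have h4 : (q : ZMod p) ^ (d : ℕ) = 1 := by
    have := FiniteField.pow_card_sub_one_eq_one ζ hζ0
    rw [← orderOf_dvd_iff_pow_eq_one, h3, hd, ← ZMod.natCast_eq_zero_iff,
      Nat.cast_sub (Nat.one_le_pow _ _ hq.pos)] at this
    push_cast at this
    exact sub_eq_zero.1 this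
  have h5 := orderOf_dvd_of_pow_eq_one h4
  have h6 : 0 < orderOf (q : ZMod p) := Nat.pos_of_dvd_of_pos h5 d.2
  set n := orderOf (q : ZMod p) with hn
  have h7 : ζ ^ q ^ n = ζ := by
    have : q ^ n ≡ 1 [MOD p] := by
      rw [← ZMod.natCast_eq_natCast_iff]
      push_cast
      exact pow_orderOf_eq_one _
    rw [← pow_mod_orderOf, h3, this, ← h3, pow_mod_orderOf, pow_one]
  have h8 : ∀ y : ℤ[X] ⧸ I, y ^ q ^ n = y := by
    have : iterateFrobenius (ℤ[X] ⧸ I) q n = RingHom.id _ := by
      refine Ideal.Quotient.ringHom_ext (Polynomial.ringHom_ext' (RingHom.ext_int _ _) ?_)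
      simpa [iterateFrobenius_def] using h7
    intro y
    simpa [iterateFrobenius_def] using DFunLike.congr_fun this y
  have h9 : Fintype.card (ℤ[X] ⧸ I) ≤ q ^ n := by
    classical
    have hne := FiniteField.X_pow_card_sub_X_ne_zero (ℤ[X] ⧸ I) (Nat.one_lt_pow h6.ne' hq.one_lt)
    have := Polynomial.card_le_degree_of_subset_roots (p := (X ^ q ^ n - X : (ℤ[X] ⧸ I)[X]))
      (Z := Finset.univ) (fun y _ => by rw [mem_roots hne]; simp [h8 y])
    rwa [FiniteField.X_pow_card_sub_X_natDegree_eq _ (Nat.one_lt_pow h6.ne' hq.one_lt),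
      Finset.card_univ] at this
  rw [hd, Nat.pow_le_pow_iff_right hq.one_lt] at h9
  rw [hc, Nat.card_eq_fintype_card, hd, le_antisymm h9 (Nat.le_of_dvd d.2 h5)]

open scoped IsMulCommutative in
theorem card_eq_pow_orderOf {G : Type*} [Group G] [Finite G] {p q : ℕ} [Fact p.Prime]
    (hq : q.Prime) (A : Subgroup G) [hn : A.Normal] (hA : IsElementaryAbelian q A) {x : G}
    (hx : x ^ p ∈ Subgroup.centralizer (A : Set G)) (hx1 : x ∉ Subgroup.centralizer (A : Set G))
    (hirr : ∀ B : Subgroup G, B ≤ A → (∀ b ∈ B, x * b * x⁻¹ ∈ B) → B = ⊥ ∨ B = A) :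
    Nat.card A = q ^ orderOf (q : ZMod p) := by
  haveI := hA.1
  let ψ : A →* A := (MulAut.conjNormal x : MulAut A).toMonoidHom
  let φ : Additive A →ₗ[ℤ] Additive A := (MonoidHom.toAdditive ψ).toIntLinearMap
  have hφ : ∀ (k : ℕ) (a : A), (((φ ^ k) (Additive.ofMul a)).toMul : G) = x ^ k * a * (x ^ k)⁻¹ := by
    intro k
    induction k with
    | zero => intro a; simp
    | succ k ih =>
      intro a
      rw [pow_succ, Module.End.mul_apply]
      refine (ih (ψ a)).trans ?_
      show x ^ k * (x * a * x⁻¹) * (x ^ k)⁻¹ = _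
      group
  refine card_eq_pow_orderOf_add (M := Additive A) hq φ (fun m => ?_) ?_ (fun h => hx1 fun a ha => ?_)
    (fun U hU => ?_)
  · exact Additive.toMul.injective (Subtype.ext (hA.2 _ m.toMul.2))
  · refine LinearMap.ext fun m => Additive.toMul.injective (Subtype.ext ((hφ p m.toMul).trans ?_))
    rw [← hx _ m.toMul.2]; simp
  · have := hφ 1 ⟨a, ha⟩
    rw [pow_one, pow_one, h] at this
    exact eq_mul_of_mul_inv_eq this.symm |>.symm
  · rcases hirr (U.toAddSubgroup.toSubgroup'.map A.subtype) (Subgroup.map_subtype_le _) (by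
      rintro _ ⟨b, hb, rfl⟩
      exact ⟨ψ b, hU _ hb, rfl⟩) with h | h
    · refine Or.inl (eq_bot_iff.2 fun u hu => ?_)
      have : ((u.toMul : A) : G) ∈ (⊥ : Subgroup G) := h ▸ ⟨u.toMul, hu, rfl⟩
      exact Additive.toMul.injective (Subtype.ext (Subgroup.mem_bot.1 this))
    · refine Or.inr (eq_top_iff.2 fun u _ => ?_)
      obtain ⟨b, hb, e⟩ : ((u.toMul : A) : G) ∈ U.toAddSubgroup.toSubgroup'.map A.subtype :=
        h.symm ▸ u.toMul.2
      obtain rfl : b = u.toMul := Subtype.ext e
      exact hb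

end Cfsg.Agent.FGS
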