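import Mathlib
import Cfsg.Agent.FGS.Kulakoff
import Cfsg.Agent.FGS.ESIndexP

/-! The number of subgroups of given order in a `2`-group, modulo `4`. -/

set_option autoImplicit false

namespace Cfsg.Agent.FGS.SubCount

open Subgroup Cfsg.Agent.PLocal.Amb Cfsg.Agent.Grp.CommPow
open scoped commutatorElement

universe u

variable {G : Type*} [Group G] [Finite G]

theorem exists_gen_maxClass {n : ℕ} (hG : Nat.card G = 2 ^ (n + 3)) (hc : ¬ IsCyclic G)
    (h : (commutator G).index ≤ 4) : ∃ a : G, orderOf a = 2 ^ (n + 2) ∧ (zpowers a).index = 2 ∧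
      commutator G = zpowers (a ^ 2) ∧ ∀ b ∉ zpowers a, a ^ 2 ∈ zpowers ⁅b, a⁆ ∧
        ⁅b, a⁆ ∈ zpowers (a ^ 2) := by
  have hG' : IsPGroup 2 G := IsPGroup.of_card hG
  obtain ⟨a, ha, hi, -⟩ := Grp.MaxClass.exists_gens_of_index_commutator_le (by omega) hG h
  replace ha : orderOf a = 2 ^ (n + 2) := ha
  haveI hn := normal_of_index_eq_prime hG' hi
  have h1 : commutator G = zpowers (a ^ 2) := by
    refine FT.eq_of_card_eq_of_le_cyclic (K := zpowers a) inferInstance
      ((Grp.PFrattini.commutator_le_frattini hG').trans (frattini_le_of_index hi))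
      (zpowers_le.2 (pow_mem (mem_zpowers a) 2)) ?_
    rw [card_of_index (m := n + 1) (k := 2) two_pos hG
      (le_antisymm h (Grp.MaxClass.sq_le_index_commutator hG' hc)), Nat.card_zpowers,
      orderOf_pow_of_dvd two_ne_zero (ha ▸ dvd_pow_self 2 (by omega)), ha,
      pow_succ 2 (n + 1), Nat.mul_div_cancel _ two_pos]
  refine ⟨a, ha, hi, h1, fun b hb => ⟨?_, h1 ▸ commutator_mem_commutator (mem_top b) (mem_top a)⟩⟩
  obtain ⟨_, ⟨i, rfl⟩, h2⟩ := (Grp.MaxClass.mem_commutator_iff_of_abelian (zpowers a)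
    inferInstance (sup_zpowers_eq_top_of_prime_index (hi ▸ Nat.prime_two) hb)).1
    (h1.ge (mem_zpowers _))
  have h3 : Commute ⁅a, b⁆ a := Dedekind.commute_of_mem_zpowers
    (zpowers_le.2 (pow_mem (mem_zpowers a) 2) (h1 ▸ commutator_mem_commutator (mem_top a) (mem_top b)))
  rw [← h2, commutator_zpow_left h3, ← commutatorElement_inv b a]
  exact zpow_mem (inv_mem (mem_zpowers _)) _

omit [Finite G] in
theorem pow_four_mem {a b : G} (h1 : a ^ 2 ∈ zpowers ⁅b, a⁆) (h2 : ⁅b, a⁆ ∈ zpowers (a ^ 2)) :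
    (a ^ 2) ^ 2 ∈ zpowers ⁅b, a ^ 2⁆ := by
  rw [commutator_pow_right (Dedekind.commute_of_mem_zpowers
    (zpowers_le.2 (pow_mem (mem_zpowers a) 2) h2))]
  obtain ⟨k, hk⟩ := h1
  refine ⟨k, ?_⟩
  dsimp only at hk ⊢
  rw [← hk, ← zpow_natCast, ← zpow_natCast, ← zpow_mul, ← zpow_mul, mul_comm]

theorem exists_notMem_of_ne {A M : Subgroup G} (h : M.index = A.index) (hne : M ≠ A) :
    ∃ b ∈ M, b ∉ A := by
  by_contra h1
  push Not at h1
  refine hne (eq_of_le_of_card_ge h1 (le_of_eq ?_))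
  have h2 := M.card_mul_index
  rw [h, ← A.card_mul_index] at h2
  exact (Nat.eq_of_mul_eq_mul_right (Nat.pos_of_ne_zero index_ne_zero_of_finite) h2).symm

theorem isCyclic_or_of_maxClass {n : ℕ} (hG : Nat.card G = 2 ^ (n + 3)) (hc : ¬ IsCyclic G)
    (h : (commutator G).index ≤ 4) {M : Subgroup G} (hM : M.index = 2) :
    IsCyclic M ∨ (commutator M).index ≤ 4 := by
  obtain ⟨a, ha, hi, -, h1⟩ := exists_gen_maxClass hG hc h
  by_cases h2 : M = zpowers a
  · left; rw [h2]; infer_instance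
  right
  obtain ⟨b, hb, hba⟩ := exists_notMem_of_ne (hM.trans hi.symm) h2
  haveI := normal_of_index_eq_prime (IsPGroup.of_card hG) hM
  have h3 : a ^ 2 ∈ M := hM ▸ M.pow_index_mem a
  refine index_commutator_le_four (n := n) (a := ⟨a ^ 2, h3⟩)
    (card_of_index (k := 1) two_pos hG hM) ?_ ?_
  · rw [Subgroup.orderOf_mk, orderOf_pow_of_dvd two_ne_zero (ha ▸ dvd_pow_self 2 (by omega)), ha,
      pow_succ 2 (n + 1), Nat.mul_div_cancel _ two_pos]
  · obtain ⟨k, hk⟩ := pow_four_mem (h1 b hba).1 (h1 b hba).2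
    have : (⟨a ^ 2, h3⟩ : M) ^ 2 = ⁅(⟨b, hb⟩ : M), ⟨a ^ 2, h3⟩⁆ ^ k := Subtype.ext hk.symm
    rw [this]
    exact zpow_mem (commutator_mem_commutator (mem_top _) (mem_top _)) k

theorem card_cyclic_max_of_maxClass {n : ℕ} (hG : Nat.card G = 2 ^ (n + 3)) (hc : ¬ IsCyclic G)
    (h : (commutator G).index ≤ 4) :
    Nat.card {M : Subgroup G // IsCyclic M ∧ M.index = 2} ≡ 1 [MOD 2] := by
  obtain ⟨a, ha, hi, -, h1⟩ := exists_gen_maxClass hG hc h
  have hG' : IsPGroup 2 G := IsPGroup.of_card hG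
  by_cases h2 : ∀ M : Subgroup G, IsCyclic M ∧ M.index = 2 → M = zpowers a
  · rw [card_eq_one_of ⟨inferInstance, hi⟩ h2]
  push Not at h2
  obtain ⟨N, ⟨hN, hNi⟩, hNa⟩ := h2
  obtain ⟨x, rfl, hx⟩ := exists_gen_of_isCyclic hN
  have hcard : ∀ M : Subgroup G, M.index = 2 → Nat.card M = 2 ^ (n + 2) := fun M hM =>
    card_of_index (k := 1) two_pos hG hM
  rw [hcard _ hNi] at hx
  have hxa : x ∉ zpowers a := fun h3 => hNa (eq_of_le_of_card_ge (zpowers_le.2 h3)
    (by rw [hcard _ hNi, hcard _ hi]))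
  haveI := normal_of_index_eq_prime hG' hNi
  have h3 : a ^ 2 ∈ zpowers x := hNi ▸ (zpowers x).pow_index_mem a
  have h4 := pow_four_mem (h1 x hxa).1 (h1 x hxa).2
  rw [(Dedekind.commute_of_mem_zpowers h3).symm.commutator_eq, zpowers_one_eq_bot, mem_bot] at h4
  have h5 : n = 0 := by
    have := orderOf_dvd_of_pow_eq_one (show a ^ 2 ^ 2 = 1 by rw [← h4, ← pow_mul]; rfl)
    rw [ha, Nat.pow_dvd_pow_iff_le_right one_lt_two] at this
    omega
  subst h5
  have h6 : a ^ 2 ≠ 1 := pow_ne_one_of_lt_orderOf two_ne_zero (by rw [ha]; norm_num)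
  have h7 : ⁅x, a⁆ = a ^ 2 := Dedekind.eq_of_mem_zpowers_two h4 (h1 x hxa).2 fun h8 => h6 (by
    have := (h1 x hxa).1
    rwa [h8, zpowers_one_eq_bot, mem_bot] at this)
  have h8 : x * a * x⁻¹ = a ^ (-1 : ℤ) := by
    rw [zpow_neg_one, eq_inv_iff_mul_eq_one]
    calc x * a * x⁻¹ * a = ⁅x, a⁆ * a ^ 2 := by rw [commutatorElement_def, sq]; group
      _ = 1 := by rw [h7, ← sq, h4]
  haveI : Nontrivial G := Finite.one_lt_card_iff_nontrivial.1 (by rw [hG]; norm_num)
  refine Nat.ModEq.trans (congrArg (· % 2) (card_congr_iff fun M => ⟨fun h => h.2, fun hM =>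
    ⟨?_, hM⟩⟩)) (card_max_modEq hG')
  by_cases h9 : M = zpowers a
  · rw [h9]; infer_instance
  obtain ⟨y, hy, hya⟩ := exists_notMem_of_ne (hM.trans hi.symm) h9
  obtain ⟨i, hi'⟩ : y * x⁻¹ ∈ zpowers a := (mul_mem_iff_of_index_two hi).2
    (iff_of_false hya (mt inv_mem_iff.1 hxa))
  have h10 : y ^ 2 = x ^ 2 := by
    have h11 : y = a ^ i * x := by dsimp only at hi'; rw [hi']; group
    calc y ^ 2 = a ^ i * (x * a ^ i * x⁻¹) * x ^ 2 := by rw [h11, sq, sq]; group
      _ = x ^ 2 := by rw [Grp.conj_zpow_of_conj_eq h8]; group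
  have h11 : orderOf y = 2 ^ (0 + 2) := by
    refine orderOf_eq_prime_pow (n := 1) ?_ ?_
    · rw [pow_one, h10]; exact pow_ne_one_of_lt_orderOf two_ne_zero (by rw [hx]; norm_num)
    · rw [pow_succ, pow_one, pow_mul, h10, ← pow_mul, ← pow_orderOf_eq_one x, hx]; rfl
  rw [← eq_of_le_of_card_ge (zpowers_le.2 hy) (by rw [Nat.card_zpowers, h11, hcard M hM])]
  infer_instance

theorem card_abelian_max_sixteen (hG : Nat.card G = 2 ^ 4) (h : Nat.card (commutator G) = 2) :
    Nat.card {M : Subgroup G // M.index = 2 ∧ IsMulCommutative M} ≡ 1 [MOD 2] := by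
  have hG' : IsPGroup 2 G := IsPGroup.of_card hG
  have hna : commutator G ≠ ⊥ := fun h1 => by rw [h1, card_bot] at h; omega
  have hna' : ¬ IsMulCommutative G := fun h1 => hna ((commutator_eq_bot_iff G).2 h1)
  obtain ⟨A, hA, hAc⟩ := exists_abelian_sq_lt_card hG' hG.ge
  have hAi : A.index = 2 := by
    obtain ⟨k, hk⟩ := hG'.index A
    have h1 := A.card_mul_index
    rcases k with _ | _ | k
    · rw [pow_zero, index_eq_one] at hk
      subst hk
      exact absurd ⟨⟨fun a b => congrArg Subtype.val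
        (hA.is_comm.comm ⟨a, mem_top a⟩ ⟨b, mem_top b⟩)⟩⟩ hna'
    · simpa using hk
    · rw [hk, hG, show 2 ^ (k + 1 + 1) = 4 * 2 ^ k by ring] at h1
      have := Nat.one_le_two_pow (n := k)
      nlinarith
  haveI := normal_of_index_eq_prime hG' hAi
  obtain ⟨x, hx⟩ := exists_notMem_of_index_ne_one (H := A) (by omega)
  have h1 := Grp.MaxClass.card_eq_of_abelian A hA
    (sup_zpowers_eq_top_of_prime_index (hAi ▸ Nat.prime_two) hx)
  rw [← Grp.MaxClass.center_eq_of_abelian A hA Nat.prime_two hAi hna hx, h,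
    card_of_index (m := 3) (k := 1) two_pos hG hAi] at h1
  refine (card_congr_iff (P := fun M : Subgroup G => M.index = 2 ∧ IsMulCommutative M)
    (Q := fun M : Subgroup G => center G ≤ M ∧ M.index = 2)
    fun M => ⟨fun hM => ⟨?_, hM.1⟩, fun hM => ⟨hM.2, ?_⟩⟩) ▸
      card_max_over_modEq hG' (H := center G) fun h2 => hna
      ((commutator_eq_bot_iff_center_eq_top G).2 h2)
  · by_contra h2
    exact hna' (isMulCommutative_of_sup_center_eq_top hM.2
      (sup_eq_top_of_prime_index (hM.1 ▸ Nat.prime_two) h2))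
  · have h2 := card_of_index (m := 3) (k := 1) two_pos hG hM.2
    obtain ⟨y, hy, hyZ⟩ := SetLike.exists_of_lt (lt_of_le_of_ne hM.1 fun h3 => by
      rw [← h3] at h2; omega)
    rw [← (eq_or_eq_of_card (hG'.to_subgroup M) (by omega) le_sup_left
      (sup_le hM.1 (zpowers_le.2 hy))).resolve_left fun h3 => hyZ (h3.le (mem_sup_right (mem_zpowers y)))]
    exact isMulCommutative_sup inferInstance inferInstance (center_le_centralizer _)

omit [Finite G] in
theorem card_commutator_eq (M : Subgroup G) : Nat.card (commutator M) = Nat.card ↥⁅M, M⁆ := by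
  rw [← map_subtype_commutator, card_map_of_injective (subtype_injective M)]

theorem two_dvd_card_maxClass {n : ℕ} (hG : Nat.card G = 2 ^ (n + 4))
    (h : 4 < (commutator G).index) :
    2 ∣ Nat.card {M : Subgroup G // M.index = 2 ∧ (commutator M).index ≤ 4} := by
  have hG' : IsPGroup 2 G := IsPGroup.of_card hG
  by_cases hex : ∃ M : Subgroup G, M.index = 2 ∧ (commutator M).index ≤ 4
  swap
  · rw [card_eq_zero_of fun A hA => hex ⟨A, hA⟩]; exact dvd_zero 2
  obtain ⟨M, hM, hMc⟩ := hex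
  have hcard : ∀ M : Subgroup G, M.index = 2 → Nat.card M = 2 ^ (n + 3) := fun M hM =>
    card_of_index (k := 1) two_pos hG hM
  have hiff : ∀ N : Subgroup G, N.index = 2 →
      ((commutator N).index ≤ 4 ↔ 2 ^ (n + 1) ≤ Nat.card ↥⁅N, N⁆) := by
    intro N hN
    have h1 := (commutator N).card_mul_index
    rw [hcard N hN, card_commutator_eq, show 2 ^ (n + 3) = 2 ^ (n + 1) * 4 by ring] at h1
    have h2 : 0 < Nat.card ↥⁅N, N⁆ := Nat.card_pos
    have h3 : 0 < 2 ^ (n + 1) := by positivity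
    constructor <;> intro h4 <;> nlinarith
  have hle : ∀ N : Subgroup G, ⁅N, N⁆ ≤ commutator G := fun N => commutator_mono le_top le_top
  have hDc : Nat.card (commutator G) ≤ 2 ^ (n + 1) := by
    obtain ⟨k, hk⟩ := hG'.index (commutator G)
    have h1 := (commutator G).card_mul_index
    have h2 : 3 ≤ k := by
      by_contra h2
      have : 2 ^ k ≤ 2 ^ 2 := Nat.pow_le_pow_right two_pos (by omega)
      omega
    have h3 : 2 ^ 3 ≤ 2 ^ k := Nat.pow_le_pow_right two_pos h2
    rw [hG, hk, show 2 ^ (n + 4) = 2 ^ (n + 1) * 2 ^ 3 by ring] at h1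
    nlinarith
  have hMnc : ¬ IsCyclic M := fun h1 => by
    have h2 := (hiff M hM).1 hMc
    rw [← card_commutator_eq, (commutator_eq_bot_iff M).2 inferInstance, card_bot] at h2
    have : 2 ≤ 2 ^ (n + 1) := Nat.le_self_pow (by omega) 2
    omega
  obtain ⟨a, ha, -, hD, -⟩ := exists_gen_maxClass (hcard M hM) hMnc hMc
  have hD1 : commutator G = zpowers ((a : G) ^ 2) := by
    rw [← eq_of_le_of_card_ge (hle M) (hDc.trans ((hiff M hM).1 hMc)), ← map_subtype_commutator, hD,
      MonoidHom.map_zpowers]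
    rfl
  have hd : orderOf ((a : G) ^ 2) = 2 ^ (n + 1) := by
    rw [← Subgroup.orderOf_coe] at ha
    rw [orderOf_pow_of_dvd two_ne_zero (ha ▸ dvd_pow_self 2 (by omega)), ha,
      pow_succ 2 (n + 1), Nat.mul_div_cancel _ two_pos]
  generalize (a : G) ^ 2 = d at hD1 hd
  have hW : zpowers (d ^ 2) ≤ commutator G := hD1 ▸ zpowers_le.2 (pow_mem (mem_zpowers d) 2)
  have hWc : Nat.card (zpowers (d ^ 2)) = 2 ^ n := by
    rw [Nat.card_zpowers, orderOf_pow_of_dvd two_ne_zero (hd ▸ dvd_pow_self 2 (by omega)), hd,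
      pow_succ, Nat.mul_div_cancel _ two_pos]
  have hDcyc : IsCyclic (commutator G) := by rw [hD1]; infer_instance
  have hDc' : Nat.card (commutator G) = 2 ^ (n + 1) := by rw [hD1, Nat.card_zpowers, hd]
  haveI hWn : (zpowers (d ^ 2)).Normal := normalizer_eq_top_iff.1 (eq_top_iff.2
    (le_normalizer_of_normal.trans (FT.norm_of_le_cyclic hDcyc hW)))
  have hiff2 : ∀ N : Subgroup G, N.index = 2 →
      (¬ (commutator N).index ≤ 4 ↔ ⁅N, N⁆ ≤ zpowers (d ^ 2)) := by
    intro N hN
    rw [hiff N hN]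
    constructor
    · intro h1
      obtain ⟨k, hk⟩ := (hG'.to_subgroup ⁅N, N⁆).exists_card_eq
      have h2 : k ≤ n := by
        rw [hk, Nat.pow_le_pow_iff_right one_lt_two] at h1; omega
      obtain ⟨K, hK⟩ := Sylow.exists_subgroup_card_pow_prime 2
        (hWc ▸ pow_dvd_pow 2 h2 : 2 ^ k ∣ Nat.card (zpowers (d ^ 2)))
      rw [FT.eq_of_card_eq_of_le_cyclic hDcyc (hle N) ((map_subtype_le K).trans hW)
        (by rw [card_map_of_injective (subtype_injective _), hK, hk])]
      exact map_subtype_le K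
    · intro h1 h2
      have := h2.trans (card_le_of_le h1)
      rw [hWc, Nat.pow_le_pow_iff_right one_lt_two] at this
      omega
  have h1 := card_abelian_max_sixteen (G := G ⧸ zpowers (d ^ 2))
    (index_of_card two_pos hG hWc) (by
      have := Grp.card_map_mk'_mul_of_le _ hW
      rw [hWc, hDc', pow_succ' 2 n, commutator_def, map_commutator,
        map_top_of_surjective _ (QuotientGroup.mk'_surjective _)] at this
      exact Nat.eq_of_mul_eq_mul_right (by positivity) this)
  have h2 := card_ge_eq (QuotientGroup.mk' (zpowers (d ^ 2))) (QuotientGroup.mk'_surjective _)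
    fun N => N.index = 2 ∧ ⁅N, N⁆ ≤ zpowers (d ^ 2)
  rw [card_congr_iff (P := fun K : Subgroup (G ⧸ zpowers (d ^ 2)) => _ ∧ _)
    (Q := fun K => K.index = 2 ∧ IsMulCommutative K) fun K => by
      rw [index_comap_of_surjective _ (QuotientGroup.mk'_surjective _),
        ← commutator_self_eq_bot_iff]
      refine and_congr_right fun _ => ?_
      conv_rhs => rw [← map_comap_eq_self_of_surjective (QuotientGroup.mk'_surjective _) K,
        ← map_commutator, Subgroup.map_eq_bot_iff, QuotientGroup.ker_mk'],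
    card_congr_iff (Q := fun N : Subgroup G => N.index = 2 ∧ ¬ (commutator N).index ≤ 4) fun N =>
      ⟨fun h3 => ⟨h3.2.1, (hiff2 N h3.2.1).2 h3.2.2⟩, fun h3 => ⟨by
        rw [QuotientGroup.ker_mk']
        exact hW.trans ((Grp.PFrattini.commutator_le_frattini hG').trans (frattini_le_of_index h3.1)),
        h3.1, (hiff2 N h3.1).1 h3.2⟩⟩] at h2
  haveI : Nontrivial G := Finite.one_lt_card_iff_nontrivial.1
    (hG ▸ Nat.one_lt_pow (by omega) one_lt_two)
  have h3 := card_max_modEq hG'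
  rw [card_eq_add _ (fun N : Subgroup G => (commutator N).index ≤ 4), h2] at h3
  simp only [Nat.ModEq] at h1 h3
  omega

theorem kulakoff_two_aux (k m : ℕ) : ∀ (X : Type u) [Group X] [Finite X],
    Nat.card X = 2 ^ (k + 1 + m + 1) → ¬ IsCyclic X →
      Nat.card {H : Subgroup X // Nat.card H = 2 ^ (k + 1)} ≡
        (if 1 ≤ m ∧ (commutator X).index ≤ 4 then 1 else 3) [MOD 4] := by
  induction m with
  | zero =>
    intro X _ _ hX hc
    rw [card_congr_iff (Q := fun H : Subgroup X => H.index = 2) fun H =>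
      ⟨fun h => index_of_card (k := 1) two_pos hX h, fun h => card_of_index (k := 1) two_pos hX h⟩,
      if_neg (by simp)]
    exact card_max_modEq_sq (IsPGroup.of_card hX) hc
  | succ m ih =>
    intro X _ _ hX hc
    have hG : IsPGroup 2 X := IsPGroup.of_card hX
    have hcard : ∀ M : Subgroup X, M.index = 2 → Nat.card M = 2 ^ (k + 1 + m + 1) := fun M hM =>
      card_of_index (k := 1) two_pos hX hM
    have h1 := kulakoff_step (k := k + 1) (m := m) hX hc
      (fun M => IsCyclic M ∨ (1 ≤ m ∧ (commutator M).index ≤ 4))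
      (fun M hM h => by
        by_cases h1 : IsCyclic M
        · rw [card_le_of_isCyclic h1 (hcard M hM ▸ pow_dvd_pow 2 (by omega))]
        · have := ih M (hcard M hM) h1
          rwa [if_pos (h.resolve_left h1), ← card_le_card_eq] at this)
      (fun M hM h => by
        have := ih M (hcard M hM) (fun h1 => h (Or.inl h1))
        rwa [if_neg (fun h1 => h (Or.inr h1)), ← card_le_card_eq] at this)
    have hX' : Nat.card X = 2 ^ (k + m + 3) := hX.trans (by congr 1; omega)
    have h2 : Nat.card {M : Subgroup X // (IsCyclic M ∨ (1 ≤ m ∧ (commutator M).index ≤ 4)) ∧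
        M.index = 2} ≡ (if (commutator X).index ≤ 4 then 1 else 0) [MOD 2] := by
      rcases Nat.eq_zero_or_pos m with rfl | hm
      · rw [card_congr_iff (Q := fun M : Subgroup X => IsCyclic M ∧ M.index = 2) fun M => by simp]
        split_ifs with h
        · exact card_cyclic_max_of_maxClass hX' hc h
        · rw [card_congr_iff (Q := fun M : Subgroup X => M.index = 2 ∧ IsCyclic M) fun _ => and_comm]
          exact (Nat.modEq_zero_iff_dvd).2 (dvd_card_cyclic_max hX' hc fun _ => not_le.1 h)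
      · split_ifs with h
        · haveI : Nontrivial X := Finite.one_lt_card_iff_nontrivial.1
            (hX ▸ Nat.one_lt_pow (by omega) one_lt_two)
          rw [card_congr_iff (Q := fun M : Subgroup X => M.index = 2) fun M => ⟨fun h => h.2,
            fun hM => ⟨(isCyclic_or_of_maxClass hX' hc h hM).imp_right fun h => ⟨hm, h⟩, hM⟩⟩]
          exact card_max_modEq hG
        · have h3 := dvd_card_cyclic_max hX' hc fun _ => not_le.1 h
          have h4 := two_dvd_card_maxClass (n := k + m - 1) (hX.trans (by congr 1; omega))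
            (not_le.1 h)
          rw [card_eq_add _ (fun M : Subgroup X => (commutator M).index ≤ 4),
            card_congr_iff (Q := fun M : Subgroup X => M.index = 2 ∧ (commutator M).index ≤ 4)
              fun M => ⟨fun h => ⟨h.1.2, h.2⟩, fun h => ⟨⟨Or.inr ⟨hm, h.2⟩, h.1⟩, h.2⟩⟩,
            card_congr_iff (P := fun M : Subgroup X => _ ∧ ¬ _)
              (Q := fun M : Subgroup X => M.index = 2 ∧ IsCyclic M)
              fun M => ⟨fun h => ⟨h.1.2, h.1.1.resolve_right fun h' => h.2 h'.2⟩,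
                fun h => ⟨⟨Or.inl h.2, h.1⟩, ?_⟩⟩]
          · exact (Nat.modEq_zero_iff_dvd).2 (dvd_add h4 h3)
          · haveI := h.2
            rw [(commutator_eq_bot_iff M).2 inferInstance, index_bot, hcard M h.1, not_le]
            exact lt_of_lt_of_le (by norm_num : 4 < 2 ^ 3) (Nat.pow_le_pow_right two_pos (by omega))
    simp only [Nat.ModEq, Nat.le_add_left, true_and] at h1 h2 ⊢
    split_ifs at h2 ⊢ <;> omega

end Cfsg.Agent.FGS.SubCount
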