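import Cfsg.Agent.Fus.MaxCl
import Cfsg.Agent.PLocal.SylowIn
import Mathlib.GroupTheory.CosetCover

/-! Uniform elements of a Sylow `p`-subgroup of maximal class: fusion. -/

set_option autoImplicit false

namespace Cfsg.Agent.FGS.MaxClSylow

open Subgroup FGS.LcsLie Fus.MC PLocal
open scoped commutatorElement Pointwise

universe u

/-- A group is not the union of `p` subgroups of index at least `p ≥ 2`. -/
theorem exists_notMem_all {G : Type*} [Group G] [Finite G] {p : ℕ} (hp : 2 ≤ p)
    (H : ℕ → Subgroup G) (h : ∀ i < p, p ≤ (H i).index) : ∃ s : G, ∀ i < p, s ∉ H i := by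
  classical
  by_contra! hc
  have hcov : ⋃ i ∈ Finset.range p, (fun _ => (1 : G)) i • (H i : Set G) = Set.univ :=
    Set.eq_univ_of_forall fun s => by simpa using hc s
  have h1 := one_le_sum_inv_index_of_leftCoset_cover hcov
  have hp0 : (0 : ℚ) < p := by positivity
  have h2 : ∑ i ∈ Finset.range p, ((H i).index : ℚ)⁻¹ ≤ ∑ i ∈ Finset.range p, (p : ℚ)⁻¹ :=
    Finset.sum_le_sum fun i hi => inv_anti₀ hp0 (by exact_mod_cast h i (Finset.mem_range.1 hi))
  rw [Finset.sum_const, Finset.card_range, nsmul_eq_mul, mul_inv_cancel₀ hp0.ne'] at h2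
  have h3 := pairwiseDisjoint_leftCoset_cover_of_sum_inv_index_eq_one hcov (le_antisymm h2 h1)
  have h4 := h3 (x := 0) (by simp; exact ⟨by omega, inferInstance⟩) (y := 1)
    (by simp; exact ⟨by omega, inferInstance⟩) (by omega)
  simp only [one_smul, Function.onFun] at h4
  exact Set.disjoint_left.1 h4 (one_mem (H 0)) (one_mem (H 1))

theorem card_le_of_comm {G : Type*} [Group G] [Finite G] {A B : Subgroup G} {y : G}
    (h : ∀ x ∈ A, ⁅y, x⁆ ∈ B) :
    Nat.card A ≤ Nat.card (A ⊓ centralizer {y} : Subgroup G) * Nat.card B := by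
  have h1 := (centralizer {y}).subgroupOf A |>.card_mul_index
  have h2 : Nat.card ((centralizer {y}).subgroupOf A) =
      Nat.card (A ⊓ centralizer {y} : Subgroup G) := by
    rw [← inf_subgroupOf_left]
    exact Nat.card_congr (subgroupOfEquivOfLe inf_le_left).toEquiv
  rw [← h1, h2]
  refine Nat.mul_le_mul_left _ ?_
  let f : A ⧸ (centralizer {y}).subgroupOf A → B :=
    Quotient.lift (fun x : A => (⟨⁅y, (x : G)⁆, h x x.2⟩ : B)) (by
      intro a b hab
      have := QuotientGroup.leftRel_apply.1 hab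
      rw [mem_subgroupOf, mem_centralizer_singleton_iff] at this
      ext
      simp only [coe_mul, InvMemClass.coe_inv] at this
      simp only [commutatorElement_def]
      generalize (a : G) = a at *
      generalize (b : G) = b at *
      have h3 : b * y⁻¹ * b⁻¹ = a * ((a⁻¹ * b) * y * (a⁻¹ * b)⁻¹)⁻¹ * a⁻¹ := by group
      rw [this] at h3
      rw [mul_assoc y b, mul_assoc y (b * _), h3]
      group)
  refine Nat.card_le_card_of_injective f ?_
  intro a b
  induction a using QuotientGroup.induction_on with | H a => ?_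
  induction b using QuotientGroup.induction_on with | H b => ?_
  intro hab
  have h3 : ⁅y, (a : G)⁆ = ⁅y, (b : G)⁆ := congrArg Subtype.val hab
  rw [QuotientGroup.eq, mem_subgroupOf, mem_centralizer_singleton_iff]
  simp only [coe_mul, InvMemClass.coe_inv]
  simp only [commutatorElement_def] at h3
  generalize (a : G) = a at *
  generalize (b : G) = b at *
  calc a⁻¹ * b * y = a⁻¹ * (y * b * y⁻¹ * b⁻¹)⁻¹ * y * b := by group
    _ = y * (a⁻¹ * b) := by rw [← h3]; group

section PGroup

variable {X : Type u} [Group X] [Finite X] {p n : ℕ} [hp : Fact p.Prime]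

theorem exists_U_notMem (h : IsMC p n X) {M : Subgroup X} (hM : M ≠ ⊤) :
    ∃ s : X, s ∉ M ∧ U (n - 2) s := by
  classical
  have h2 := hp.out.two_le
  have h3 := h.three
  obtain ⟨s, hs⟩ := exists_notMem_all h2
    (fun j => if j = 0 then M else if j + 3 ≤ n then K X j else K X 0) (fun j _ => by
      apply h.le_index
      split_ifs with h0 hj
      exacts [hM, h.K_ne_top hj, h.K_ne_top (by omega)])
  have h0 : s ∉ K X 0 := by
    have := hs 1 (by omega)
    simp only [one_ne_zero, if_false] at this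
    split_ifs at this with h4
    · exact fun e => this (K_zero_le e)
    · exact this
  suffices ∀ m ≤ n - 2, U m s from ⟨s, by simpa using hs 0 (by omega), this _ le_rfl⟩
  intro m hm
  induction m with
  | zero => exact fun j hj => by omega
  | succ m ih =>
    have ih := ih (by omega)
    intro j hj
    rcases (Nat.lt_succ_iff.1 hj).eq_or_lt with rfl | hj
    · rcases Nat.eq_zero_or_pos j with rfl | h1
      · exact h0
      by_cases h4 : j ≤ p - 1
      · simpa [show j + 3 ≤ n by omega, h1.ne'] using hs j (by omega)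
      · intro e
        refine h.K_ne_top (j := j) (by omega) (eq_top_iff.2 fun g _ => ?_)
        obtain ⟨k, hk⟩ := h.exists_pow_mul_mem_K (j := j - (p - 1)) (by omega) (ih _ (by omega)) g
        simpa using mul_mem (pow_mem e k) (h.K_le ih (by omega) (by omega) (by omega) hk)
    · exact ih j hj

theorem U_of_card_le (h : IsMC p n X) {y : X} (hy : Nat.card (centralizer {y}) ≤ p ^ 2) :
    U (n - 2) y := by
  have h2 := hp.out.two_le
  have h3 := h.three
  have h1 : y ∉ gam X 1 := fun e => by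
    have := card_le_of_comm (A := ⊤) (B := gam X 2) (y := y) fun x hx => by
      simpa using comm_mem (i := 1) (j := 0) e hx
    rw [top_inf_eq, card_top, h.card, h.card_gam (by omega)] at this
    have h4 := this.trans (Nat.mul_le_mul_right _ hy)
    rw [← pow_add] at h4
    have := (Nat.pow_le_pow_iff_right (by omega)).1 h4
    omega
  intro j hj e
  rcases Nat.eq_zero_or_pos j with rfl | hj0
  · exact h1 (h.K_zero ▸ e)
  have h4 := card_le_of_comm (A := gam X j) (B := gam X (j + 2)) (y := y) (mem_K.1 e)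
  rw [h.card_gam hj0, h.card_gam (by omega), show n - 1 - j = 2 + (n - 1 - (j + 2)) by omega,
    pow_add] at h4
  have h5 := Nat.le_of_mul_le_mul_right h4 (by positivity)
  have h6 : gam X j ⊓ centralizer {y} = centralizer {y} :=
    eq_of_le_of_card_ge inf_le_right (hy.trans h5)
  have h7 : y ∈ gam X j ⊓ centralizer {y} := by
    rw [h6, mem_centralizer_singleton_iff]
  exact h1 (gam_anti hj0 h7.1)

/-- A subgroup normalized by a uniform element contains the terms of the lower central series it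
reaches. -/
theorem gam_le (h : IsMC p n X) {y : X} (hy : U (n - 2) y) {W : Subgroup X}
    (hW : ∀ w ∈ W, ⁅y, w⁆ ∈ W) (k : ℕ) : ∀ j, 1 ≤ j → n - j ≤ k → ∀ w ∈ W, w ∈ gam X j →
      w ∉ gam X (j + 1) → gam X j ≤ W := by
  induction k with
  | zero =>
    intro j _ hk w _ hw hw'
    rw [h.gam_eq_bot_iff.2 (by omega)]
    exact bot_le
  | succ k ih =>
    intro j hj hk w hwW hw hw'
    rw [h.le_sup hj hw hw']
    refine sup_le ?_ (zpowers_le.2 hwW)
    by_cases hn : n - 1 ≤ j + 1
    · rw [h.gam_eq_bot_iff.2 hn]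
      exact bot_le
    exact ih (j + 1) (by omega) (by omega) ⁅y, w⁆ (hW w hwW) (comm_mem_succ hw y)
      fun e => hw' (h.mem_succ hj (hy j (by omega)) hw e)

theorem exists_level (h : IsMC p n X) {w : X} (hw : w ∈ gam X 1) (h1 : w ≠ 1) :
    ∃ j, 1 ≤ j ∧ w ∈ gam X j ∧ w ∉ gam X (j + 1) := by
  by_contra! hc
  have : ∀ j, w ∈ gam X (j + 1) := fun j => by
    induction j with
    | zero => exact hw
    | succ j ih => exact hc _ (by omega) ih
  have h2 := this n
  rw [h.gam_eq_bot_iff.2 (by omega), mem_bot] at h2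
  exact h1 h2

theorem exists_gam_le (h : IsMC p n X) (Q : Subgroup X) [hQ : Q.Normal]
    (hc : p ^ 2 ≤ Nat.card Q) : ∃ j, 1 ≤ j ∧ (j = 1 ∨ j + 3 ≤ n) ∧ gam X j ≤ Q := by
  obtain ⟨y, hy⟩ := h.exists_U
  have h2 := hp.out.two_le
  have h3 := h.three
  have hW : ∀ w ∈ Q, ⁅y, w⁆ ∈ Q := fun w hw => by
    rw [commutatorElement_def]
    exact mul_mem (hQ.conj_mem w hw y) (inv_mem hw)
  by_cases h1 : Q ≤ gam X 1
  · have h4 : ¬ Q ≤ gam X (n - 2) := fun e => by
      have := hc.trans (card_le_of_le e)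
      rw [h.card_gam (by omega)] at this
      have := (Nat.pow_le_pow_iff_right (by omega)).1 this
      omega
    obtain ⟨w, hw, hw'⟩ := SetLike.not_le_iff_exists.1 h4
    obtain ⟨j, hj, hj1, hj2⟩ := exists_level h (h1 hw) (fun e => hw' (e ▸ one_mem _))
    refine ⟨j, hj, Or.inr ?_, gam_le h hy hW _ j hj le_rfl w hw hj1 hj2⟩
    by_contra h5
    exact hw' (gam_anti (by omega) hj1)
  · obtain ⟨w, hw, hw'⟩ := SetLike.not_le_iff_exists.1 h1
    rw [← h.K_zero, mem_K] at hw'
    push Not at hw'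
    obtain ⟨x, hx, hx'⟩ := hw'
    refine ⟨1, le_rfl, Or.inl rfl, gam_le h hy hW _ 1 le_rfl le_rfl ⁅w, x⁆ ?_
      (comm_mem_succ hx w) hx'⟩
    rw [commutatorElement_def, mul_assoc, mul_assoc, ← mul_assoc x]
    exact mul_mem hw (hQ.conj_mem _ (inv_mem hw) x)

theorem mem_of_not_uniform (h : IsMC p n X) {D : Subgroup X} (hD : D ≠ ⊤) {y y' : X} (hy : y ∈ D)
    (hc : Nat.card (centralizer {y}) ≤ p ^ 2) (hy' : y' ∈ D)
    (hc' : Nat.card (centralizer {y'} ⊓ D : Subgroup X) ≤ p ^ 2)
    (hn : ¬ Nat.card (centralizer {y'}) ≤ p ^ 2) (Q : Subgroup X) [Q.Normal]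
    (hQ : p ^ 2 ≤ Nat.card Q) : y' ∈ Q := by
  have h3 := h.three
  have hU := U_of_card_le h hc
  have h1 : y ∉ gam X 1 := h.K_zero ▸ hU 0 (by omega)
  have h2 := h.eq_sup (h.sup_ne_top hD) le_sup_right (mem_sup_left hy) h1
  have h4 : y' ∈ gam X 1 ⊔ zpowers y := h2 ▸ mem_sup_left hy'
  obtain ⟨g, hg, z, hz, rfl⟩ := mem_sup_of_normal_left.1 h4
  obtain ⟨k, rfl⟩ := (mem_powers_iff_mem_zpowers).2 hz
  dsimp only at *
  by_cases hk : p ∣ k
  swap
  · refine absurd (h.card_centralizer_le fun j hj e => h.U_pow hU hk j hj ?_) hn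
    simpa using mul_mem (inv_mem (gam_one_le_K j hg)) e
  have h5 : g * y ^ k ∈ gam X 1 := by
    obtain ⟨k, rfl⟩ := hk
    rw [pow_mul]
    exact mul_mem hg (pow_mem (h.pow_mem_one y) k)
  generalize g * y ^ k = w at *
  by_cases hw : w = 1
  · rw [hw]; exact one_mem _
  obtain ⟨i, hi, hi1, hi2⟩ := exists_level h h5 hw
  obtain ⟨j, hj, hj1, hj2⟩ := exists_gam_le h Q hQ
  by_cases hij : j ≤ i
  · exact hj2 (gam_anti hij hi1)
  have h6 : gam X i ≤ D := gam_le h hU (fun w hw => by
    rw [commutatorElement_def]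
    exact mul_mem (mul_mem (mul_mem hy hw) (inv_mem hy)) (inv_mem hw)) _ i hi le_rfl w hy' hi1 hi2
  have h7 : gam X (n - 3) ≤ centralizer {w} ⊓ D := fun x hx => by
    refine ⟨?_, h6 (gam_anti (by omega) hx)⟩
    have := comm_mem hx h5
    rw [h.gam_eq_bot_iff.2 (by omega), mem_bot, commutatorElement_eq_one_iff_mul_comm] at this
    exact mem_centralizer_singleton_iff.2 this
  have h8 : gam X (n - 3) = centralizer {w} ⊓ D := eq_of_le_of_card_ge h7 (by
    rw [h.card_gam (by omega), show n - 1 - (n - 3) = 2 by omega]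
    exact hc')
  have h9 : w ∈ gam X (n - 3) := by
    rw [h8]
    exact ⟨mem_centralizer_singleton_iff.2 rfl, hy'⟩
  exact absurd (gam_anti (by omega) h9) hi2

end PGroup

section Sylow

variable {G : Type u} [Group G] [Finite G] {p n : ℕ} [hp : Fact p.Prime]

theorem isMC_sylow {P : Sylow p G} (h : IsMC p n P) (Q : Sylow p G) : IsMC p n Q := by
  have e := Sylow.equiv P Q
  have := P.isPGroup'.isNilpotent
  have := Q.isPGroup'.isNilpotent
  refine ⟨(Nat.card_congr e.toEquiv).symm.trans h.card, le_antisymm ?_ ?_, h.three⟩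
  · rw [← h.cl]
    exact Group.nilpotencyClass_le_of_surjective e.toMonoidHom e.surjective
  · rw [← h.cl]
    exact Group.nilpotencyClass_le_of_surjective e.symm.toMonoidHom e.symm.surjective

omit [Finite G] hp in
theorem card_centralizer_coe {H : Subgroup G} (y : H) :
    Nat.card (centralizer {y} : Subgroup H) = Nat.card (centralizer {(y : G)} ⊓ H : Subgroup G) := by
  have : (centralizer {y} : Subgroup H) = (centralizer {(y : G)} ⊓ H).subgroupOf H := by
    ext x
    simp [mem_subgroupOf, mem_centralizer_singleton_iff, Subtype.ext_iff]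
  rw [this]
  exact Nat.card_congr (subgroupOfEquivOfLe inf_le_right).toEquiv

omit [Finite G] hp in
theorem card_centralizer_conj (y g : G) (H : Subgroup G) :
    Nat.card (centralizer {g * y * g⁻¹} ⊓ H.map (MulAut.conj g).toMonoidHom : Subgroup G) =
      Nat.card (centralizer {y} ⊓ H : Subgroup G) := by
  rw [← card_map_conj (centralizer {y} ⊓ H) g, map_conj_inf]
  congr 2
  ext x
  rw [mem_inf, mem_inf]
  refine and_congr_left' ?_
  rw [mem_map_conj_iff, mem_centralizer_singleton_iff, mem_centralizer_singleton_iff]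
  constructor
  · intro h
    calc g⁻¹ * x * g * y = g⁻¹ * (x * (g * y * g⁻¹)) * g := by group
      _ = _ := by rw [h]; group
  · intro h
    calc x * (g * y * g⁻¹) = g * (g⁻¹ * x * g * y) * g⁻¹ := by group
      _ = _ := by rw [h]; group

theorem card_inf_sylow (N : Subgroup G) [N.Normal] (P Q : Sylow p G) :
    Nat.card (P ⊓ N : Subgroup G) = Nat.card (Q ⊓ N : Subgroup G) :=
  ((isSylowIn_top P).inf_normal le_top (by rw [normalizer_eq_top])).card_eq_card
    ((isSylowIn_top Q).inf_normal le_top (by rw [normalizer_eq_top]))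

/-- An element outside `N` that is uniform in one Sylow subgroup is uniform in all. -/
theorem uniform_of_uniform {P : Sylow p G} (h : IsMC p n P) (N : Subgroup G) [hN : N.Normal]
    (hc : p ^ 2 ≤ Nat.card (P ⊓ N : Subgroup G)) (k : ℕ) :
    ∀ P1 P2 : Sylow p G, Nat.card G - Nat.card (P1 ⊓ P2 : Subgroup G) < k → ∀ y ∉ N,
      y ∈ (P1 : Subgroup G) → y ∈ (P2 : Subgroup G) →
      Nat.card (centralizer {y} ⊓ P1 : Subgroup G) ≤ p ^ 2 →
      Nat.card (centralizer {y} ⊓ P2 : Subgroup G) ≤ p ^ 2 := by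
  induction k with
  | zero => intro _ _ h; omega
  | succ k ih =>
    intro P1 P2 hk y hy h1 h2 hu
    by_cases he : P1 = P2
    · rwa [← he]
    set D : Subgroup G := P1 ⊓ P2 with hD
    have hne : ∀ P Q : Sylow p G, P ≠ Q → (P ⊓ Q : Subgroup G) ≠ P := fun P Q hPQ e =>
      hPQ (Sylow.ext (P.3 Q.2 (e ▸ inf_le_right)).symm)
    obtain ⟨a, ha1, ha2, ha3⟩ := exists_mem_normalizer_not_mem (T := D) P1.2 inf_le_left
      (hne P1 P2 he)
    obtain ⟨b, hb1, hb2, hb3⟩ := exists_mem_normalizer_not_mem (T := D) P2.2 inf_le_right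
      (by rw [hD, inf_comm]; exact hne P2 P1 (Ne.symm he))
    obtain ⟨S, hS, hS1⟩ := exists_isSylowIn_ge (R := P1 ⊓ normalizer (D : Set G))
      (H := normalizer (D : Set G)) P1.2.to_inf_left inf_le_right
    obtain ⟨P3, hP3⟩ := hS.isPGroup.exists_le_sylow
    obtain ⟨g, hg, hg1⟩ := hS.exists_conj_le (R := P2 ⊓ normalizer (D : Set G)) P2.2.to_inf_left
      inf_le_right
    have hDS : D ≤ S := (le_inf inf_le_left le_normalizer).trans hS1
    have hlt : ∀ L : Subgroup G, D < L → Nat.card G - Nat.card L < k := fun L hL => by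
      have h5 := card_le_of_le (le_top : L ≤ ⊤)
      rw [card_top] at h5
      have h6 : Nat.card D < Nat.card L := lt_of_le_of_ne (card_le_of_le hL.le)
        fun e => hL.ne (eq_of_le_of_card_ge hL.le e.ge)
      omega
    have hyD : y ∈ D := ⟨h1, h2⟩
    have h3 : Nat.card (centralizer {y} ⊓ P3 : Subgroup G) ≤ p ^ 2 :=
      ih P1 P3 (hlt _ (lt_of_le_of_ne (le_inf inf_le_left (hDS.trans hP3))
        fun e => ha3 (e ▸ ⟨ha1, hP3 (hS1 ⟨ha1, ha2⟩)⟩))) y hy h1 (hP3 (hDS hyD)) hu
    have hgD : D.map (MulAut.conj g).toMonoidHom = D := mem_normalizer_iff_conj_map_eq.1 hg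
    have hy'D : g * y * g⁻¹ ∈ D := hgD ▸ conj_mem_map_conj g hyD
    have hy' : g * y * g⁻¹ ∉ N := fun e => hy (by simpa [mul_assoc] using hN.conj_mem _ e g⁻¹)
    obtain ⟨P4, hP4⟩ := ((isSylowIn_top P2).map_conj_of_mem (mem_top g)).exists_sylow_top
    by_cases h4 : Nat.card (centralizer {g * y * g⁻¹} ⊓ P3 : Subgroup G) ≤ p ^ 2
    · rw [← card_centralizer_conj y g, ← hP4]
      refine ih P3 P4 (hlt _ (lt_of_le_of_ne (le_inf (hDS.trans hP3) ?_) fun e => hb3 ?_)) _ hy'
        (hP3 (hDS hy'D)) (hP4 ▸ conj_mem_map_conj g h2) h4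
      · rw [hP4, ← hgD]
        exact map_mono inf_le_right
      · have h5 : g * b * g⁻¹ ∈ D := by
          rw [e, hP4]
          exact ⟨hP3 (hg1 (conj_mem_map_conj g ⟨hb1, hb2⟩)), conj_mem_map_conj g hb1⟩
        rw [← hgD, mem_map_conj_iff] at h5
        simpa [mul_assoc] using h5
    exfalso
    apply hy'
    have hD3 : D ≤ P3 := hDS.trans hP3
    refine mem_of_not_uniform (isMC_sylow h P3) (D := D.subgroupOf P3) ?_ (y := ⟨y, hD3 hyD⟩)
      (y' := ⟨_, hD3 hy'D⟩) hyD (by rwa [card_centralizer_coe]) hy'D ?_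
      (by rwa [card_centralizer_coe]) (N.subgroupOf P3) ?_
    · intro e
      exact ha3 (subgroupOf_eq_top.1 e (hP3 (hS1 ⟨ha1, ha2⟩)))
    · have h5 : (centralizer {(⟨_, hD3 hy'D⟩ : P3)} ⊓ D.subgroupOf P3 : Subgroup P3) =
          (centralizer {g * y * g⁻¹} ⊓ D).subgroupOf P3 := by
        ext x
        simp [mem_subgroupOf, mem_centralizer_singleton_iff, Subtype.ext_iff]
      rw [h5, Nat.card_congr (subgroupOfEquivOfLe (inf_le_right.trans hD3)).toEquiv, ← hgD,
        card_centralizer_conj]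
      exact (card_le_of_le (inf_le_inf_left _ inf_le_left)).trans hu
    · rw [← inf_subgroupOf_left, Nat.card_congr (subgroupOfEquivOfLe inf_le_left).toEquiv,
        card_inf_sylow N P3 P]
      exact hc

theorem exists_factorization_eq_two {P : Sylow p G} (h : IsMC p n P) (N : Subgroup G)
    [hN : N.Normal] (hPN : ¬ (P : Subgroup G) ≤ N) (hc : p ^ 2 ≤ Nat.card (P ⊓ N : Subgroup G)) :
    ∃ x ∈ (P : Subgroup G), x ∉ N ∧ (Nat.card (centralizer {x})).factorization p = 2 := by
  obtain ⟨x, hx, hU⟩ := exists_U_notMem h (M := N.subgroupOf P) (by rwa [Ne, subgroupOf_eq_top])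
  refine ⟨x, x.2, hx, ?_⟩
  have h3 := h.three
  have h1 := h.card_centralizer_le hU
  have h2 : p ^ 2 ≤ Nat.card (centralizer {x}) := by
    have := Grp.MaxClass.mul_card_le_of_lt h.isPGroup (H := center P) (K := centralizer {x})
      (lt_of_le_of_ne (center_le_centralizer _) fun e => hU 0 (by omega) (by
        rw [h.K_zero]
        refine gam_anti (i := 1) (j := n - 2) (by omega) ?_
        rw [← h.center_eq, e, mem_centralizer_singleton_iff]))
    rwa [h.card_center, ← sq] at this
  rw [card_centralizer_coe] at h1 h2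
  obtain ⟨T, hT, hT1⟩ := exists_isSylowIn_ge (R := centralizer {(x : G)} ⊓ P)
    (H := centralizer {(x : G)}) P.2.to_inf_right inf_le_left
  obtain ⟨Q, hQ⟩ := hT.isPGroup.exists_le_sylow
  have h4 := uniform_of_uniform h N hc _ P Q (Nat.lt_succ_self _) x hx x.2
    (hQ (hT1 ⟨mem_centralizer_singleton_iff.2 rfl, x.2⟩)) h1
  have h5 : Nat.card T = p ^ 2 := le_antisymm ((card_le_of_le (le_inf hT.le hQ)).trans h4)
    (h2.trans (card_le_of_le hT1))
  rw [hT.card_eq] at h5
  exact Nat.pow_right_injective hp.out.two_le h5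

end Sylow

end Cfsg.Agent.FGS.MaxClSylow
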