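import Mathlib
import Cfsg.Agent.FGS.NilCover
import Cfsg.Agent.Class.PGL2Geom
import Cfsg.Agent.Class.LinearBasic

/-! No group between `PSL₂(q)` and `PGL₂(q)` (`q ≥ 4`) has a nilpotent minimal cover. -/

set_option autoImplicit false

namespace Cfsg.Agent.FGS.NC

open Cfsg Subgroup MulAction

section general

variable {Q : Type*} [Group Q]

theorem isNilpotent_map_subtype {G : Subgroup Q} {A : Subgroup G} (hA : Group.IsNilpotent A) :
    Group.IsNilpotent (A.map G.subtype) :=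
  Group.nilpotent_of_mulEquiv (A.equivMapOfInjective G.subtype G.subtype_injective)

theorem not_cover_sub (G M : Subgroup Q) (hM : ¬ G ≤ M) {x y : Q} (hxG : x ∈ G) (hyG : y ∈ G)
    (hx : ∀ A : Subgroup Q, Group.IsNilpotent A → x ∈ A → A ≤ M)
    (hy : ∀ A : Subgroup Q, Group.IsNilpotent A → y ∈ A → A ≤ M)
    (hxy : ∀ A : Subgroup Q, Group.IsNilpotent A → x ∈ A → y ∉ A) :
    ¬ ∃ 𝓐 : Finset (Subgroup G), IsNilMinCover 𝓐 :=
  not_cover (M.subgroupOf G) (fun h => hM (subgroupOf_eq_top.1 h)) ⟨x, hxG⟩ ⟨y, hyG⟩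
    (fun _ hA h g hg => hx _ (isNilpotent_map_subtype hA) ⟨_, h, rfl⟩ ⟨g, hg, rfl⟩)
    (fun _ hA h g hg => hy _ (isNilpotent_map_subtype hA) ⟨_, h, rfl⟩ ⟨g, hg, rfl⟩)
    (fun _ hA h h' => hxy _ (isNilpotent_map_subtype hA) ⟨_, h, rfl⟩ ⟨_, h', rfl⟩)

/-- Replace the members fixing a point by point stabilizers and drop one member. -/
theorem not_cover_of_replace {Ω : Type*} [MulAction Q Ω] [Nontrivial Ω] (d : Q)
    (hu : ∀ ω : Ω, ∃ u : Q, (∀ ω', u • ω' = ω' → ω' = ω) ∧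
      ∀ A : Subgroup Q, Group.IsNilpotent A → u ∈ A → d ∉ A ∧ A ≤ stabilizer Q ω)
    (hd : ∀ A : Subgroup Q, Group.IsNilpotent A → d ∈ A → ∀ g ∈ A, ∃ ω : Ω, g • ω = ω) :
    ¬ ∃ 𝓐 : Finset (Subgroup Q), IsNilMinCover 𝓐 := by
  classical
  rintro ⟨𝓐, h⟩
  obtain ⟨A₀, hA₀, hdA⟩ := h.1.2 d
  let f : Subgroup Q → Subgroup Q := fun A =>
    if h : ∃ ω : Ω, A ≤ stabilizer Q ω then stabilizer Q h.choose else A
  have hf : ∀ A, A ≤ f A := fun A => by
    simp only [f]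
    split_ifs with h
    · exact h.choose_spec
    · exact le_rfl
  have := h.2.1 ((𝓐.erase A₀).image f) ⟨?_, ?_⟩
  · have h1 := Finset.card_image_le (s := 𝓐.erase A₀) (f := f)
    have h2 := Finset.card_erase_add_one hA₀
    omega
  · intro B hB
    obtain ⟨A, hA, rfl⟩ := Finset.mem_image.1 hB
    simp only [f]
    split_ifs with h'
    · obtain ⟨ω, hω⟩ := exists_ne h'.choose
      obtain ⟨u, hu1, -⟩ := hu ω
      exact fun e => hω (hu1 _ (e ▸ mem_top u : u ∈ stabilizer Q h'.choose)).symm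
    · exact h.1.1 A (Finset.mem_of_mem_erase hA)
  · intro g
    by_cases hg : ∃ ω : Ω, g • ω = ω
    · obtain ⟨ω, hω⟩ := hg
      obtain ⟨u, hu1, hu2⟩ := hu ω
      obtain ⟨A, hA, huA⟩ := h.1.2 u
      obtain ⟨h1, h2⟩ := hu2 A (h.2.2 A hA) huA
      refine ⟨f A, Finset.mem_image_of_mem _ (Finset.mem_erase.2 ⟨fun e => h1 (e ▸ hdA), hA⟩), ?_⟩
      have h' : ∃ ω : Ω, A ≤ stabilizer Q ω := ⟨ω, h2⟩
      simp only [f, dif_pos h']
      rw [hu1 _ (h'.choose_spec huA)]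
      exact hω
    · obtain ⟨A, hA, hgA⟩ := h.1.2 g
      exact ⟨f A, Finset.mem_image_of_mem _ (Finset.mem_erase.2
        ⟨fun e => hg (hd A₀ (h.2.2 _ hA₀) hdA g (e ▸ hgA)), hA⟩), hf A hgA⟩

end general

open Class.Dickson Matrix MatrixGroups

variable {F : Type*} [Field F]

/-- `PSL₂` inside `PGL₂`. -/
abbrev PSL2 (F : Type*) [Field F] : Subgroup PGL(2, F) :=
  ((Matrix.SpecialLinearGroup.toGL : SL(2, F) →* GL (Fin 2) F).range).map ProjGenLinGroup.mk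

theorem mem_PSL2 {g : PGL(2, F)} :
    g ∈ PSL2 F ↔ ∃ a : GL (Fin 2) F, a 0 0 * a 1 1 - a 0 1 * a 1 0 = 1 ∧ pmk a = g := by
  rw [PSL2, Class.range_toGL_eq_ker_det]
  refine exists_congr fun a => and_congr_left fun _ => ?_
  rw [SetLike.mem_coe, MonoidHom.mem_ker, Units.ext_iff, GeneralLinearGroup.val_det_apply,
    det_fin_two, Units.val_one]

theorem PSL2_normal : (PSL2 F).Normal := by
  rw [PSL2, Class.range_toGL_eq_ker_det]
  exact Normal.map inferInstance _ ProjGenLinGroup.mk_surjective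

theorem unip_le_PSL2 (x : P1 F) : unip x ≤ PSL2 F := by
  obtain ⟨h, rfl⟩ := exists_smul_inf x
  intro g hg
  obtain ⟨b, hb⟩ := mem_unip_inf.1 ((conj_mem_unip h g _).2 hg)
  have : h⁻¹ * g * h ∈ PSL2 F := hb ▸ mem_PSL2.2 ⟨gl2 1 b 0 1 (by simp), by simp, rfl⟩
  simpa [mul_assoc] using PSL2_normal.conj_mem _ this h

theorem exists_unip (x : P1 F) : ∃ u ∈ unip x, u ≠ 1 := by
  obtain ⟨h, rfl⟩ := exists_smul_inf x
  refine ⟨h * transl 1 * h⁻¹, (conj_mem_unip h _ _).1 (mem_unip_inf.2 ⟨1, by group⟩), ?_⟩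
  simp [transl_eq_one_iff]

theorem le_unip {A : Subgroup PGL(2, F)} (hA : Group.IsNilpotent A) {x : P1 F} {u : PGL(2, F)}
    (hu : u ∈ unip x) (h1 : u ≠ 1) (huA : u ∈ A) : A ≤ unip x := by
  refine le_of_cc (fun t ht ht1 g hg => ?_) hA huA hu h1
  obtain ⟨h2, h3⟩ := (mem_unip.1 ht).resolve_left ht1
  have hgx : g • x = x := h3 _ (by rw [← mul_smul, ← hg.eq, mul_smul, h2])
  rw [mem_unip]
  by_cases h : ∀ y, g • y = y → y = x
  · exact Or.inr ⟨hgx, h⟩
  push Not at h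
  obtain ⟨y, hy, hyx⟩ := h
  refine Or.inl (eq_one_of_fix_three g (z := t • y) hyx (fun e => hyx (h3 y e.symm))
    (fun e => hyx ?_) hy hgx (by rw [← mul_smul, hg.eq, mul_smul, hy]))
  exact smul_left_cancel t (e.symm.trans h2.symm)

theorem trace_eq_zero {a : GL (Fin 2) F} (h1 : pmk a ≠ 1) (h2 : pmk a * pmk a = 1) :
    a 0 0 + a 1 1 = 0 := by
  rw [← map_mul, pmk_eq_one_iff, gl_mul_apply, gl_mul_apply, gl_mul_apply, gl_mul_apply] at h2
  rw [Ne, pmk_eq_one_iff] at h1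
  by_contra h
  exact h1 ⟨mul_left_cancel₀ h (by linear_combination h2.1),
    mul_left_cancel₀ h (by linear_combination h2.2.1),
    mul_left_cancel₀ h (by linear_combination h2.2.2)⟩

theorem fix_of_invol {i : F} (hi : i * i = -1) {g : PGL(2, F)} (hg : g ∈ PSL2 F)
    (h2 : g * g = 1) : ∃ x : P1 F, g • x = x := by
  by_cases h1 : g = 1
  · exact ⟨inf F, by rw [h1, one_smul]⟩
  obtain ⟨a, ha, rfl⟩ := mem_PSL2.1 hg
  have ht := trace_eq_zero h1 h2
  by_cases h : a 1 0 = 0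
  · exact ⟨inf F, (pmk_smul_inf_eq_inf a).2 h⟩
  refine ⟨pt ((a 0 0 + i) / a 1 0), (pmk_smul_pt_eq_pt a _ _).2 ?_⟩
  field_simp
  linear_combination (-1 : F) * ha - hi - (i) * ht

theorem sq_of_invol_fix {g : PGL(2, F)} (hg : g ∈ PSL2 F) (h1 : g ≠ 1) (h2 : g * g = 1)
    {x : P1 F} (hx : g • x = x) : ∃ i : F, i * i = -1 := by
  obtain ⟨a, ha, rfl⟩ := mem_PSL2.1 hg
  have ht := trace_eq_zero h1 h2
  rcases inf_or_pt x with rfl | ⟨t, rfl⟩
  · have := (pmk_smul_inf_eq_inf a).1 hx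
    exact ⟨a 0 0, by linear_combination (a 0 0) * ht - ha - (a 0 1) * this⟩
  · have := (pmk_smul_pt_eq_pt a _ _).1 hx
    exact ⟨a 1 0 * t + a 1 1, by
      linear_combination (a 1 0 * t + a 1 1) * ht - ha - (a 1 0) * this⟩

theorem fix_or_swap {z g : PGL(2, F)} (h1 : z ≠ 1) (hc : Commute g z) {x y : P1 F} (hxy : x ≠ y)
    (hx : z • x = x) (hy : z • y = y) : (g • x = x ∧ g • y = y) ∨ (g • x = y ∧ g • y = x) := by
  have key : ∀ w, z • w = w → w = x ∨ w = y := fun w hw => by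
    by_contra h
    push Not at h
    exact h1 (eq_one_of_fix_three z hxy h.1.symm h.2.symm hx hy hw)
  have e1 := key (g • x) (by rw [← mul_smul, ← hc.eq, mul_smul, hx])
  have e2 := key (g • y) (by rw [← mul_smul, ← hc.eq, mul_smul, hy])
  rcases e1 with e1 | e1 <;> rcases e2 with e2 | e2
  · exact absurd (smul_left_cancel g (e1.trans e2.symm)) hxy
  · exact Or.inl ⟨e1, e2⟩
  · exact Or.inr ⟨e1, e2⟩
  · exact absurd (smul_left_cancel g (e1.trans e2.symm)) hxy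

theorem sq_eq_one_of_swap {z g : PGL(2, F)} (hc : Commute g z) {x y : P1 F} (hxy : x ≠ y)
    (hx : z • x = x) (hy : z • y = y) (h1 : g • x = y) (h2 : g • y = x) : z * z = 1 := by
  have e1 := mul_self_of_swap hxy h1 h2
  have e2 := mul_self_of_swap (g := g * z) hxy (by rw [mul_smul, hx, h1]) (by rw [mul_smul, hy, h2])
  rwa [mul_assoc, ← mul_assoc z, ← hc.eq, ← mul_assoc, ← mul_assoc, e1, one_mul] at e2

theorem exists_fix {A : Subgroup PGL(2, F)} (hA : Group.IsNilpotent A) (hle : A ≤ PSL2 F)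
    {d : PGL(2, F)} (hd : d ∈ A) (h1 : d ≠ 1) {x y : P1 F} (hxy : x ≠ y) (hx : d • x = x)
    (hy : d • y = y) {g : PGL(2, F)} (hg : g ∈ A) : ∃ w : P1 F, g • w = w := by
  obtain ⟨z, hz, hz1, hc⟩ := exists_central hA hd h1
  by_cases hi : ∃ i : F, i * i = -1
  · obtain ⟨i, hi⟩ := hi
    obtain ⟨a, b, hab, ha, hb⟩ : ∃ a b : P1 F, a ≠ b ∧ z • a = a ∧ z • b = b := by
      rcases fix_or_swap h1 (hc d hd).symm hxy hx hy with h | h
      · exact ⟨x, y, hxy, h.1, h.2⟩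
      · obtain ⟨a, ha⟩ := fix_of_invol hi (hle hz) (mul_self_of_swap hxy h.1 h.2)
        refine ⟨a, d • a, fun e => h1 (eq_one_of_fix_three d hxy (z := a) ?_ ?_ hx hy e.symm), ha,
          by rw [← mul_smul, ← (hc d hd).eq, mul_smul, ha]⟩
        · rintro rfl; exact hxy (ha.symm.trans h.1)
        · rintro rfl; exact hxy (h.2.symm.trans ha)
    rcases fix_or_swap hz1 (hc g hg) hab ha hb with h | h
    · exact ⟨a, h.1⟩
    · exact fix_of_invol hi (hle hg) (mul_self_of_swap hab h.1 h.2)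
  · rcases fix_or_swap h1 (hc d hd).symm hxy hx hy with h | h
    · rcases fix_or_swap hz1 (hc g hg) hxy h.1 h.2 with h' | h'
      · exact ⟨x, h'.1⟩
      · exact absurd (sq_of_invol_fix (hle hz) hz1
          (sq_eq_one_of_swap (hc g hg) hxy h.1 h.2 h'.1 h'.2) h.1) hi
    · exact absurd (sq_of_invol_fix (hle hd) h1
        (sq_eq_one_of_swap (hc d hd).symm hxy hx hy h.1 h.2) hx) hi

theorem not_cover_PGL2 [Fintype F] (hq : 4 ≤ Fintype.card F) (G : Subgroup PGL(2, F))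
    (hG : PSL2 F ≤ G) : ¬ ∃ 𝓐 : Finset (Subgroup G), IsNilMinCover 𝓐 := by
  classical
  by_cases h : G ≤ PSL2 F
  · obtain ⟨c, hc⟩ : ∃ c : F, c ∉ ({0, 1, -1} : Finset F) := by
      by_contra hn
      push Not at hn
      have h1 := Finset.card_le_card (fun c _ => hn c : Finset.univ ⊆ ({0, 1, -1} : Finset F))
      have h2 := Finset.card_le_three (a := (0 : F)) (b := 1) (c := -1)
      rw [Finset.card_univ] at h1
      omega
    simp only [Finset.mem_insert, Finset.mem_singleton, not_or] at hc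
    obtain ⟨hc0, hc1, hc2⟩ := hc
    set d := pmk (gl2 c 0 0 c⁻¹ (by simp [hc0])) with hd
    have hdP : d ∈ PSL2 F := mem_PSL2.2 ⟨_, by simp [hc0], rfl⟩
    have hd1 : d ≠ 1 := by
      rw [hd, Ne, pmk_eq_one_iff]
      rintro ⟨-, -, e⟩
      simp only [gl2_00, gl2_11] at e
      have : c * c = 1 := by nth_rewrite 2 [e]; exact mul_inv_cancel₀ hc0
      exact (mul_self_eq_one_iff.1 this).elim hc1 hc2
    have hx : d • inf F = inf F := (pmk_smul_inf_eq_inf _).2 rfl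
    have hy : d • pt (0 : F) = pt 0 := (pmk_smul_pt_eq_pt _ _ _).2 (by simp)
    haveI : Nontrivial (P1 F) := ⟨_, _, inf_ne_pt 0⟩
    refine not_cover_of_replace (Ω := P1 F) ⟨d, hG hdP⟩ (fun ω => ?_) (fun A hA hdA g hg => ?_)
    · obtain ⟨u, hu, hu1⟩ := exists_unip ω
      refine ⟨⟨u, hG (unip_le_PSL2 ω hu)⟩, ((mem_unip.1 hu).resolve_left hu1).2,
        fun A hA huA => ?_⟩
      have h1 := le_unip (isNilpotent_map_subtype hA) hu hu1 ⟨_, huA, rfl⟩
      refine ⟨fun hdA => ?_, fun g hg => smul_eq_of_mem_unip (h1 ⟨g, hg, rfl⟩)⟩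
      have h2 := ((mem_unip.1 (h1 ⟨_, hdA, rfl⟩)).resolve_left hd1).2
      exact inf_ne_pt 0 ((h2 _ hx).trans (h2 _ hy).symm)
    · exact exists_fix (isNilpotent_map_subtype hA) ((map_subtype_le A).trans h) ⟨_, hdA, rfl⟩ hd1
        (inf_ne_pt 0) hx hy ⟨g, hg, rfl⟩
  · obtain ⟨u, hu, hu1⟩ := exists_unip (inf F)
    obtain ⟨v, hv, hv1⟩ := exists_unip (pt (0 : F))
    refine not_cover_sub G (PSL2 F) h (hG (unip_le_PSL2 _ hu)) (hG (unip_le_PSL2 _ hv))
      (fun A hA h => (le_unip hA hu hu1 h).trans (unip_le_PSL2 _))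
      (fun A hA h => (le_unip hA hv hv1 h).trans (unip_le_PSL2 _)) (fun A hA h h' => ?_)
    exact inf_ne_pt 0 (((mem_unip.1 hv).resolve_left hv1).2 _
      (smul_eq_of_mem_unip (le_unip hA hu hu1 h h')))

end Cfsg.Agent.FGS.NC
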