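import Mathlib
import Cfsg.Agent.S3736

/-! Groups of odd order acting on 2-groups. -/

set_option autoImplicit false

namespace Cfsg.Agent.FGS

open Subgroup
open scoped commutatorElement

variable {X : Type*} [Group X]

/-- In a special `p`-group commutators have order dividing `p`, and the exponent divides `p ^ 2`. -/
theorem IsSpecial_pow_sq {G : Type*} [Group G] [Finite G] {p : ℕ} [Fact p.Prime]
    (h : IsSpecial p G) : (∀ z ∈ center G, z ^ p = 1) ∧ ∀ x : G, x ^ p ^ 2 = 1 := by
  have hc : ∀ x y z : G, Commute ⁅x, y⁆ z := fun x y z => by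
    have : ⁅x, y⁆ ∈ center G := h.2.2 ▸ commutator_mem_commutator (mem_top x) (mem_top y)
    exact (mem_center_iff.1 this z).symm
  have hp : ∀ x : G, x ^ p ∈ center G := fun x => h.2.1 ▸ Grp.PFrattini.pow_mem_frattini h.1 x
  have h1 : ∀ z ∈ center G, z ^ p = 1 := by
    intro z hz
    have hz' : z ∈ commutator G := h.2.2 ▸ hz
    rw [_root_.commutator_def, Subgroup.commutator_def] at hz'
    induction hz' using closure_induction with
    | mem x hx =>
      obtain ⟨a, -, b, -, rfl⟩ := hx
      rw [← Grp.CommPow.commutator_pow_left (hc _ _ _), commutatorElement_eq_one_iff_mul_comm]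
      exact (mem_center_iff.1 (hp a) b).symm
    | one => exact one_pow p
    | mul x y hx hy ihx ihy =>
      have hx' : x ∈ center G := h.2.2 ▸ hx
      have hy' : y ∈ center G := h.2.2 ▸ hy
      rw [Commute.mul_pow (mem_center_iff.1 hy' x), ihx hx', ihy hy', one_mul]
    | inv x hx ihx =>
      have hx' : x ∈ center G := h.2.2 ▸ hx
      rw [inv_pow, ihx hx', inv_one]
  exact ⟨h1, fun x => by rw [sq, pow_mul, h1 _ (hp x)]⟩

/-- A `p'`-group centralizing the elements of order dividing `p ^ 2` of a `p`-group centralizes it. -/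
theorem le_centralizer_of_pow_sq [Finite X] {p : ℕ} [Fact p.Prime] {P A : Subgroup X}
    (hP : IsPGroup p P) (hA : (Nat.card A).Coprime p) (hAP : A ≤ normalizer (P : Set X))
    (h : ∀ x ∈ P, x ^ p ^ 2 = 1 → ∀ a ∈ A, a * x = x * a) : A ≤ centralizer (P : Set X) := by
  induction P using WellFoundedLT.induction with
  | ind P ih =>
    by_cases hnt : ⁅P, A⁆ = ⊥
    · rwa [commutator_comm, commutator_eq_bot_iff_le_centralizer] at hnt
    have h1 := (S3736.result A A P hP hAP le_rfl le_normalizer hA hnt (fun U hU hB => by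
        rw [commutator_comm, commutator_eq_bot_iff_le_centralizer]
        exact ih U hU (hP.to_le hU.le) hB fun x hx => h x (hU.le hx))).2.1
    intro a ha x hx
    refine (h x hx ?_ a ha).symm
    rcases h1 with h1 | h1
    · rw [sq, pow_mul, h1.2 x hx, one_pow]
    · exact congrArg Subtype.val ((IsSpecial_pow_sq h1).2 ⟨x, hx⟩)

/-- A group of odd order normalizing a cyclic 2-group centralizes it. -/
theorem le_centralizer_of_isCyclic_two [Finite X] {E A : Subgroup X} (hE : IsPGroup 2 E)
    (hc : IsCyclic E) (hA : Odd (Nat.card A)) (hAE : A ≤ normalizer (E : Set X)) :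
    A ≤ centralizer (E : Set X) := by
  intro a ha
  obtain ⟨k, hk⟩ := hE.exists_card_eq
  have h1 : orderOf (E.normalizerMonoidHom ⟨a, hAE ha⟩) ∣ Nat.card A :=
    (orderOf_map_dvd _ _).trans (by rw [orderOf_mk]; exact orderOf_dvd_natCard A ha)
  have h2 : orderOf (E.normalizerMonoidHom ⟨a, hAE ha⟩) ∣ 2 ^ k := by
    refine (_root_.orderOf_dvd_natCard _).trans ?_
    rw [IsCyclic.card_mulAut, hk]
    rcases k with _ | k
    · simp
    · rw [Nat.totient_prime_pow_succ Nat.prime_two]
      simpa using pow_dvd_pow 2 (Nat.le_succ k)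
  have h3 : E.normalizerMonoidHom ⟨a, hAE ha⟩ = 1 := orderOf_eq_one_iff.1
    (Nat.eq_one_of_dvd_coprimes ((Nat.coprime_two_right.2 hA).pow_right k) h1 h2)
  have h4 : (⟨a, hAE ha⟩ : normalizer (E : Set X)) ∈ E.normalizerMonoidHom.ker := h3
  rw [normalizerMonoidHom_ker] at h4
  exact h4

/-- A group of odd order normalizing a 2-group and all of its maximal subgroups centralizes it. -/
theorem le_centralizer_of_coatoms_two [Finite X] {E A : Subgroup X} (hE : IsPGroup 2 E)
    (hA : Odd (Nat.card A)) (hAE : A ≤ normalizer (E : Set X))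
    (h : ∀ M : Subgroup E, IsCoatom M → A ≤ normalizer (M.map E.subtype : Set X)) :
    A ≤ centralizer (E : Set X) := by
  refine Solv.le_centralizer_of_frattini A E ?_ fun a ha k hk => ?_
  · obtain ⟨n, hn⟩ := (hE.to_subgroup (frattini E)).exists_card_eq
    rw [hn]
    exact (Nat.coprime_two_right.2 hA).pow_right n
  · have h1 : a * k * a⁻¹ ∈ E := (mem_normalizer_iff.1 (hAE ha) k).1 hk
    refine ⟨⟨a * k * a⁻¹, h1⟩ * ⟨k, hk⟩⁻¹, ?_, rfl⟩
    rw [SetLike.mem_coe, Grp.PFrattini.mem_frattini_iff]
    intro M hM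
    rw [mul_mem_iff_of_index_two (Grp.PFrattini.index_of_isCoatom hE hM), inv_mem_iff]
    have h2 := mem_normalizer_iff.1 (h M hM ha) k
    have h3 : ∀ y : E, (y : X) ∈ M.map E.subtype ↔ y ∈ M := fun y =>
      mem_map_iff_mem E.subtype_injective
    rw [← h3, ← h3]
    exact h2.symm

end Cfsg.Agent.FGS
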