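import Mathlib
import Cfsg.Agent.Transfer.Frobenius
import Cfsg.Agent.Grp.Card
import Cfsg.Agent.FGS.PrimePart

/-! Counting conjugacy classes of `p`-elements and of `π`-elements. -/

set_option autoImplicit false

namespace Cfsg.Agent.FGS.PCC

open Cfsg Subgroup
open scoped commutatorElement

universe u

/-- Weighted fibre counting for a surjection. -/
theorem card_le_sum_of_fiber {α β : Type*} [Fintype α] [Finite β] (φ : α → β)
    (hφ : Function.Surjective φ) (w : α → ℚ)
    (hw : ∀ x, 1 ≤ w x * (Nat.card {y // φ y = φ x} : ℚ)) : (Nat.card β : ℚ) ≤ ∑ x, w x := by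
  classical
  haveI := Fintype.ofFinite β
  rw [← Finset.sum_fiberwise (s := Finset.univ) (g := φ) w, Nat.card_eq_fintype_card,
    Fintype.card_eq_sum_ones]
  push_cast
  refine Finset.sum_le_sum fun b _ => ?_
  obtain ⟨a, rfl⟩ := hφ b
  set m : ℕ := (Finset.univ.filter fun y => φ y = φ a).card with hm
  have hpos : 0 < m := Finset.card_pos.2 ⟨a, by simp⟩
  have hmq : (0 : ℚ) < m := by exact_mod_cast hpos
  have h1 : ∀ x ∈ Finset.univ.filter fun y => φ y = φ a, (1 : ℚ) / m ≤ w x := by
    intro x hx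
    have hx' : φ x = φ a := (Finset.mem_filter.1 hx).2
    have := hw x
    rw [hx', Nat.card_eq_fintype_card, Fintype.card_subtype] at this
    rw [div_le_iff₀ hmq]; exact this
  calc (1 : ℚ) = ∑ _x ∈ Finset.univ.filter fun y => φ y = φ a, (1 : ℚ) / m := by
        rw [Finset.sum_const, ← hm, nsmul_eq_mul]; field_simp
    _ ≤ _ := Finset.sum_le_sum h1

variable {G : Type u} [Group G]

/-- The number of conjugacy classes of `p`-elements. -/
noncomputable abbrev kp (p : ℕ) (G : Type u) [Group G] : ℕ :=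
  Nat.card {c : ConjClasses G // ∀ x ∈ c.carrier, ∃ k : ℕ, orderOf x = p ^ k}

/-- The number of conjugacy classes of `π`-elements. -/
noncomputable abbrev kpi (π : Finset ℕ) (G : Type u) [Group G] : ℕ :=
  Nat.card {c : ConjClasses G // ∀ x ∈ c.carrier, ∀ r : ℕ, r.Prime → r ∣ orderOf x → r ∈ π}

/-- The `π`-part of the order. -/
noncomputable abbrev part (π : Finset ℕ) (G : Type u) : ℕ :=
  π.prod fun r => r ^ (Nat.card G).factorization r

theorem orderOf_eq_of_mem_carrier {x y : G} (h : y ∈ (ConjClasses.mk x).carrier) :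
    orderOf y = orderOf x := by
  rw [ConjClasses.mem_carrier_iff_mk_eq, ConjClasses.mk_eq_mk_iff_isConj] at h
  obtain ⟨c, hc⟩ := isConj_iff.1 h
  rw [← hc]
  exact ((MulAut.conj c).orderOf_eq y).symm

theorem mem_carrier_self (x : G) : x ∈ (ConjClasses.mk x).carrier :=
  ConjClasses.mem_carrier_mk

section fusion
variable [Finite G] {p : ℕ} [hp : Fact p.Prime]

/-- The map from a Sylow subgroup to the classes of `p`-elements. -/
noncomputable def cl (P : Sylow p G) (x : (P : Subgroup G)) :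
    {c : ConjClasses G // ∀ x ∈ c.carrier, ∃ k : ℕ, orderOf x = p ^ k} :=
  ⟨ConjClasses.mk (x : G), fun y hy => by
    rw [orderOf_eq_of_mem_carrier hy, Subgroup.orderOf_coe]
    exact IsPGroup.iff_orderOf.1 P.isPGroup' x⟩

theorem cl_eq_iff (P : Sylow p G) (x y : (P : Subgroup G)) :
    cl P x = cl P y ↔ IsConj (x : G) y := by
  rw [cl, cl, Subtype.mk.injEq, ConjClasses.mk_eq_mk_iff_isConj]

theorem cl_surjective (P : Sylow p G) : Function.Surjective (cl P) := by
  rintro ⟨c, hc⟩
  obtain ⟨x, rfl⟩ := ConjClasses.mk_surjective c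
  obtain ⟨k, hk⟩ := hc x (mem_carrier_self x)
  have hx : IsPGroup p (zpowers x) := IsPGroup.of_card (n := k) (by rw [Nat.card_zpowers, hk])
  obtain ⟨Q, hQ⟩ := hx.exists_le_sylow
  obtain ⟨g, hg⟩ := MulAction.exists_smul_eq G Q P
  have : g * x * g⁻¹ ∈ (P : Subgroup G) := by
    rw [← hg]
    exact Subgroup.smul_mem_pointwise_smul x (MulAut.conj g) (Q : Subgroup G)
      (hQ (mem_zpowers x))
  refine ⟨⟨_, this⟩, Subtype.ext ?_⟩
  exact ConjClasses.mk_eq_mk_iff_isConj.2 (isConj_iff.2 ⟨g⁻¹, by simp [mul_assoc]⟩)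

theorem kp_le_card (P : Sylow p G) : kp p G ≤ Nat.card (P : Subgroup G) :=
  Nat.card_le_card_of_surjective _ (cl_surjective P)

theorem kp_le_card_conjClasses (P : Sylow p G) :
    kp p G ≤ Nat.card (ConjClasses (P : Subgroup G)) := by
  refine Nat.card_le_card_of_surjective
    (Quotient.lift (s := IsConj.setoid _) (cl P) fun a b h =>
      (cl_eq_iff P a b).2 ((P : Subgroup G).subtype.map_isConj h)) ?_
  intro c
  obtain ⟨x, rfl⟩ := cl_surjective P c
  exact ⟨ConjClasses.mk x, rfl⟩

theorem kp_eq_card_conjClasses (P : Sylow p G) (h : HasNormalPComplement p G) :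
    kp p G = Nat.card (ConjClasses (P : Subgroup G)) := by
  symm
  refine Nat.card_eq_of_bijective
    (Quotient.lift (s := IsConj.setoid _) (cl P) fun a b h =>
      (cl_eq_iff P a b).2 ((P : Subgroup G).subtype.map_isConj h)) ⟨?_, ?_⟩
  · intro c d
    obtain ⟨x, rfl⟩ := ConjClasses.mk_surjective c
    obtain ⟨y, rfl⟩ := ConjClasses.mk_surjective d
    intro hxy
    obtain ⟨g, hg⟩ := isConj_iff.1 ((cl_eq_iff P x y).1 hxy)
    obtain ⟨v, hv, e⟩ := Transfer.HasNormalPComplement.conj_eq h P g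
    have := e x x.2 (hg ▸ y.2)
    exact ConjClasses.mk_eq_mk_iff_isConj.2 (isConj_iff.2 ⟨⟨v, hv⟩, Subtype.ext (by
      simpa [hg] using this)⟩)
  · intro c
    obtain ⟨x, rfl⟩ := cl_surjective P c
    exact ⟨ConjClasses.mk x, rfl⟩

omit [Finite G] in
theorem commute_of_pow_commute {x y : G} {d : ℕ} (hd : (orderOf y).Coprime d)
    (h : Commute (y ^ d) x) : Commute y x := by
  have : y ∈ centralizer ({x} : Set G) :=
    FGS.mem_of_pow_mem_of_coprime hd (mem_centralizer_singleton_iff.2 h.eq)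
  exact mem_centralizer_singleton_iff.1 this

/-- Lower bound on the size of a fusion class. -/
theorem le_card_fiber (P : Sylow p G) (x : (P : Subgroup G)) {y : G} {m : ℕ}
    (hy : ∀ i : ℕ, y ^ i * x * (y ^ i)⁻¹ ∈ (P : Subgroup G)) (hxy : ¬ Commute y x)
    (hm : ∀ d, 0 < d → d < m → (orderOf y).Coprime d) :
    m ≤ Nat.card {z // cl P z = cl P x} := by
  have : Nat.card (Fin m) ≤ Nat.card {z // cl P z = cl P x} := by
    refine Nat.card_le_card_of_injective
      (fun i => ⟨⟨_, hy i⟩, (cl_eq_iff P _ _).2 (isConj_iff.2 ⟨(y ^ (i : ℕ))⁻¹, by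
        simp [mul_assoc]⟩)⟩) ?_
    have key : ∀ i j : Fin m, i < j → y ^ (i : ℕ) * x * (y ^ (i : ℕ))⁻¹ ≠
        y ^ (j : ℕ) * x * (y ^ (j : ℕ))⁻¹ := by
      intro i j hij h
      obtain ⟨d, hd⟩ := Nat.exists_eq_add_of_lt hij
      apply hxy
      refine commute_of_pow_commute (hm (d + 1) (by omega) (by omega)) ?_
      rw [show (j : ℕ) = i + (d + 1) by omega, pow_add] at h
      have h2 : (x : G) = y ^ (d + 1) * x * (y ^ (d + 1))⁻¹ := by
        have := congrArg (fun t => (y ^ (i : ℕ))⁻¹ * t * y ^ (i : ℕ)) h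
        simpa [mul_assoc] using this
      show y ^ (d + 1) * x = x * y ^ (d + 1)
      conv_rhs => rw [h2]
      simp
    intro i j hij
    have h : y ^ (i : ℕ) * x * (y ^ (i : ℕ))⁻¹ = y ^ (j : ℕ) * x * (y ^ (j : ℕ))⁻¹ :=
      congrArg (fun t => ((t.1 : (P : Subgroup G)) : G)) hij
    rcases lt_trichotomy i j with h' | h' | h'
    · exact absurd h (key i j h')
    · exact h'
    · exact absurd h.symm (key j i h')
  simpa using this

theorem one_le_card_fiber (P : Sylow p G) (x : (P : Subgroup G)) :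
    1 ≤ Nat.card {z // cl P z = cl P x} :=
  Nat.card_pos_iff.2 ⟨⟨⟨x, rfl⟩⟩, inferInstance⟩

omit hp in
theorem sum_ite_mem (P A : Subgroup G) [Fintype P] [DecidablePred (· ∈ A)] (h : A ≤ P) (a : ℚ) :
    ∑ x : P, (if (x : G) ∈ A then a else 0) = Nat.card A * a := by
  classical
  rw [← Finset.sum_filter, Finset.sum_const, nsmul_eq_mul, ← Grp.card_subgroupOf_of_le h,
    Nat.card_eq_fintype_card, Fintype.card_subtype]
  congr

/-- Three-level weighted bound: fusion classes of elements of `P` outside `U` have at least two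
elements in `P`, those of elements of `U` outside `C` at least `m`. -/
theorem kp_le_three_level (P : Sylow p G) {C U : Subgroup G} (hCU : C ≤ U) (hUP : U ≤ P)
    {m l : ℕ} (hm0 : 0 < m) (hl0 : 0 < l)
    (h2 : ∀ x : (P : Subgroup G), (x : G) ∉ U → l ≤ Nat.card {z // cl P z = cl P x})
    (hm : ∀ x : (P : Subgroup G), (x : G) ∈ U → (x : G) ∉ C →
      m ≤ Nat.card {z // cl P z = cl P x}) :
    (kp p G : ℚ) ≤ Nat.card C * (1 - 1 / m) + Nat.card U * (1 / m - 1 / l) +
      Nat.card (P : Subgroup G) * (1 / l) := by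
  classical
  haveI := Fintype.ofFinite (P : Subgroup G)
  have hmq : (0 : ℚ) < m := by exact_mod_cast hm0
  have hlq : (0 : ℚ) < l := by exact_mod_cast hl0
  have := card_le_sum_of_fiber (cl P) (cl_surjective P)
    (fun x => (if (x : G) ∈ C then 1 - 1 / (m : ℚ) else 0) +
      (if (x : G) ∈ U then 1 / (m : ℚ) - 1 / l else 0) + 1 / l) (by
      intro x
      by_cases hC : (x : G) ∈ C
      · have : (1 : ℚ) ≤ Nat.card {z // cl P z = cl P x} := by
          exact_mod_cast one_le_card_fiber P x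
        simpa [hC, hCU hC] using this
      · by_cases hU : (x : G) ∈ U
        · have : (m : ℚ) ≤ Nat.card {z // cl P z = cl P x} := by exact_mod_cast hm x hU hC
          simp only [hC, hU, if_true, if_false, zero_add, sub_add_cancel]
          rw [div_mul_eq_mul_div, one_mul, le_div_iff₀ hmq, one_mul]; exact this
        · have : (l : ℚ) ≤ Nat.card {z // cl P z = cl P x} := by exact_mod_cast h2 x hU
          simp only [hC, hU, if_false, zero_add]
          rw [div_mul_eq_mul_div, one_mul, le_div_iff₀ hlq, one_mul]; exact this)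
  rw [Finset.sum_add_distrib, Finset.sum_add_distrib, sum_ite_mem _ _ (hCU.trans hUP),
    sum_ite_mem _ _ hUP, Finset.sum_const, Finset.card_univ, nsmul_eq_mul,
    ← Nat.card_eq_fintype_card] at this
  exact this

/-- An element of `P` outside the centre of `P` is moved by an element of `P`. -/
theorem le_card_fiber_of_not_mem_centralizer (P : Sylow p G) (x : (P : Subgroup G))
    (hx : (x : G) ∉ centralizer ((P : Subgroup G) : Set G)) :
    p ≤ Nat.card {z // cl P z = cl P x} := by
  rw [mem_centralizer_iff] at hx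
  push Not at hx
  obtain ⟨y, hy, hxy⟩ := hx
  refine le_card_fiber P x (y := y) (fun i => mul_mem (mul_mem (pow_mem hy i) x.2)
    (inv_mem (pow_mem hy i))) hxy fun d h0 hd => ?_
  obtain ⟨k, hk⟩ := IsPGroup.iff_orderOf.1 P.isPGroup' ⟨y, hy⟩
  rw [← Subgroup.orderOf_coe] at hk
  simp only at hk
  rw [hk]
  exact Nat.Coprime.pow_left _ ((Nat.Prime.coprime_iff_not_dvd hp.out).2
    (Nat.not_dvd_of_pos_of_lt h0 hd))

/-- The basic bound for a group without normal `p`-complement. -/
theorem exists_bound_of_not_hasNormalPComplement (P : Sylow p G)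
    (h : ¬ HasNormalPComplement p G) :
    ∃ (U : Subgroup G) (y : G), U ≤ P ∧ y ∈ normalizer (U : Set G) ∧ (orderOf y).Coprime p ∧
      ¬ U ≤ centralizer ({y} : Set G) ∧
      ∀ m : ℕ, 0 < m → (∀ d, 0 < d → d < m → (orderOf y).Coprime d) →
        (kp p G : ℚ) ≤ Nat.card (U ⊓ centralizer ({y} : Set G) : Subgroup G) * (1 - 1 / m) +
          Nat.card U * (1 / m - 1 / 2) + Nat.card (P : Subgroup G) * (1 / 2) := by
  have := mt (Transfer.hasNormalPComplement_of_local_centric P) h
  push Not at this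
  obtain ⟨U, hUP, -, -, hc, y, hy, hyp, hyc⟩ := this
  refine ⟨U, y, hUP, hy, hyp, fun hle => hyc ?_, fun m hm0 hm => ?_⟩
  · exact fun u hu => (mem_centralizer_singleton_iff.1 (hle hu))
  · refine kp_le_three_level P inf_le_left hUP hm0 (by norm_num : 0 < 2) (fun x hx => ?_)
      fun x hxU hxC => ?_
    · refine hp.out.two_le.trans (le_card_fiber_of_not_mem_centralizer P x fun hx' => hx ?_)
      exact hc ⟨x.2, centralizer_le (SetLike.coe_subset_coe.2 hUP) hx'⟩
    · refine le_card_fiber P x (y := y) (fun i => hUP ?_) (fun hxy => hxC ⟨hxU, ?_⟩) hm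
      · exact (mem_normalizer_iff.1 (pow_mem hy i) _).1 hxU
      · exact mem_centralizer_singleton_iff.2 hxy.symm.eq

theorem mul_card_le_of_lt {U C : Subgroup G} (hU : IsPGroup p U) (h : C < U) :
    p * Nat.card C ≤ Nat.card U := by
  rw [← Grp.card_mul_relIndex h.le, mul_comm]
  refine Nat.mul_le_mul_left _ ?_
  obtain ⟨k, hk⟩ := hU.index (C.subgroupOf U)
  have hk' : C.relIndex U = p ^ k := hk
  rw [hk']
  rcases k with _ | k
  · exfalso
    rw [pow_zero, relIndex_eq_one] at hk'
    exact h.not_ge hk'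
  · exact Nat.le_self_pow (by omega) p

/-- If `y` of order prime to `p` normalizes the `p`-group `U` and `[U, y] ≤ C_U(y)` elementwise then
`y` centralizes `U`. -/
theorem commute_of_comm_mem {U : Subgroup G} (hU : IsPGroup p U) {y x : G}
    (hyp : (orderOf y).Coprime p) (h1 : x⁻¹ * (y * x * y⁻¹) ∈ U)
    (h2 : Commute y (x⁻¹ * (y * x * y⁻¹))) : Commute y x := by
  set c := x⁻¹ * (y * x * y⁻¹) with hc
  have hx : y * x * y⁻¹ = x * c := by simp [hc]
  have key : ∀ k : ℕ, y ^ k * x * (y ^ k)⁻¹ = x * c ^ k := by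
    intro k
    induction k with
    | zero => simp
    | succ k ih =>
      have e : y * c ^ k * y⁻¹ = c ^ k := by rw [(h2.pow_right k).eq]; simp
      calc y ^ (k + 1) * x * (y ^ (k + 1))⁻¹ = y * (y ^ k * x * (y ^ k)⁻¹) * y⁻¹ := by
            rw [pow_succ']; group
        _ = (y * x * y⁻¹) * (y * c ^ k * y⁻¹) := by rw [ih]; group
        _ = x * c ^ (k + 1) := by rw [hx, e, pow_succ']; group
  obtain ⟨k, hk⟩ := hU ⟨c, h1⟩
  have hk' : c ^ p ^ k = 1 := congrArg Subtype.val hk
  refine commute_of_pow_commute (d := p ^ k) (hyp.pow_right k) ?_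
  have := key (p ^ k)
  rw [hk', mul_one] at this
  show y ^ p ^ k * x = x * y ^ p ^ k
  conv_rhs => rw [← this]
  simp

/-- For `p = 2` the fixed points of an odd order element have index at least `4`. -/
theorem four_mul_card_le {U : Subgroup G} (hU : IsPGroup 2 U) {y : G}
    (hy : y ∈ normalizer (U : Set G)) (hyp : (orderOf y).Coprime 2)
    (hn : ¬ U ≤ centralizer ({y} : Set G)) :
    4 * Nat.card (U ⊓ centralizer ({y} : Set G) : Subgroup G) ≤ Nat.card U := by
  haveI : Fact (Nat.Prime 2) := ⟨Nat.prime_two⟩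
  set C := U ⊓ centralizer ({y} : Set G) with hC
  have hle : C ≤ U := inf_le_left
  rw [← Grp.card_mul_relIndex hle, mul_comm]
  refine Nat.mul_le_mul_left _ ?_
  obtain ⟨k, hk⟩ := hU.index (C.subgroupOf U)
  have hk' : C.relIndex U = 2 ^ k := hk
  rw [hk']
  rcases k with _ | _ | k
  · exfalso
    rw [pow_zero, relIndex_eq_one] at hk'
    exact hn (hk'.trans inf_le_right)
  · exfalso
    apply hn
    intro x hx
    by_contra hxc
    have hx' : y * x * y⁻¹ ∈ U := (mem_normalizer_iff.1 hy x).1 hx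
    have h2 : (C.subgroupOf U).index = 2 := by simpa using hk
    have hxn : (⟨x, hx⟩ : U)⁻¹ ∉ C.subgroupOf U := fun h => hxc (by
      have := (inv_mem_iff.1 h); exact this.2)
    have hyn : (⟨_, hx'⟩ : U) ∉ C.subgroupOf U := fun h => hxc (by
      have h3 : y * x * y⁻¹ * y = y * (y * x * y⁻¹) := mem_centralizer_singleton_iff.1 h.2
      rw [mem_centralizer_singleton_iff]
      have h4 : y * x = y * (y * x * y⁻¹) := by simpa using h3
      have h5 : x = y * x * y⁻¹ := mul_left_cancel h4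
      conv_lhs => rw [h5]
      simp)
    have hm : (⟨x, hx⟩ : U)⁻¹ * ⟨_, hx'⟩ ∈ C.subgroupOf U :=
      (mul_mem_iff_of_index_two h2).2 (iff_of_false hxn hyn)
    have := commute_of_comm_mem hU hyp (x := x) hm.1
      (mem_centralizer_singleton_iff.1 hm.2).symm
    exact hxc (mem_centralizer_singleton_iff.2 this.symm.eq)
  · calc 4 = 2 ^ 2 := by norm_num
      _ ≤ _ := Nat.pow_le_pow_right (by norm_num) (by omega)

/-- `k_p(G) ≤ (p+1)|P|/(2p)` if `G` is not `p`-nilpotent. -/
theorem bound_of_not_hasNormalPComplement (P : Sylow p G) (h : ¬ HasNormalPComplement p G) :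
    2 * p * kp p G ≤ (p + 1) * Nat.card (P : Subgroup G) := by
  obtain ⟨U, y, hUP, -, -, hn, hb⟩ := exists_bound_of_not_hasNormalPComplement P h
  have h1 := hb 2 (by norm_num) (fun d h0 hd => by
    obtain rfl : d = 1 := by omega
    exact Nat.coprime_one_right _)
  have h2 : p * Nat.card (U ⊓ centralizer ({y} : Set G) : Subgroup G) ≤
      Nat.card (P : Subgroup G) :=
    mul_card_le_of_lt P.isPGroup' (lt_of_lt_of_le (inf_lt_left.2 hn) hUP)
  have h3 : (p : ℚ) * Nat.card (U ⊓ centralizer ({y} : Set G) : Subgroup G) ≤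
      Nat.card (P : Subgroup G) := by exact_mod_cast h2
  have hp0 : (0 : ℚ) ≤ p := Nat.cast_nonneg p
  have : (2 * p * kp p G : ℚ) ≤ (p + 1) * Nat.card (P : Subgroup G) := by
    push_cast at h1
    nlinarith [mul_le_mul_of_nonneg_left h1 hp0]
  exact_mod_cast this

/-- `k_p(G) ≤ |P|/2` if `G` is not `p`-nilpotent and `p = 2` or `G` has odd order. -/
theorem half_bound_of_not_hasNormalPComplement (P : Sylow p G) (h : ¬ HasNormalPComplement p G)
    (hodd : p = 2 ∨ Odd (Nat.card G)) : 2 * kp p G ≤ Nat.card (P : Subgroup G) := by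
  obtain ⟨U, y, hUP, hy, hyp, hn, hb⟩ := exists_bound_of_not_hasNormalPComplement P h
  have hU : IsPGroup p U := P.isPGroup'.to_le hUP
  have hy2 : (orderOf y).Coprime 2 := by
    rcases hodd with rfl | hodd
    · exact hyp
    · exact (Nat.coprime_two_right.2 hodd).coprime_dvd_left (orderOf_dvd_natCard y)
  have h2 := mul_card_le_of_lt hU (inf_lt_left.2 hn)
  set c := Nat.card (U ⊓ centralizer ({y} : Set G) : Subgroup G) with hc
  have hc0 : (0 : ℚ) ≤ c := Nat.cast_nonneg _
  by_cases h3 : p = 3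
  · subst h3
    have h1 := hb 5 (by norm_num) (fun d h0 hd => by
      interval_cases d
      · exact Nat.coprime_one_right _
      · exact hy2
      · exact hyp
      · exact hy2.pow_right 2)
    have h2' : (3 : ℚ) * c ≤ Nat.card U := by exact_mod_cast h2
    have : (2 * kp 3 G : ℚ) ≤ Nat.card (P : Subgroup G) := by push_cast at h1; linarith
    exact_mod_cast this
  · have h1 := hb 3 (by norm_num) (fun d h0 hd => by
      interval_cases d
      · exact Nat.coprime_one_right _
      · exact hy2)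
    have h4 : 4 * c ≤ Nat.card U := by
      by_cases hp2 : p = 2
      · subst hp2; exact four_mul_card_le hU hy hy2 hn
      · have : 4 ≤ p := by have := hp.out.two_le; omega
        exact (Nat.mul_le_mul_right _ this).trans h2
    have h2' : (4 : ℚ) * c ≤ Nat.card U := by exact_mod_cast h4
    have : (2 * kp p G : ℚ) ≤ Nat.card (P : Subgroup G) := by push_cast at h1; linarith
    exact_mod_cast this

/-- For odd `p` and non-abelian `P`, `k_p(G) ≤ |P|/2`. -/
theorem half_bound_of_not_comm (P : Sylow p G) (hp2 : p ≠ 2)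
    (h : ¬ IsMulCommutative (P : Subgroup G)) : 2 * kp p G ≤ Nat.card (P : Subgroup G) := by
  set Z := (P : Subgroup G) ⊓ centralizer ((P : Subgroup G) : Set G) with hZ
  have hp3 : 3 ≤ p := by have := hp.out.two_le; omega
  have h1 := kp_le_three_level P (C := Z) (U := P) inf_le_left le_rfl (m := 3) (l := 3)
    (by norm_num) (by norm_num) (fun x hx => absurd x.2 hx) fun x _ hx =>
      hp3.trans (le_card_fiber_of_not_mem_centralizer P x fun h' => hx ⟨x.2, h'⟩)
  obtain ⟨a, b, hab⟩ : ∃ a b : (P : Subgroup G), a * b ≠ b * a := by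
    by_contra hc
    push Not at hc
    exact h ⟨⟨hc⟩⟩
  have hab' : (a : G) * b ≠ b * a := fun e => hab (Subtype.ext e)
  set D := (P : Subgroup G) ⊓ centralizer ({(a : G)} : Set G) with hD
  have hZD : Z < D := by
    refine lt_of_le_of_ne (inf_le_inf_left _ (centralizer_le (by simp))) fun e => ?_
    have : (a : G) ∈ Z := e ▸ ⟨a.2, mem_centralizer_singleton_iff.2 rfl⟩
    exact hab' (this.2 b b.2).symm
  have hDP : D < P := inf_lt_left.2 fun hle =>
    hab' (mem_centralizer_singleton_iff.1 (hle b.2)).symm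
  have e1 := mul_card_le_of_lt (P.isPGroup'.to_le hDP.le) hZD
  have e2 := mul_card_le_of_lt P.isPGroup' hDP
  have e3 : 4 * Nat.card Z ≤ Nat.card (P : Subgroup G) := by nlinarith
  have e4 : (4 : ℚ) * Nat.card Z ≤ Nat.card (P : Subgroup G) := by exact_mod_cast e3
  have : (2 * kp p G : ℚ) ≤ Nat.card (P : Subgroup G) := by push_cast at h1; linarith
  exact_mod_cast this

end fusion

section pi

/-- Robinson's inequality, in the crude form. -/
theorem kpi_le_kp_mul [Finite G] {r : ℕ} [hr : Fact r.Prime] (π σ : Finset ℕ)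
    (hπ : ∀ q ∈ π, q = r ∨ q ∈ σ) {B : ℕ} (hB : ∀ H : Subgroup G, kpi σ H ≤ B) :
    kpi π G ≤ kp r G * B := by
  classical
  let A := {c : ConjClasses G // ∀ x ∈ c.carrier, ∃ k : ℕ, orderOf x = r ^ k}
  let rep : A → G := fun c => Quotient.out c.1
  have hrep : ∀ c : A, ConjClasses.mk (rep c) = c.1 := fun c => Quotient.out_eq c.1
  let S := Σ c : A, {d : ConjClasses (centralizer ({rep c} : Set G)) //
    ∀ x ∈ d.carrier, ∀ q : ℕ, q.Prime → q ∣ orderOf x → q ∈ σ}
  let f : S → ConjClasses G := fun s => ConjClasses.mk (rep s.1 * (Quotient.out s.2.1 : _))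
  have hS : Nat.card S ≤ kp r G * B := by
    haveI := Fintype.ofFinite A
    rw [Nat.card_sigma]
    calc _ ≤ ∑ _c : A, B := Finset.sum_le_sum fun c _ => hB _
      _ = _ := by rw [Finset.sum_const, Finset.card_univ, ← Nat.card_eq_fintype_card, smul_eq_mul]
  refine le_trans ?_ hS
  have hsurj : ∀ c : {c : ConjClasses G //
      ∀ x ∈ c.carrier, ∀ r : ℕ, r.Prime → r ∣ orderOf x → r ∈ π}, ∃ s, f s = c.1 := by
    rintro ⟨c, hc⟩
    obtain ⟨g, rfl⟩ := ConjClasses.mk_surjective c
    obtain ⟨u, v, hu, hv, ⟨k, hk⟩, hvr, e⟩ := Transfer.exists_pPart_mul (p := r) g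
    obtain ⟨j, -, hj⟩ := (Nat.dvd_prime_pow hr.out).1 (orderOf_dvd_of_pow_eq_one hk)
    let a : A := ⟨ConjClasses.mk u, fun x hx => ⟨j, by rw [orderOf_eq_of_mem_carrier hx, hj]⟩⟩
    obtain ⟨t, ht⟩ := isConj_iff.1 (ConjClasses.mk_eq_mk_iff_isConj.1 (hrep a).symm)
    have huv : Commute u v := by
      obtain ⟨i, rfl⟩ := hu
      obtain ⟨l, rfl⟩ := hv
      exact Commute.zpow_zpow_self g i l
    have hv' : t * v * t⁻¹ ∈ centralizer ({rep a} : Set G) := by
      rw [mem_centralizer_singleton_iff, ← ht]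
      simp only [mul_assoc, inv_mul_cancel_left]
      rw [← mul_assoc v, ← huv.eq, mul_assoc]
    refine ⟨⟨a, ⟨ConjClasses.mk ⟨_, hv'⟩, fun x hx q hq hqx => ?_⟩⟩, ?_⟩
    · rw [orderOf_eq_of_mem_carrier hx, ← Subgroup.orderOf_coe] at hqx
      have hqv : q ∣ orderOf v := by
        rwa [show orderOf (((⟨_, hv'⟩ : centralizer ({rep a} : Set G)) : G)) = orderOf v from
          (MulAut.conj t).orderOf_eq v] at hqx
      rcases hπ q (hc g (mem_carrier_self g) q hq (hqv.trans (orderOf_dvd_of_mem_zpowers hv)))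
        with rfl | h
      · exact absurd (Nat.Coprime.coprime_dvd_left hqv hvr) (by simpa using hq.one_lt.ne')
      · exact h
    · obtain ⟨s, hs⟩ := isConj_iff.1 (ConjClasses.mk_eq_mk_iff_isConj.1
        (Quotient.out_eq (ConjClasses.mk (⟨_, hv'⟩ : centralizer ({rep a} : Set G)))))
      have hs' := congrArg Subtype.val hs
      simp only [Subgroup.coe_mul, Subgroup.coe_inv] at hs'
      refine ConjClasses.mk_eq_mk_iff_isConj.2 (isConj_iff.2 ⟨t⁻¹ * s, ?_⟩)
      have hsa : (s : G) * rep a = rep a * s := mem_centralizer_singleton_iff.1 s.2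
      set w : G := ((Quotient.out (ConjClasses.mk (⟨_, hv'⟩ : centralizer ({rep a} : Set G))) :
        centralizer ({rep a} : Set G)) : G) with hw
      calc t⁻¹ * (s : G) * (rep a * w) * (t⁻¹ * s)⁻¹
          = t⁻¹ * ((s * rep a) * (s : G)⁻¹ * (s * w * (s : G)⁻¹)) * t := by group
        _ = g := by rw [hs', hsa, mul_inv_cancel_right, ← ht, e]; group
  choose s hs using hsurj
  refine Nat.card_le_card_of_injective s fun c d h => Subtype.ext ?_
  rw [← hs c, ← hs d, h]

theorem part_le_of_dvd (π : Finset ℕ) (hπ : ∀ r ∈ π, r.Prime) [Finite G] (H : Subgroup G) :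
    part π H ≤ part π G := by
  refine Finset.prod_le_prod' fun r hr => Nat.pow_le_pow_right (hπ r hr).pos ?_
  exact (Nat.factorization_le_iff_dvd Nat.card_pos.ne' Nat.card_pos.ne').2
    (card_subgroup_dvd_card H) r

/-- `k_π(G) ≤ |G|_π`. -/
theorem kpi_le_part (π : Finset ℕ) (hπ : ∀ r ∈ π, r.Prime) (G : Type u) [Group G] [Finite G] :
    kpi π G ≤ part π G := by
  induction π using Finset.induction_on generalizing G with
  | empty =>
    rw [part, Finset.prod_empty]
    refine Finite.card_le_one_iff_subsingleton.2 ⟨fun ⟨c, hc⟩ ⟨d, hd⟩ => Subtype.ext ?_⟩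
    have key : ∀ c : ConjClasses G,
        (∀ x ∈ c.carrier, ∀ r : ℕ, r.Prime → r ∣ orderOf x → r ∈ (∅ : Finset ℕ)) →
        c = ConjClasses.mk 1 := by
      intro c hc
      obtain ⟨g, rfl⟩ := ConjClasses.mk_surjective c
      have : orderOf g = 1 := by
        by_contra h
        obtain ⟨q, hq, hqg⟩ := Nat.exists_prime_and_dvd h
        simpa using hc g (mem_carrier_self g) q hq hqg
      rw [orderOf_eq_one_iff.1 this]
    exact (key c hc).trans (key d hd).symm
  | insert r σ hr ih =>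
    haveI : Fact r.Prime := ⟨hπ r (Finset.mem_insert_self _ _)⟩
    have hσ : ∀ q ∈ σ, q.Prime := fun q hq => hπ q (Finset.mem_insert_of_mem hq)
    refine (kpi_le_kp_mul (r := r) _ σ (fun q hq => Finset.mem_insert.1 hq)
      (B := part σ G) fun H => (ih hσ H).trans (part_le_of_dvd σ hσ H)).trans ?_
    rw [part, part, Finset.prod_insert hr]
    refine Nat.mul_le_mul_right _ ?_
    rw [← Sylow.card_eq_multiplicity (default : Sylow r G)]
    exact kp_le_card _

/-- `k_π(G) / |G|_π ≤ k_r(G) / |G|_r` for `r ∈ π`. -/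
theorem kpi_mul_le [Finite G] (π : Finset ℕ) (hπ : ∀ r ∈ π, r.Prime) {r : ℕ} [Fact r.Prime]
    (hr : r ∈ π) (P : Sylow r G) :
    kpi π G * Nat.card (P : Subgroup G) ≤ kp r G * part π G := by
  have hσ : ∀ q ∈ π.erase r, q.Prime := fun q hq => hπ q (Finset.mem_of_mem_erase hq)
  have h1 := kpi_le_kp_mul (G := G) (r := r) π (π.erase r)
    (fun q hq => by by_cases h : q = r; exacts [Or.inl h, Or.inr (Finset.mem_erase.2 ⟨h, hq⟩)])
    (B := part (π.erase r) G) fun H => (kpi_le_part _ hσ H).trans (part_le_of_dvd _ hσ H)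
  rw [part, ← Finset.mul_prod_erase π _ hr, ← Sylow.card_eq_multiplicity P]
  calc _ ≤ kp r G * part (π.erase r) G * Nat.card (P : Subgroup G) := Nat.mul_le_mul_right _ h1
    _ = _ := by ring

/-- If `G` is `r`-nilpotent with abelian Sylow `r`-subgroups for all `r ∈ σ`, then `G` has a normal
`σ`-complement and an abelian Hall `σ`-subgroup. -/
theorem exists_normal_compl_abelian [Finite G] (σ : Finset ℕ) (hσ : ∀ r ∈ σ, r.Prime)
    (h : ∀ r ∈ σ, HasNormalPComplement r G ∧ ∀ P : Sylow r G, IsMulCommutative (P : Subgroup G)) :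
    ∃ N H : Subgroup G, N.Normal ∧ (∀ x, x ∈ N ↔ ∀ r ∈ σ, (orderOf x).Coprime r) ∧
      N.IsComplement' H ∧ IsMulCommutative H ∧ (∀ q : ℕ, q.Prime → q ∣ Nat.card N → q ∉ σ) ∧
      ∀ q : ℕ, q.Prime → q ∣ N.index → q ∈ σ := by
  let N : Subgroup G := ⨅ r : σ, pResidual r G
  haveI hN : N.Normal := Subgroup.normal_iInf_normal fun r => inferInstance
  have hmem : ∀ x, x ∈ N ↔ ∀ r ∈ σ, (orderOf x).Coprime r := by
    intro x
    rw [mem_iInf]
    refine ⟨fun hx r hr => ?_, fun hx r => Transfer.mem_pResidual_of_coprime (hx r r.2)⟩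
    haveI : Fact r.Prime := ⟨hσ r hr⟩
    exact (Transfer.HasNormalPComplement.mem_pResidual_iff (h r hr).1).1 (hx ⟨r, hr⟩)
  have h1 : ∀ q : ℕ, q.Prime → q ∣ Nat.card N → q ∉ σ := by
    intro q hq hd hqσ
    haveI : Fact q.Prime := ⟨hq⟩
    obtain ⟨x, hx⟩ := exists_prime_orderOf_dvd_card' q hd
    have := (hmem x).1 x.2 q hqσ
    rw [Subgroup.orderOf_coe, hx] at this
    exact hq.one_lt.ne' (by simpa using this)
  have h2 : ∀ q : ℕ, q.Prime → q ∣ N.index → q ∈ σ := by
    intro q hq hd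
    by_contra hqσ
    haveI : Fact q.Prime := ⟨hq⟩
    let Q : Sylow q G := default
    have hQ : (Q : Subgroup G) ≤ N := fun x hx => (hmem x).2 fun r hr => by
      obtain ⟨k, hk⟩ := IsPGroup.iff_orderOf.1 Q.isPGroup' ⟨x, hx⟩
      rw [← Subgroup.orderOf_coe] at hk
      simp only at hk
      rw [hk]
      exact Nat.Coprime.pow_left _ ((Nat.coprime_primes hq (hσ r hr)).2 fun e => hqσ (e ▸ hr))
    exact Q.not_dvd_index (hd.trans (index_dvd_of_le hQ))
  have hcop : (Nat.card N).Coprime N.index :=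
    Nat.coprime_of_dvd fun q hq hd hd' => h1 q hq hd (h2 q hq hd')
  obtain ⟨H, hH⟩ := exists_right_complement'_of_coprime hcop
  refine ⟨N, H, hN, hmem, hH, ⟨⟨fun a b => Subtype.ext ?_⟩⟩, h1, h2⟩
  have hc : ⁅(a : G), (b : G)⁆ ∈ N := by
    rw [mem_iInf]
    rintro ⟨r, hr⟩
    haveI : Fact r.Prime := ⟨hσ r hr⟩
    exact Subgroup.Normal.commutator_le_of_self_sup_commutative_eq_top
      (Transfer.pResidual_sup_sylow (p := r) (default : Sylow r G)) ((h r hr).2 _)
      (commutator_mem_commutator (mem_top _) (mem_top _))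
  have hc2 : ⁅(a : G), (b : G)⁆ ∈ H := by
    rw [commutatorElement_def]
    exact mul_mem (mul_mem (mul_mem a.2 b.2) (inv_mem a.2)) (inv_mem b.2)
  have : ⁅(a : G), (b : G)⁆ = 1 := by
    have := hH.disjoint.le_bot (mem_inf.2 ⟨hc, hc2⟩)
    simpa using this
  exact commutatorElement_eq_one_iff_mul_comm.1 this

theorem card_conjClasses_of_comm (H : Type u) [Group H] (h : IsMulCommutative H) :
    Nat.card (ConjClasses H) = Nat.card H := by
  symm
  refine Nat.card_eq_of_bijective ConjClasses.mk ⟨fun a b e => ?_, ConjClasses.mk_surjective⟩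
  obtain ⟨c, hc⟩ := isConj_iff.1 (ConjClasses.mk_eq_mk_iff_isConj.1 e)
  rw [← hc, h.is_comm.comm c a, mul_inv_cancel_right]

/-- The criterion for odd `p`. -/
theorem nilp_comm_of_lt [Finite G] {p : ℕ} [hp : Fact p.Prime] (hp2 : p ≠ 2) (P : Sylow p G)
    (h : (p + 1) * Nat.card (P : Subgroup G) < 2 * p * kp p G) :
    HasNormalPComplement p G ∧ IsMulCommutative (P : Subgroup G) := by
  constructor
  · by_contra hn
    exact absurd h (not_lt.2 (bound_of_not_hasNormalPComplement P hn))
  · by_contra hn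
    have := half_bound_of_not_comm P hp2 hn
    nlinarith [Nat.zero_le (Nat.card (P : Subgroup G))]

/-- Passing to a subgroup containing the Sylow subgroup does not decrease `k_p`. -/
theorem kp_le_kp_subgroup [Finite G] {p : ℕ} [hp : Fact p.Prime] (K : Subgroup G)
    (hK : ¬ p ∣ K.index) : kp p G ≤ kp p K := by
  let f : {c : ConjClasses K // ∀ x ∈ c.carrier, ∃ k : ℕ, orderOf x = p ^ k} →
      {c : ConjClasses G // ∀ x ∈ c.carrier, ∃ k : ℕ, orderOf x = p ^ k} := fun c =>
    ⟨ConjClasses.map K.subtype c.1, by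
      obtain ⟨c, hc⟩ := c
      obtain ⟨x, rfl⟩ := ConjClasses.mk_surjective c
      intro y hy
      have hy' : y ∈ (ConjClasses.mk (x : G)).carrier := hy
      rw [orderOf_eq_of_mem_carrier hy', Subgroup.orderOf_coe]
      exact hc x (mem_carrier_self x)⟩
  refine Nat.card_le_card_of_surjective f fun c => ?_
  let Q : Sylow p K := default
  have hQ : IsPGroup p ((Q : Subgroup K).map K.subtype) := Q.isPGroup'.map _
  have hi : ¬ p ∣ ((Q : Subgroup K).map K.subtype).index := by
    rw [index_map_subtype]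
    exact fun hd => ((Nat.Prime.dvd_mul hp.out).1 hd).elim Q.not_dvd_index hK
  obtain ⟨x, rfl⟩ := cl_surjective (hQ.toSylow hi) c
  obtain ⟨x, y, hy, rfl⟩ := x
  exact ⟨cl Q ⟨y, hy⟩, rfl⟩

end pi

end Cfsg.Agent.FGS.PCC
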