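import Mathlib
import Cfsg.Agent.PLocal.HHTwo
import Cfsg.Agent.PLocal.SylowIn
import Cfsg.Agent.Grp.CardProduct

/-!
Tools for Powell's theorem on simple groups whose proper subgroups are `p`-soluble.
-/

namespace Cfsg.Agent.FGS.Powell

open Subgroup Module Cfsg.Agent.PLocal Cfsg.Agent.PLocal.HH
open scoped commutatorElement

universe u

variable {p : ℕ}

/-- A conjugation invariant property holding at `1` and preserved by left multiplication with some
`u ≠ 1` holds everywhere in a finite simple group. -/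
theorem forall_of_mul_closed {G : Type*} [Group G] [Finite G] [IsSimpleGroup G] (S : G → Prop)
    (hS : ∀ g x, S x → S (g * x * g⁻¹)) (h1 : S 1) {u : G} (hu : u ≠ 1)
    (h : ∀ g, S g → S (u * g)) (g : G) : S g := by
  let M : Submonoid G :=
    { carrier := {v | ∀ g, S g → S (v * g)}
      one_mem' := fun g hg => by rwa [one_mul]
      mul_mem' := fun {a b} ha hb g hg => by rw [mul_assoc]; exact ha _ (hb g hg) }
  let N : Subgroup G :=
    { M with
      inv_mem' := fun {a} ha => by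
        have h1 : a⁻¹ = a ^ (orderOf a - 1) := by
          rw [inv_eq_iff_mul_eq_one, ← pow_succ', Nat.sub_add_cancel (orderOf_pos a),
            pow_orderOf_eq_one]
        rw [h1]
        exact M.pow_mem ha _ }
  have hN : N.Normal := ⟨fun n hn x y hy => by
    have h2 := hS x _ (hn _ (hS x⁻¹ y hy))
    convert h2 using 1
    group⟩
  rcases hN.eq_bot_or_eq_top with h2 | h2
  · exact absurd (mem_bot.mp (h2 ▸ (show u ∈ N from h))) hu
  · have : g ∈ N := h2 ▸ mem_top g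
    simpa using this 1 h1

theorem conj_into {G : Type*} [Group G] [Finite G] [hp : Fact p.Prime] {R P Q : Subgroup G}
    (hR : (Nat.card R).Coprime p) (hP : IsPGroup p P) (hPR : P ≤ normalizer (R : Set G))
    (hQ : IsPGroup p Q) (hle : Q ≤ P ⊔ R) : ∃ s ∈ R, ∀ x ∈ Q, s⁻¹ * x * s ∈ P := by
  have hS : IsSylowIn p P (P ⊔ R) := by
    refine isSylowIn_of_not_dvd_relIndex le_sup_left hP fun hd => ?_
    have h1 := Grp.card_mul_card_eq_of_le_normalizer hPR
    rw [Grp.inf_eq_bot_of_isPGroup_of_coprime hP hR, card_bot, one_mul,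
      ← Grp.card_mul_relIndex_of_le (le_sup_left : P ≤ P ⊔ R)] at h1
    rw [← Nat.eq_of_mul_eq_mul_left Nat.card_pos h1] at hd
    exact (Nat.Prime.coprime_iff_not_dvd hp.out).mp hR.symm hd
  obtain ⟨g, hg, h⟩ := hS.exists_conj_le hQ hle
  obtain ⟨t, ht, r, hr, rfl⟩ := (Grp.mem_sup_of_le_normalizer hPR).mp hg
  refine ⟨r⁻¹, R.inv_mem hr, fun x hx => ?_⟩
  have h2 : t * r * x * (t * r)⁻¹ ∈ P := h ⟨x, hx, rfl⟩
  have h3 := P.mul_mem (P.mul_mem (P.inv_mem ht) h2) ht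
  convert h3 using 1
  group

theorem exists_conj_mem_closure {K : Type*} [Group K] [Finite K] [hp : Fact p.Prime] {R : Subgroup K}
    [hRn : R.Normal] (hR : (Nat.card R).Coprime p) {a b : K}
    (hP : IsPGroup p (closure ({a, b} : Set K))) {r₁ r₂ : K} (h₁ : r₁ ∈ R) (h₂ : r₂ ∈ R) :
    ∃ s ∈ R, s * a * s⁻¹ ∈ closure ({a * r₁, b * r₂} : Set K) ∧
      s * b * s⁻¹ ∈ closure ({a * r₁, b * r₂} : Set K) := by
  set P := closure ({a, b} : Set K) with hPdef
  set H := closure ({a * r₁, b * r₂} : Set K) with hH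
  have haP : a ∈ P := subset_closure (by simp)
  have hbP : b ∈ P := subset_closure (by simp)
  have hHle : H ≤ P ⊔ R := by
    rw [hH, closure_le]
    rintro x (rfl | rfl)
    · exact mul_mem (mem_sup_left haP) (mem_sup_right h₁)
    · exact mul_mem (mem_sup_left hbP) (mem_sup_right h₂)
  let f : H →* K ⧸ R := (QuotientGroup.mk' R).comp H.subtype
  have hrange : f.range ≤ P.map (QuotientGroup.mk' R) := by
    rintro _ ⟨x, rfl⟩
    obtain ⟨t, ht, r, hr, h⟩ := mem_sup_of_normal_right.mp (hHle x.2)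
    refine ⟨t, ht, ?_⟩
    change _ = ((x : K) : K ⧸ R)
    rw [← h, QuotientGroup.mk_mul_of_mem t hr]
    rfl
  have hfp : IsPGroup p (⊤ : Subgroup f.range) :=
    (((hP.map _).to_le hrange).to_subgroup ⊤)
  obtain ⟨Q, hQ, hQf⟩ := exists_isPGroup_map_eq f.rangeRestrict f.rangeRestrict_surjective hfp
  obtain ⟨s, hs, hsQ⟩ := conj_into hR hP le_normalizer_of_normal (hQ.map H.subtype)
    ((map_subtype_le Q).trans hHle)
  have key : ∀ c ∈ P, ∀ r ∈ R, c * r ∈ H → s * c * s⁻¹ ∈ H := by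
    intro c hc r hr hcr
    obtain ⟨x, hx, hxe⟩ : f.rangeRestrict ⟨_, hcr⟩ ∈ Q.map f.rangeRestrict := hQf ▸ mem_top _
    have h1 : ((x : K) : K ⧸ R) = ((c * r : K) : K ⧸ R) := congrArg Subtype.val hxe
    rw [QuotientGroup.mk_mul_of_mem c hr] at h1
    have h2 : s⁻¹ * x * s ∈ P := hsQ _ ⟨x, hx, rfl⟩
    have h3 : c⁻¹ * (s⁻¹ * x * s) ∈ P ⊓ R := by
      refine ⟨P.mul_mem (P.inv_mem hc) h2, ?_⟩
      have h4 : c⁻¹ * x ∈ R := QuotientGroup.eq.mp h1.symm
      have h5 := R.mul_mem (R.mul_mem (hRn.conj_mem _ (R.inv_mem hs) c⁻¹) h4) hs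
      change _ ∈ R
      convert h5 using 1
      group
    rw [Grp.inf_eq_bot_of_isPGroup_of_coprime hP hR, mem_bot, inv_mul_eq_one] at h3
    rw [h3]
    convert x.2 using 1
    group
  exact ⟨s, hs, key a haP r₁ h₁ (subset_closure (by simp)), key b hbP r₂ h₂ (subset_closure (by simp))⟩

theorem commute_of_forall_pair {K : Type*} [Group K] [Finite K] [hp : Fact p.Prime] {R : Subgroup K}
    [hRn : R.Normal] (hR : (Nat.card R).Coprime p) {a b : K}
    (hP : IsPGroup p (closure ({a, b} : Set K))) {Y : Set K}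
    (ha : ∀ y ∈ Y, a * y * a⁻¹ ∈ Y) (hb : ∀ y ∈ Y, b * y * b⁻¹ ∈ Y)
    (h : ∀ r₁ ∈ R, ∀ r₂ ∈ R, ∀ s ∈ R, s * a * s⁻¹ ∈ closure ({a * r₁, b * r₂} : Set K) →
      s * b * s⁻¹ ∈ closure ({a * r₁, b * r₂} : Set K) →
      ∀ d ∈ closure ({a * r₁, b * r₂} : Set K), d ∈ R → ∀ y ∈ Y, Commute d (s * y * s⁻¹)) :
    R ≤ centralizer Y := by
  set C := R ⊓ centralizer Y with hC
  have hCc : ∀ c : K, (∀ y ∈ Y, c * y * c⁻¹ ∈ Y) → ∀ x ∈ C, c⁻¹ * x * c ∈ C := by
    intro c hc x hx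
    refine ⟨by simpa using hRn.conj_mem _ hx.1 c⁻¹, fun y hy => ?_⟩
    have h1 := hx.2 _ (hc y hy)
    calc y * (c⁻¹ * x * c) = c⁻¹ * (c * y * c⁻¹ * x) * c := by group
      _ = c⁻¹ * (x * (c * y * c⁻¹)) * c := by rw [h1]
      _ = c⁻¹ * x * c * y := by group
  have hmem : ∀ (c : K) (s : R) (x : C), c⁻¹ * s * c * x * (s : K)⁻¹ ∈ R := fun c s x =>
    R.mul_mem (R.mul_mem (by simpa using hRn.conj_mem _ s.2 c⁻¹) x.2.1) (R.inv_mem s.2)
  let Φ : (R ⧸ C.subgroupOf R) × C × C → R × R := fun z =>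
    (⟨a⁻¹ * z.1.out * a * z.2.1 * (z.1.out : K)⁻¹, hmem _ _ _⟩,
      ⟨b⁻¹ * z.1.out * b * z.2.2 * (z.1.out : K)⁻¹, hmem _ _ _⟩)
  have hΦ : Function.Surjective Φ := by
    rintro ⟨⟨r₁, h₁⟩, ⟨r₂, h₂⟩⟩
    obtain ⟨s, hs, hsa, hsb⟩ := exists_conj_mem_closure hR hP h₁ h₂
    have key : ∀ c r : K, r ∈ R → c * r ∈ closure ({a * r₁, b * r₂} : Set K) →
        s * c * s⁻¹ ∈ closure ({a * r₁, b * r₂} : Set K) → s⁻¹ * ((s * c * s⁻¹)⁻¹ * (c * r)) * s ∈ C := by
      intro c r hr hcr hsc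
      have h1 : (s * c * s⁻¹)⁻¹ * (c * r) ∈ R := by
        have := R.mul_mem (R.mul_mem hs (hRn.conj_mem _ (R.inv_mem hs) c⁻¹)) hr
        convert this using 1
        group
      refine ⟨R.mul_mem (R.mul_mem (R.inv_mem hs) h1) hs, fun y hy => ?_⟩
      have h2 := (h r₁ h₁ r₂ h₂ s hs hsa hsb _ (mul_mem (inv_mem hsc) hcr) h1 y hy).eq
      generalize (s * c * s⁻¹)⁻¹ * (c * r) = d at h2 ⊢
      calc y * (s⁻¹ * d * s) = s⁻¹ * (s * y * s⁻¹ * d) * s := by group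
        _ = s⁻¹ * (d * (s * y * s⁻¹)) * s := by rw [h2]
        _ = s⁻¹ * d * s * y := by group
    have k1 := key a r₁ h₁ (subset_closure (by simp)) hsa
    have k2 := key b r₂ h₂ (subset_closure (by simp)) hsb
    obtain ⟨c, hc⟩ := QuotientGroup.mk_out_eq_mul (C.subgroupOf R) ⟨s, hs⟩
    have hcC : ((c : R) : K) ∈ C := c.2
    refine ⟨(QuotientGroup.mk ⟨s, hs⟩,
      ⟨_, C.mul_mem (C.mul_mem (hCc a ha _ (C.inv_mem hcC)) k1) hcC⟩,
      ⟨_, C.mul_mem (C.mul_mem (hCc b hb _ (C.inv_mem hcC)) k2) hcC⟩), ?_⟩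
    refine Prod.ext (Subtype.ext ?_) (Subtype.ext ?_)
    · simp only [Φ, hc, coe_mul]
      group
    · simp only [Φ, hc, coe_mul]
      group
  have h1 := Nat.card_le_card_of_surjective Φ hΦ
  rw [Nat.card_prod, Nat.card_prod, Nat.card_prod, ← mul_assoc] at h1
  have h2 : Nat.card (R ⧸ C.subgroupOf R) * Nat.card C = Nat.card R := by
    rw [← Grp.card_subgroupOf_of_le (inf_le_left : C ≤ R)]
    exact Grp.card_quotient_mul_card _
  rw [h2] at h1
  have h3 := Nat.le_of_mul_le_mul_left h1 Nat.card_pos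
  have h4 : C = R := eq_of_le_of_card_ge inf_le_left h3
  exact h4 ▸ inf_le_right

variable {G : Type u} [Group G]

theorem commutator_pow_mem [Finite G] [hp : Fact p.Prime] (hp2 : p ≠ 2) (hG : IsPSolvable p G)
    {e : ℕ} (h : ExpLE p (e + 1) G) {P : Subgroup G} (hP : IsPGroup p P) {a b : G} (ha : a ∈ P)
    (hb : b ∈ P) : ⁅a ^ p ^ e, b ^ p ^ e⁆ ∈ pPrimePCore p G := by
  obtain ⟨X₀, _, _, f₀, hEA₀, σ₀, hf₀, -, -, hσ₀, hval₀⟩ :=
    exists_hh_rep (isPConstrained_of_isPSolvable hG)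
  have hH := IsPSolvable.quotient hG (pPrimePCore p G)
  have hT : ∀ y : G ⧸ pPrimePCore p G, (∃ j, y ^ p ^ j = 1) → (σ₀ y - 1) ^ (p ^ (e + 1) - 1) = 0 := by
    intro y hy
    obtain ⟨x, ⟨j, hj⟩, rfl⟩ := exists_lift_pElement _ (QuotientGroup.mk'_surjective _) hy
    exact (h.of_surjective f₀ hf₀).sub_one_pow_eq_zero (hval₀ x) ⟨j, by rw [← map_pow, hj, map_one]⟩
  have hP' := hP.map (QuotientGroup.mk' (pPrimePCore p G))
  have h1 := commute_pow_of_sub_one_pow hp2 σ₀ hσ₀ hH pCore_quotient_pPrimePCore hP'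
    (fun g hg => hT g (isPGroup_subgroup_iff.mp hP' g hg)) (mem_map_of_mem _ ha) (mem_map_of_mem _ hb)
  rw [← QuotientGroup.ker_mk' (pPrimePCore p G), MonoidHom.mem_ker, map_commutatorElement, map_pow,
    map_pow]
  exact commutatorElement_eq_one_iff_commute.mpr h1

theorem pow_mem_of_commute [Finite G] [hp : Fact p.Prime] (hp2 : p ≠ 2) (hG : IsPSolvable p G)
    {e : ℕ} (hc : ∀ P : Subgroup G, IsPGroup p P → ∀ a ∈ P, ∀ b ∈ P, Commute (a ^ p ^ e) (b ^ p ^ e))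
    {x : G} (hx : x ^ p ^ (e + 1) = 1) : x ^ p ^ e ∈ pPrimePCore p G := by
  obtain ⟨X, _, _, f, hEA, σ, hf, -, -, hσ, hval⟩ := exists_hh_rep (isPConstrained_of_isPSolvable hG)
  by_contra hne
  rw [← QuotientGroup.ker_mk' (pPrimePCore p G), MonoidHom.mem_ker, map_pow] at hne
  refine theoremB_weak σ hσ (IsPSolvable.quotient hG _) pCore_quotient_pPrimePCore
    (orderOf_eq_prime_pow hne (by rw [← map_pow, hx, map_one]))
    (pow_eq_zero_of_le (m := p ^ e + (p ^ e - 1)) ?_ ?_)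
  · have h1 : p ^ e * 2 ≤ p ^ e * (p - 1) := Nat.mul_le_mul_left _ (by
      have := hp.out.two_le; omega)
    have := pow_pos hp.out.pos e
    omega
  obtain ⟨P, hP, hPf⟩ := exists_isPGroup_map_eq f hf (IsPGroup.to_sup_of_normal_left (isEA_isPGroup hEA)
    (isPGroup_zpowers_of_pow_eq_one (show f x ^ p ^ (e + 1) = 1 by rw [← map_pow, hx, map_one])))
  ext v
  obtain ⟨a, ha, ha'⟩ : f x ∈ P.map f := hPf ▸ mem_sup_right (mem_zpowers _)
  obtain ⟨b, hb, hb'⟩ : v.val * f x ∈ P.map f :=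
    hPf ▸ mul_mem (mem_sup_left v.val_mem) (mem_sup_right (mem_zpowers _))
  have h1 := (hc P hP a ha b hb).map f
  rw [map_pow, map_pow, ha', hb', val_mul_pow (hval x), ← sub_one_pow_eq_sum (F := ZMod p) p] at h1
  rw [pow_add, sub_one_pow_char_pow (F := ZMod p) p, End.mul_apply, LinearMap.sub_apply, End.one_apply,
    EA.val_sub, ← map_pow, ← map_pow]
  refine (congrArg (· * _) (hval _ _)).trans ?_
  rw [map_pow, mul_inv_eq_iff_eq_mul, mul_inv_eq_iff_eq_mul, LinearMap.zero_apply, EA.val_zero, one_mul]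
  exact mul_right_cancel ((mul_assoc _ _ _).trans h1.eq)

theorem mem_pPrimeCore_of_coprime {x : G} (hx : x ∈ pPrimePCore p G) (hc : (orderOf x).Coprime p) :
    x ∈ pPrimeCore p G := by
  obtain ⟨k, hk⟩ := isPGroup_subgroup_iff.mp (Grp.pCore_isPGroup p (G ⧸ pPrimeCore p G)) _ hx
  rw [← QuotientGroup.ker_mk' (pPrimeCore p G), MonoidHom.mem_ker, ← orderOf_eq_one_iff]
  exact Nat.eq_one_of_dvd_coprimes (hc.pow_right k) (orderOf_map_dvd _ x) (orderOf_dvd_of_pow_eq_one hk)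

theorem mem_pCore_of_centralizes [Finite G] [hp : Fact p.Prime] {y : G} (hy : y ∈ pPrimePCore p G)
    (hyp : ∃ k, y ^ p ^ k = 1) (hc : ∀ r ∈ pPrimeCore p G, Commute r y) : y ∈ pCore p G := by
  rw [Grp.pCore_eq_iInf_sylow, mem_iInf]
  intro S
  obtain ⟨k, hk⟩ := hyp
  have h1 : y ∈ (S : Subgroup G) ⊔ pPrimeCore p G := by
    have h2 : QuotientGroup.mk' (pPrimeCore p G) y ∈
        ((S.mapSurjective (QuotientGroup.mk'_surjective (pPrimeCore p G)) :
          Sylow p (G ⧸ pPrimeCore p G)) : Subgroup _) := Grp.pCore_le_sylow _ hy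
    obtain ⟨t, ht, h3⟩ := h2
    have h4 : t⁻¹ * y ∈ pPrimeCore p G := QuotientGroup.eq.mp h3
    have := mul_mem (mem_sup_left ht : t ∈ (S : Subgroup G) ⊔ pPrimeCore p G) (mem_sup_right h4)
    simpa using this
  obtain ⟨s, hs, h⟩ := conj_into (Grp.pPrimeCore_coprime p G) S.isPGroup' le_normalizer_of_normal
    (isPGroup_zpowers_of_pow_eq_one hk) (zpowers_le.mpr h1)
  have h2 := h y (mem_zpowers y)
  rwa [mul_assoc, ← (hc s hs).eq, inv_mul_cancel_left] at h2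

theorem coprime_orderOf_mul [Finite G] {u g : G} (hu : u ∈ pPrimeCore p G)
    (hg : (orderOf g).Coprime p) : (orderOf (u * g)).Coprime p := by
  have h1 : (u * g) ^ orderOf g ∈ pPrimeCore p G := by
    rw [← QuotientGroup.ker_mk' (pPrimeCore p G), MonoidHom.mem_ker] at hu ⊢
    rw [map_pow, map_mul, hu, one_mul, ← map_pow, pow_orderOf_eq_one, map_one]
  have h2 := Grp.orderOf_coprime_of_mem_pPrimeCore h1
  refine Nat.Coprime.coprime_dvd_left (orderOf_dvd_of_pow_eq_one ?_) (Nat.Coprime.mul_left hg h2)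
  rw [pow_mul, pow_orderOf_eq_one]

end Cfsg.Agent.FGS.Powell
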