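import Mathlib
import Cfsg.Agent.FGS.PrimPair
import Cfsg.Agent.FGS.SmallSec

/-!
# No primitive pair of characteristic two with solvable `S₄`-free members
-/

set_option autoImplicit false

namespace Cfsg.Agent.FGS.Prim

open Subgroup Cfsg.Agent.PLocal Cfsg.Agent.PLocal.Amb Cfsg.Agent.Grp
open Cfsg.Agent.PLocal.CP (IsCharP IsPRed opMod RedMod ncl)
open scoped Cfsg.Agent.PLocal.CP commutatorElement

universe u

variable {G : Type u} [Group G] [Finite G]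

local instance : Fact (Nat.Prime 2) := ⟨Nat.prime_two⟩

theorem exists_dihedral_top (hs : Group.IsSolvable G) {A : Subgroup G}
    (hA : IsElementaryAbelian 2 A) (hnot : ¬ A ≤ pCore 2 G) :
    ∃ (T : Subgroup G) (x : G), IsPGroup 2 T ∧ pCore 2 G ≤ T ∧ T ≤ A ⊔ pCore 2 G ∧
      T.relIndex A = 2 ∧ x ≠ 1 ∧ x ∈ 𝐍[T] ∧ x ∈ 𝐎[2, A ⊔ cj(x, A)] := by
  set f := QuotientGroup.mk' (pCore 2 G) with hf
  have hfs : Function.Surjective f := QuotientGroup.mk'_surjective _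
  have hker : f.ker = pCore 2 G := QuotientGroup.ker_mk' _
  have hF := centralizer_pPrimeCore_le_of_isPSolvable (p := 2) (G := G ⧸ pCore 2 G)
    isPSolvable_of_isSolvable (pCore_quotient_pCore 2 G)
  have hAe := isEA_map hA f
  obtain ⟨B, hBA, hB, d, hdF, hdB, hd1, _, ⟨a, ha, rfl⟩, -, had⟩ := exists_inverted_hyperplane hAe
    (pPrimeCore_coprime 2 _) le_normalizer_of_normal (fun h => hnot (by
      refine le_trans ((Subgroup.map_eq_bot_iff _).1 ?_) hker.le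
      rw [eq_bot_iff,
        ← inf_eq_bot_of_isPGroup_of_coprime (isEA_isPGroup hAe) (pPrimeCore_coprime 2 _)]
      exact le_inf le_rfl (h.trans hF)))
  have hdo := orderOf_coprime_of_mem_pPrimeCore hdF
  obtain ⟨x₀, hx₀⟩ := hfs d
  obtain ⟨_, ⟨x, hx, rfl⟩, hmin⟩ := exists_minimal_of_wellFoundedLT
    (fun L : Subgroup G => ∃ x, f x = d ∧ L = A ⊔ cj(x, A)) ⟨_, x₀, hx₀, rfl⟩
  have hdL : d ∈ (A ⊔ cj(x, A)).map f := by
    refine mem_of_sq_mem hdo ?_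
    have ha2 : f a * f a = 1 := by rw [← pow_two]; exact hAe.2 _ ⟨a, ha, rfl⟩
    have e : d ^ 2 = (d * f a * d⁻¹) * f a := by
      rw [← had]
      calc d ^ 2 = d * (f a * f a) * d * 1 := by rw [ha2, pow_two]; simp
        _ = d * f a * (f a * d * (f a)⁻¹) * f a := by group
    refine ⟨x * a * x⁻¹ * a, mul_mem (mem_sup_right (conj_mem_cj x ha)) (mem_sup_left ha), ?_⟩
    rw [e, ← hx]; simp
  have h1 := mem_pRes (p := 2) hdL hdo
  rw [← map_pRes] at h1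
  obtain ⟨y, hy, hyd⟩ := h1
  have h2 : A ⊔ cj(y, A) ≤ A ⊔ cj(x, A) :=
    sup_le le_sup_left (cj_le_of_mem le_sup_left (pRes_le _ _ hy))
  have h3 := le_antisymm h2 (hmin ⟨y, hyd, rfl⟩ h2)
  refine ⟨B.comap f, y, (isEA_isPGroup (isEA_mono hAe hBA)).comap_of_ker_isPGroup f
    (by rw [hker]; exact pCore_isPGroup 2 G), hker.ge.trans (ker_le_comap f B), ?_,
    by rw [relIndex_comap, hB], ?_, ?_, by rw [h3]; exact hy⟩
  · exact (comap_mono hBA).trans (by rw [comap_map_eq, hker])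
  · rintro rfl
    exact hd1 (by rw [← hyd, map_one])
  · refine le_normalizer_comap f ?_
    rw [mem_comap, hyd]
    exact centralizer_le_normalizer' B hdB

theorem exists_dihedral {M A : Subgroup G} (hs : Group.IsSolvable M)
    (hA : IsElementaryAbelian 2 A) (hAM : A ≤ M) (hnot : ¬ A ≤ pCoreOf 2 M) :
    ∃ (T : Subgroup G) (x : G), IsPGroup 2 T ∧ pCoreOf 2 M ≤ T ∧ T ≤ A ⊔ pCoreOf 2 M ∧
      T.relIndex A = 2 ∧ x ∈ M ∧ x ≠ 1 ∧ x ∈ 𝐍[T] ∧ x ∈ 𝐎[2, A ⊔ cj(x, A)] := by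
  obtain ⟨T, x, h1, h2, h3, h4, h5, h6, h7⟩ := exists_dihedral_top hs (isEA_subgroupOf hA M)
    (fun h => hnot (by rw [← map_subgroupOf_of_le hAM]; exact map_mono h))
  refine ⟨T.map M.subtype, x, h1.map _, map_mono h2, ?_, ?_, x.2,
    fun h => h5 (Subtype.ext h), ?_, ?_⟩
  · have := map_mono (f := M.subtype) h3
    rwa [Subgroup.map_sup, map_subgroupOf_of_le hAM] at this
  · rw [← h4, ← relIndex_map_map_of_injective T _ M.subtype_injective, map_subgroupOf_of_le hAM]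
  · rw [normalizer_eq_subgroupOf] at h6; exact h6
  · have : (x : G) ∈ (𝐎[2, A.subgroupOf M ⊔ cj(x, A.subgroupOf M)]).map M.subtype := ⟨x, h7, rfl⟩
    rwa [pRes_map_subtype, Subgroup.map_sup, map_subtype_cj, map_subgroupOf_of_le hAM] at this

theorem relIndex_pos (H K : Subgroup G) : 0 < H.relIndex K :=
  Nat.pos_of_ne_zero index_ne_zero_of_finite

omit [Finite G] in
theorem relIndex_cj (g : G) (H K : Subgroup G) : (cj(g, H)).relIndex cj(g, K) = H.relIndex K :=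
  relIndex_map_map_of_injective _ _ (MulAut.conj g).injective

theorem relIndex_anti {H H' : Subgroup G} (K : Subgroup G) (h : H ⊓ K ≤ H') :
    H'.relIndex K ≤ H.relIndex K := by
  rw [← inf_relIndex_right H K]
  exact relIndex_le_of_le_left h (relIndex_pos _ _).ne'

theorem relIndex_mono_right (H : Subgroup G) {K L : Subgroup G} (h : K ≤ L) :
    H.relIndex K ≤ H.relIndex L := relIndex_le_of_le_right h (relIndex_pos _ _).ne'

theorem relIndex_sup_le {X Y Z : Subgroup G} (h : X ≤ 𝐍[Y]) (hX : Z ≤ X) (hY : Z ≤ Y) :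
    Z.relIndex (X ⊔ Y) ≤ Z.relIndex X * Z.relIndex Y := by
  have e := card_mul_card_eq_of_le_normalizer h
  have h1 : Nat.card Z ≤ Nat.card ↥(X ⊓ Y) := card_le_of_le (le_inf hX hY)
  rw [← card_mul_relIndex hX, ← card_mul_relIndex hY,
    ← card_mul_relIndex (hX.trans (le_sup_left : X ≤ X ⊔ Y))] at e
  have h0 : 0 < Nat.card Z := Nat.card_pos
  have h2 : Nat.card Z * Nat.card Z * Z.relIndex (X ⊔ Y) ≤
      Nat.card Z * Nat.card Z * (Z.relIndex X * Z.relIndex Y) := by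
    calc _ = Nat.card Z * (Nat.card Z * Z.relIndex (X ⊔ Y)) := by ring
      _ ≤ _ := Nat.mul_le_mul_right _ h1
      _ = _ := e.symm
      _ = _ := by ring
  exact Nat.le_of_mul_le_mul_left h2 (Nat.mul_pos h0 h0)

theorem eq_sup_inf_of_relIndex_le {V W K : Subgroup G} (h : V ≤ W)
    (hi : K.relIndex W ≤ K.relIndex V) : W = V ⊔ (W ⊓ K) := by
  refine eq_sup_of_card_le h inf_le_left ?_
  rw [← inf_assoc, inf_eq_left.2 h]
  have e1 := Grp.card_inf_mul_relIndex W K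
  have e2 := Grp.card_inf_mul_relIndex V K
  calc _ = Nat.card ↥(V ⊓ K) * K.relIndex W * Nat.card ↥(W ⊓ K) := by rw [← e1]; ring
    _ ≤ Nat.card ↥(V ⊓ K) * K.relIndex V * Nat.card ↥(W ⊓ K) := by gcongr
    _ = _ := by rw [e2]

/-- The `2F`-property of `V` for subgroups of `T`. -/
def TwoF (V T : Subgroup G) : Prop :=
  ∀ D ≤ T, (∀ d ∈ D, d ^ 2 ∈ 𝐂[V]) → (𝐂[V]).relIndex D ^ 2 ≤ (𝐂[D]).relIndex V

omit [Finite G] in
theorem TwoF.cj {V T : Subgroup G} (h : TwoF V T) {x : G} (hx : x ∈ 𝐍[T]) : TwoF cj(x, V) T := by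
  intro D hD h2
  have := h cj(x⁻¹, D) (cj_le_of_mem_normalizer hD (inv_mem hx)) (by
    intro d hd
    have := h2 _ (mem_cj.1 hd)
    rw [centralizer_cj, mem_cj] at this
    simpa [pow_two, mul_assoc] using this)
  rwa [← relIndex_cj x, ← relIndex_cj x _ V, ← centralizer_cj, ← centralizer_cj, cj_cj_inv] at this

theorem commutator_mem_of_relIndex_le_two {R C : Subgroup G} (hRC : R ≤ 𝐍[C])
    (h2 : C.relIndex R ≤ 2) {y : G} (hyR : y ∈ 𝐍[R]) (hyC : y ∈ 𝐍[C]) : ∀ r ∈ R, ⁅y, r⁆ ∈ C := by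
  obtain ⟨X, _, _, f, W, -, hW, hc, hf⟩ := exists_section (𝐍[R] ⊓ 𝐍[C]) R C
    (le_inf le_normalizer hRC) inf_le_left inf_le_right
  obtain ⟨φ, hφ⟩ := exists_hom_perm W (n := 1) (hc ▸ h2)
  exact (hf ⟨y, hyR, hyC⟩).1 ((hφ ⟨_, by rw [normalizer_eq_top]; trivial⟩).1 (Subsingleton.elim _ _))

omit [Finite G] in
theorem sq_commute {s v : G} (h1 : s * ⁅s, v⁆ = ⁅s, v⁆ * s) (h2 : ⁅s, v⁆ ^ 2 = 1) :
    v * s ^ 2 = s ^ 2 * v := by
  have e : s * v * s⁻¹ = ⁅s, v⁆ * v := by simp [commutatorElement_def]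
  have : s ^ 2 * v * (s ^ 2)⁻¹ = v := by
    calc s ^ 2 * v * (s ^ 2)⁻¹ = s * (s * v * s⁻¹) * s⁻¹ := by rw [pow_two]; group
      _ = (s * ⁅s, v⁆) * v * s⁻¹ := by rw [e]; group
      _ = ⁅s, v⁆ * (s * v * s⁻¹) := by rw [h1]; group
      _ = v := by rw [e, ← mul_assoc, ← pow_two, h2, one_mul]
  rw [← mul_inv_eq_iff_eq_mul.1 this]

theorem TwoF.no_transvection {V T V₁ : Subgroup G} (h : TwoF V T) (hV : IsElementaryAbelian 2 V)
    (hTV : T ≤ 𝐍[V]) (h1 : V₁ ≤ V) (h2 : V₁.relIndex V ≤ 2) {s : G} (hs : s ∈ T)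
    (hsC : s ∈ 𝐂[V₁]) : s ∈ 𝐂[V] := by
  have hVn : V ≤ 𝐍[V₁] := (isEA_le_centralizer hV).trans
    ((Amb.centralizer_anti h1).trans (centralizer_le_normalizer' _))
  have h3 := commutator_mem_of_relIndex_le_two hVn h2 (hTV hs) (centralizer_le_normalizer' _ hsC)
  have h4 : s ^ 2 ∈ 𝐂[V] := fun v hv =>
    sq_commute (hsC _ (h3 v hv)).symm (hV.2 _ (h1 (h3 v hv)))
  have h5 := h (zpowers s) (zpowers_le.2 hs) (by
    rintro _ ⟨i, rfl⟩
    have := zpow_mem h4 i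
    rwa [← zpow_natCast, ← zpow_mul, mul_comm, zpow_mul, zpow_natCast] at this)
  have h6 : (𝐂[zpowers s]).relIndex V ≤ 2 := (relIndex_anti V
    (inf_le_left.trans (le_centralizer_iff.1 (zpowers_le.2 hsC)))).trans h2
  have h7 := relIndex_pos 𝐂[V] (zpowers s)
  have h8 : (𝐂[V]).relIndex (zpowers s) = 1 := by nlinarith
  exact relIndex_eq_one.1 h8 (mem_zpowers s)

theorem TwoF.relIndex_le_two {V T V₀ R : Subgroup G} (h : TwoF V T)
    (hV : IsElementaryAbelian 2 V) (hT : IsPGroup 2 T) (hTV : T ≤ 𝐍[V]) (h0 : V₀ ≤ V)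
    (h4 : V₀.relIndex V ≤ 4) (hR : R ≤ T) (hRC : R ≤ 𝐂[V₀]) : (𝐂[V]).relIndex R ≤ 2 := by
  have h1 : ∀ r ∈ R, r ^ 2 ∈ 𝐂[V] := by
    intro r hr
    by_cases hle : V ≤ V₀
    · exact pow_mem (Amb.centralizer_anti hle (hRC hr)) 2
    obtain ⟨u, hu, hu0, hc⟩ := CP.exists_notMem_commutator_mem (isEA_isPGroup hV) (hT.to_le hR)
      (hR.trans hTV) hle
    have hz : ⁅r, u⁆ ∈ V₀ := by
      rw [← commutatorElement_inv]; exact inv_mem (hc r (mem_sup_right hr)).2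
    have h5 : V₀ ⊔ zpowers u ≤ V := sup_le h0 (zpowers_le.2 hu)
    refine h.no_transvection hV hTV h5 ?_ (pow_mem (hR hr) 2) ?_
    · have e := relIndex_mul_relIndex V₀ (V₀ ⊔ zpowers u) V le_sup_left h5
      have h6 : V₀.relIndex (V₀ ⊔ zpowers u) ≠ 1 := fun h =>
        hu0 (relIndex_eq_one.1 h (mem_sup_right (mem_zpowers u)))
      have h7 := relIndex_pos V₀ (V₀ ⊔ zpowers u)
      have h8 : 2 ≤ V₀.relIndex (V₀ ⊔ zpowers u) := by omega
      nlinarith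
    · rw [Amb.centralizer_sup]
      refine mem_inf.2 ⟨pow_mem (hRC hr) 2, ?_⟩
      rw [Amb.centralizer_zpowers, mem_centralizer_singleton_iff]
      exact (sq_commute (hRC hr _ hz).symm (hV.2 _ (h0 hz))).symm
  have h2 := (h R hR h1).trans ((relIndex_anti V
    (inf_le_left.trans (le_centralizer_iff.1 hRC))).trans h4)
  nlinarith

theorem le_two_of_sq {a b : ℕ} (h1 : a ^ 2 ≤ b * 2) (h2 : b ^ 2 ≤ a * 2) : a ≤ 2 := by
  by_contra h
  have h3 : 3 * a ≤ a ^ 2 := by nlinarith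
  have h4 : 5 ≤ b := by omega
  have h5 : 5 * b ≤ b ^ 2 := by nlinarith
  omega

/-- First case: a `2`-reduced normal subgroup of `M₁` lies in `O₂(M₂)`. -/
theorem case_one {M Q T A : Subgroup G} {x : G} (hM : ¬ CF.Sec (Equiv.Perm (Fin 4)) M)
    (hc : ∀ y ∈ M, (orderOf y).Coprime 2 → y ∈ 𝐂[Q] → y = 1) (_hQM : M ≤ 𝐍[Q])
    (hA : IsElementaryAbelian 2 A) (hAM : A ≤ M) (hT : IsPGroup 2 T) (hQT : Q ≤ T)
    (hTA : T ≤ 𝐍[A]) (hAT : A ≤ 𝐍[T]) (hi : T.relIndex A = 2) (hF : TwoF A T) (hxM : x ∈ M)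
    (hx1 : x ≠ 1) (hxT : x ∈ 𝐍[T]) (hx : x ∈ 𝐎[2, A ⊔ cj(x, A)]) : False := by
  set A' := cj(x, A) with hA'
  have hA'e : IsElementaryAbelian 2 A' := isEA_map hA _
  have hT' : cj(x, T) = T := cj_of_mem_normalizer hxT
  have hTA' : T ≤ 𝐍[A'] := by rw [hA', normalizer_cj, ← hT']; exact cj_mono x hTA
  have hA'T : A' ≤ 𝐍[T] := cj_le_of_mem hAT hxT
  have hi' : T.relIndex A' = 2 := by rw [hA', ← hi, ← relIndex_cj x T A, hT']
  have hF' : TwoF A' T := hF.cj hxT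
  have hA'M : A' ≤ M := cj_le_of_mem hAM hxM
  have hxL : x ∈ A ⊔ A' := pRes_le _ _ hx
  have key : ∀ {A A' : Subgroup G}, IsElementaryAbelian 2 A' → T.relIndex A = 2 → TwoF A T →
      (𝐂[A]).relIndex (A' ⊓ T) ^ 2 ≤ (𝐂[A']).relIndex (A ⊓ T) * 2 := by
    intro A A' hA' hi hF
    refine (hF _ inf_le_right fun d hd => by rw [hA'.2 d hd.1]; exact one_mem _).trans ?_
    rw [← hi, inf_comm A T, relIndex_inf_mul_relIndex]
    exact relIndex_anti _ (inf_le_left.trans (inf_le_left.trans (Amb.centralizer_anti inf_le_left)))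
  have k1 := key hA'e hi hF
  have k2 := key hA hi' hF'
  have a1 : (𝐂[A]).relIndex (A' ⊓ T) ≤ 2 := le_two_of_sq k1 k2
  have a2 : (𝐂[A']).relIndex (A ⊓ T) ≤ 2 := le_two_of_sq k2 k1
  set Z := A ⊓ T ⊓ 𝐂[A'] with hZ
  have hLZ : A ⊔ A' ≤ 𝐂[Z] := sup_le ((isEA_le_centralizer hA).trans
    (Amb.centralizer_anti (inf_le_left.trans inf_le_left))) (le_centralizer_iff.1 inf_le_right)
  have hZA' : Z ≤ A' ⊓ T := by
    refine le_inf ?_ (inf_le_left.trans inf_le_right)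
    rw [← cj_of_mem_normalizer (centralizer_le_normalizer' Z (hLZ hxL))]
    exact cj_mono x (inf_le_left.trans inf_le_left)
  have hZ' : 𝐂[A] ⊓ (A' ⊓ T) ≤ Z := by
    have h1 : A ⊔ A' ≤ 𝐂[𝐂[A] ⊓ (A' ⊓ T)] := sup_le (le_centralizer_iff.1 inf_le_left)
      ((isEA_le_centralizer hA'e).trans (Amb.centralizer_anti (inf_le_right.trans inf_le_left)))
    refine le_inf (le_inf ?_ (inf_le_right.trans inf_le_right))
      ((inf_le_right.trans inf_le_left).trans (isEA_le_centralizer hA'e))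
    rw [← cj_le_cj_iff (g := x), cj_of_mem_normalizer (centralizer_le_normalizer' _ (h1 hxL))]
    exact inf_le_right.trans inf_le_left
  set R := (A ⊓ T) ⊔ (A' ⊓ T) with hR
  have hRT : R ≤ T := sup_le inf_le_right inf_le_right
  have hRL : R ≤ A ⊔ A' := sup_le_sup inf_le_left inf_le_left
  have h4 : Z.relIndex R ≤ 4 := by
    refine (relIndex_sup_le (Amb.le_normalizer_inf (inf_le_right.trans hTA')
      (inf_le_right.trans le_normalizer)) inf_le_left hZA').trans ?_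
    have b1 : Z.relIndex (A ⊓ T) ≤ 2 := (relIndex_anti _ (by rw [inf_comm])).trans a2
    have b2 : Z.relIndex (A' ⊓ T) ≤ 2 := (relIndex_anti _ hZ').trans a1
    exact Nat.mul_le_mul b1 b2
  have hcomm : ∀ {A K : Subgroup G}, T ≤ 𝐍[A] → A ≤ 𝐍[T] → K ≤ T → ⁅K, A⁆ ≤ A ⊓ T := by
    intro A K h1 h2 hK
    exact le_inf (le_normalizer_iff_commutator_le_right.1 (hK.trans h1))
      ((commutator_mono hK le_rfl).trans (le_normalizer_iff_commutator_le_left.1 h2))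
  have hAR : A ≤ 𝐍[R] :=
    le_normalizer_iff_commutator_le_left.2 ((hcomm hTA hAT hRT).trans le_sup_left)
  have hA'R : A' ≤ 𝐍[R] :=
    le_normalizer_iff_commutator_le_left.2 ((hcomm hTA' hA'T hRT).trans le_sup_right)
  have hQL : ⁅Q, A ⊔ A'⁆ ≤ R := CP.commutator_sup_le hAR hA'R
    ((hcomm hTA hAT hQT).trans le_sup_left) ((hcomm hTA' hA'T hQT).trans le_sup_right)
  have hLM : A ⊔ A' ≤ M := sup_le hAM hA'M
  have : 𝐎[2, A ⊔ A'] ≤ ⊥ := by
    refine pRes_le_iff.2 fun y hy hyo => hc y (hLM hy) hyo ?_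
    have h1 := odd_commutator_mem hM (hRL.trans hLM) hLM
      (hRL.trans (hLZ.trans (centralizer_le_normalizer' _))) (sup_le hAR hA'R)
      (hLZ.trans (centralizer_le_normalizer' _)) h4 (isEA_isPGroup hA) (isEA_isPGroup hA'e) hy hyo
    have h2 := CP.mem_centralizer_of_commutator_mem
      (hT.to_le (inf_le_left.trans inf_le_right : Z ≤ T)) hyo (hLZ hy) h1
    refine CP.mem_centralizer_of_commutator_mem (hT.to_le hRT) hyo h2 fun q hq => ?_
    rw [← commutatorElement_inv]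
    exact inv_mem (hQL (commutator_mem_commutator hq hy))
  exact hx1 (this hx)

theorem step_one {T A' V : Subgroup G} (hA' : IsElementaryAbelian 2 A')
    (hV : IsElementaryAbelian 2 V) (hVT : V ≤ T) (hi : T.relIndex A' = 2)
    (hmax : ∀ E ≤ T, IsElementaryAbelian 2 E → Nat.card E ≤ Nat.card A')
    (hcent : ∀ E ≤ T, IsElementaryAbelian 2 E → Nat.card A' ≤ Nat.card E → E ≤ 𝐂[V])
    (hF : TwoF V T) (hn : ¬ V ≤ A') :
    V ≤ ΩZ[2, thompsonSubgroupOf 2 T] ∧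
      A'.relIndex ΩZ[2, thompsonSubgroupOf 2 T] ≤ A'.relIndex V ∧
      A'.relIndex V = 2 * (𝐂[V]).relIndex (A' ⊓ T) ∧ A'.relIndex V ≤ 4 := by
  set F := A' ⊓ T ⊓ 𝐂[V] with hFdef
  set a := (𝐂[V]).relIndex (A' ⊓ T) with ha
  set b := A'.relIndex V with hb
  have hE : IsElementaryAbelian 2 (F ⊔ V) :=
    isEA_sup (isEA_mono hA' (inf_le_left.trans inf_le_left)) hV inf_le_right
  have hET : F ⊔ V ≤ T := sup_le (inf_le_left.trans inf_le_right) hVT
  have e1 : Nat.card ↥(A' ⊓ T) * 2 = Nat.card A' := hi ▸ Grp.card_inf_mul_relIndex A' T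
  have e2 : Nat.card F * a = Nat.card ↥(A' ⊓ T) := Grp.card_inf_mul_relIndex _ _
  have e3 : Nat.card ↥(V ⊓ A') * b = Nat.card V := Grp.card_inf_mul_relIndex _ _
  have e4 := card_mul_card_eq_of_le_normalizer
    ((inf_le_right : F ≤ 𝐂[V]).trans (centralizer_le_normalizer' V))
  have e5 : F ⊓ V = V ⊓ A' := le_antisymm (le_inf inf_le_right
    (inf_le_left.trans (inf_le_left.trans inf_le_left))) (le_inf (le_inf (le_inf inf_le_right
      (inf_le_left.trans hVT)) (inf_le_left.trans (isEA_le_centralizer hV))) inf_le_left)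
  have e6 : Nat.card ↥(F ⊔ V) = Nat.card F * b := by
    rw [e5, ← e3] at e4
    have h0 : 0 < Nat.card ↥(V ⊓ A') := Nat.card_pos
    refine Nat.eq_of_mul_eq_mul_left h0 ?_
    rw [← e4]; ring
  have h0 : 0 < Nat.card F := Nat.card_pos
  have h1 : b ≤ 2 * a := by
    have := hmax _ hET hE
    rw [e6, ← e1, ← e2, mul_assoc, mul_comm a] at this
    exact Nat.le_of_mul_le_mul_left this h0
  have h2 : a ^ 2 ≤ b :=
    (hF _ inf_le_right fun d hd => by rw [hA'.2 d hd.1]; exact one_mem _).trans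
      (relIndex_anti _ (inf_le_left.trans ((isEA_le_centralizer hA').trans
        (Amb.centralizer_anti inf_le_left))))
  have h3 : b ≠ 1 := fun h => hn (relIndex_eq_one.1 h)
  have h4 : 0 < a := relIndex_pos _ _
  have h5 : a ≤ 2 := by nlinarith
  have h6 : b = 2 * a := by interval_cases a <;> omega
  have h7 : Nat.card ↥(F ⊔ V) = Nat.card A' := by rw [e6, ← e1, ← e2, h6]; ring
  have hEm : F ⊔ V ∈ maxEA 2 T := ⟨hET, hE, fun B h1 h2 => h7 ▸ hmax B h1 h2⟩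
  have hJ : thompsonSubgroupOf 2 T ≤ 𝐂[V] := thompsonSubgroupOf_le_iff.2 fun E hE' =>
    hcent E hE'.1 hE'.2.1 (h7 ▸ (card_eq_of_mem_maxEA hEm hE').le)
  refine ⟨CP.le_omegaZ hV (le_sup_right.trans (le_thompsonSubgroupOf hEm))
    (le_centralizer_iff.1 hJ), ?_, h6, by omega⟩
  have hW : ΩZ[2, thompsonSubgroupOf 2 T] ≤ F ⊔ V :=
    le_of_mem_maxEA_of_centralizes hEm ((CP.omegaZ_le _).trans (thompsonSubgroupOf_le T))
      (CP.omegaZ_isEA _).2 ((CP.omegaZ_le_centralizer _).trans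
        (Amb.centralizer_anti (le_thompsonSubgroupOf hEm)))
  refine (relIndex_anti (H := F) _ (inf_le_left.trans (inf_le_left.trans inf_le_left))).trans
    ((relIndex_mono_right F hW).trans (le_of_eq ?_))
  have := card_mul_relIndex (le_sup_left : F ≤ F ⊔ V)
  rw [e6] at this
  exact Nat.eq_of_mul_eq_mul_left h0 this

theorem case_three {M T A V : Subgroup G} {x : G} (hM : ¬ CF.Sec (Equiv.Perm (Fin 4)) M)
    (hA : IsElementaryAbelian 2 A) (hAM : A ≤ M) (hT : IsPGroup 2 T) (hTM : T ≤ M)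
    (hAT : A ≤ 𝐍[T]) (hi : T.relIndex A = 2) (hVA : V ≤ A) (hVT : V ≤ T) (hTV : T ≤ 𝐍[V])
    (hmax : ∀ E ≤ T, IsElementaryAbelian 2 E → Nat.card E ≤ Nat.card A)
    (hcent : ∀ E ≤ T, IsElementaryAbelian 2 E → Nat.card A ≤ Nat.card E → E ≤ 𝐂[V])
    (hF : TwoF V T) (hxM : x ∈ M) (hxV : x ∉ 𝐂[V]) (hxT : x ∈ 𝐍[T])
    (hx : x ∈ 𝐎[2, A ⊔ cj(x, A)]) : False := by
  set A' := cj(x, A) with hA'
  set V' := cj(x, V) with hV'
  have hV := isEA_mono hA hVA
  have hA'e : IsElementaryAbelian 2 A' := isEA_map hA _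
  have hV'e : IsElementaryAbelian 2 V' := isEA_map hV _
  have hT' : cj(x, T) = T := cj_of_mem_normalizer hxT
  have hTV' : T ≤ 𝐍[V'] := by rw [hV', normalizer_cj, ← hT']; exact cj_mono x hTV
  have hA'T : A' ≤ 𝐍[T] := cj_le_of_mem hAT hxT
  have hi' : T.relIndex A' = 2 := by rw [hA', ← hi, ← relIndex_cj x T A, hT']
  have hF' : TwoF V' T := hF.cj hxT
  have hLM : A ⊔ A' ≤ M := sup_le hAM (cj_le_of_mem hAM hxM)
  have hxL : x ∈ A ⊔ A' := pRes_le _ _ hx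
  have hcard : Nat.card A' = Nat.card A := card_cj _ _
  have hV'A' : V' ≤ A' := cj_mono x hVA
  have hV'T : V' ≤ T := cj_le_of_mem_normalizer hVT hxT
  have hcent' : ∀ E ≤ T, IsElementaryAbelian 2 E → Nat.card A ≤ Nat.card E → E ≤ 𝐂[V'] := by
    intro E h1 h2 h3
    rw [hV', centralizer_cj, le_cj_iff]
    exact hcent _ (cj_le_of_mem_normalizer h1 (inv_mem hxT)) (isEA_map h2 _)
      (h3.trans (card_cj _ _).ge)
  have hn : ¬ V ≤ A' := fun h => hxV (sup_le ((isEA_le_centralizer hA).trans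
    (Amb.centralizer_anti hVA)) ((isEA_le_centralizer hA'e).trans (Amb.centralizer_anti h)) hxL)
  have hn' : ¬ V' ≤ A := fun h => hxV (by
    have : x ∈ 𝐂[V'] := sup_le ((isEA_le_centralizer hA).trans (Amb.centralizer_anti h))
      ((isEA_le_centralizer hA'e).trans (Amb.centralizer_anti hV'A')) hxL
    rw [hV', centralizer_cj, mem_cj] at this
    simpa using this)
  obtain ⟨s1, s2, s3, s4⟩ := step_one hA'e hV hVT hi' (hcard ▸ hmax) (hcard ▸ hcent) hF hn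
  obtain ⟨t1, t2, t3, t4⟩ := step_one hA hV'e hV'T hi hmax hcent' hF' hn'
  set W := ΩZ[2, thompsonSubgroupOf 2 T] with hW
  have hWe : IsElementaryAbelian 2 W := CP.omegaZ_isEA _
  have hWT : W ≤ T := (CP.omegaZ_le _).trans (thompsonSubgroupOf_le T)
  have hNW : 𝐍[T] ≤ 𝐍[W] := (normalizer_le_normalizer_thompsonSubgroupOf T).trans
    (CP.normalizer_le_normalizer_omegaZ _)
  have hLT : A ⊔ A' ≤ 𝐍[T] := sup_le hAT hA'T
  have hsym : A'.relIndex W = A.relIndex W := by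
    rw [← relIndex_cj x A W, cj_of_mem_normalizer (hNW hxT)]
  set Z := W ⊓ A' ⊓ A with hZ
  have hLZ : A ⊔ A' ≤ 𝐂[Z] := sup_le ((isEA_le_centralizer hA).trans
    (Amb.centralizer_anti inf_le_right)) ((isEA_le_centralizer hA'e).trans
      (Amb.centralizer_anti (inf_le_left.trans inf_le_right)))
  have hZW : Z ≤ W := inf_le_left.trans inf_le_left
  by_cases h2 : A.relIndex W ≤ 2
  · have h4 : Z.relIndex W ≤ 4 := by
      rw [hZ, inf_assoc, inf_relIndex_left]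
      exact relIndex_inf_le.trans (Nat.mul_le_mul (hsym ▸ h2) h2)
    refine hxV (Amb.centralizer_anti s1 (pRes_le_iff.2 (fun y hy hyo => ?_) hx))
    have h1 := odd_commutator_mem hM (hWT.trans hTM) hLM ((isEA_le_centralizer hWe).trans
      ((Amb.centralizer_anti hZW).trans (centralizer_le_normalizer' _))) (hLT.trans hNW)
      (hLZ.trans (centralizer_le_normalizer' _)) h4 (isEA_isPGroup hA) (isEA_isPGroup hA'e) hy hyo
    exact CP.mem_centralizer_of_commutator_mem (hT.to_le (hZW.trans hWT)) hyo (hLZ hy) h1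
  have b1 : A'.relIndex V = 4 := by omega
  have b2 : A.relIndex V' = 4 := by omega
  have e1 := eq_sup_inf_of_relIndex_le s1 s2
  have e2 := eq_sup_inf_of_relIndex_le (V := V') (W := W ⊓ A') (K := A) (le_inf t1 hV'A')
    ((relIndex_mono_right A inf_le_left).trans t2)
  set R := T ⊓ 𝐂[Z] with hR
  have r1 : (𝐂[V]).relIndex R ≤ 2 := hF.relIndex_le_two (V₀ := V ⊓ A') hV hT hTV inf_le_left
    (by rw [inf_relIndex_left, b1]) inf_le_left (inf_le_right.trans (Amb.centralizer_anti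
      (le_inf (inf_le_inf_right _ s1) (inf_le_left.trans hVA))))
  have r2 : (𝐂[V']).relIndex R ≤ 2 := hF'.relIndex_le_two (V₀ := V' ⊓ A) hV'e hT hTV' inf_le_left
    (by rw [inf_relIndex_left, b2]) inf_le_left (inf_le_right.trans (Amb.centralizer_anti
      (inf_le_inf_right _ (le_inf t1 hV'A'))))
  have h4 : (𝐂[W]).relIndex R ≤ 4 := by
    refine le_trans (relIndex_anti (H := 𝐂[V] ⊓ 𝐂[V']) R ?_)
      (relIndex_inf_le.trans (Nat.mul_le_mul r1 r2))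
    rw [le_centralizer_iff, e1, e2]
    exact sup_le (le_centralizer_iff.1 (inf_le_left.trans inf_le_left))
      (sup_le (le_centralizer_iff.1 (inf_le_left.trans inf_le_right))
        (le_centralizer_iff.1 (inf_le_right.trans inf_le_right)))
  have hLR : A ⊔ A' ≤ 𝐍[R] := Amb.le_normalizer_inf hLT
    (Amb.le_normalizer_centralizer (hLZ.trans (centralizer_le_normalizer' _)))
  have hLC : A ⊔ A' ≤ 𝐍[𝐂[W]] := Amb.le_normalizer_centralizer (hLT.trans hNW)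
  have h5 : x ∈ CP.secCent R 𝐂[W] := by
    refine pRes_le_iff.2 (fun y hy hyo => CP.mem_secCent.2 ⟨hLC hy, ?_⟩) hx
    exact odd_commutator_mem hM (inf_le_left.trans hTM) hLM (inf_le_left.trans
      (Amb.le_normalizer_centralizer (le_normalizer.trans hNW))) hLR hLC h4 (isEA_isPGroup hA)
      (isEA_isPGroup hA'e) hy hyo
  have h6 : A' ⊓ T ≤ 𝐂[V] := by
    rw [← hT', hA', ← cj_inf, cj_le_iff_forall]
    intro a ha
    have h7 := (CP.mem_secCent.1 h5).2 a ⟨ha.2, hLZ (mem_sup_left ha.1)⟩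
    have e : x * a * x⁻¹ = ⁅x, a⁆ * a := by simp [commutatorElement_def]
    rw [e]
    exact mul_mem (Amb.centralizer_anti s1 h7)
      (Amb.centralizer_anti hVA (isEA_le_centralizer hA ha.1))
  rw [relIndex_eq_one.2 h6] at s3
  omega

variable {M₁ M₂ : Subgroup G}

theorem twoF_Y {M T : Subgroup G} (s : Group.IsSolvable M)
    (f : ¬ CF.Sec (Equiv.Perm (Fin 4)) M) (h : T ≤ M) : TwoF 𝐘[2, M] T :=
  fun _ hD h2 => twoF s f (CP.isPRed_Y 2 M) (hD.trans h) h2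

theorem PP.Y_le_core_two (h : PP 2 M₁ M₂) (s₁ : Group.IsSolvable M₁) (s₂ : Group.IsSolvable M₂)
    (f₁ : ¬ CF.Sec (Equiv.Perm (Fin 4)) M₁) (f₂ : ¬ CF.Sec (Equiv.Perm (Fin 4)) M₂) :
    𝐘[2, M₁] ≤ pCoreOf 2 M₂ := by
  by_contra hnot
  have hAM : 𝐘[2, M₁] ≤ M₂ := h.Y_le.trans inf_le_right
  obtain ⟨T, x, h1, h2, h3, h4, h5, h6, h7, h8⟩ := exists_dihedral s₂ (CP.Y_isEA 2 M₁) hAM hnot
  have hT : T ≤ M₁ := h3.trans (sup_le (CP.Y_le 2 M₁) h.o₂)
  refine case_one f₂ (fun y hy hyo hc => h.c₂.eq_one hy hyo hc) (le_normalizer_pCoreOf 2 M₂)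
    (CP.Y_isEA 2 M₁) hAM h1 h2 (hT.trans (CP.le_normalizer_Y 2 M₁)) ?_ h4 (twoF_Y s₁ f₁ hT) h5 h6
    h7 h8
  refine le_normalizer_iff_commutator_le_left.2 (le_trans ?_ h2)
  rw [commutator_comm]
  refine (commutator_mono le_rfl h3).trans (CP.commutator_sup_le
    (hAM.trans (le_normalizer_pCoreOf 2 M₂)) le_normalizer ?_ ?_)
  · rw [commutator_eq_bot_iff_le_centralizer.2 (CP.Y_le_centralizer 2 M₁)]; exact bot_le
  · exact le_normalizer_iff_commutator_le_right.1 (hAM.trans (le_normalizer_pCoreOf 2 M₂))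

theorem PP.maxEA_le_centralizer_two (h : PP 2 M₁ M₂) (s₁ : Group.IsSolvable M₁)
    (f₁ : ¬ CF.Sec (Equiv.Perm (Fin 4)) M₁) {A : Subgroup G} (hA : A ∈ maxEA 2 (bb 2 M₁ M₂)) :
    A ≤ 𝐂[𝐘[2, M₁]] := by
  set V := 𝐘[2, M₁] with hV
  have hVe : IsElementaryAbelian 2 V := CP.Y_isEA 2 M₁
  have hVB : V ≤ bb 2 M₁ M₂ := (CP.Y_le_pCoreOf 2 M₁).trans le_sup_left
  have h1 := twoF_Y s₁ f₁ (hA.1.trans (h.bb_le.trans inf_le_left)) A le_rfl
    fun d hd => by rw [hA.2.1.2 d hd]; exact one_mem _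
  have h2 := (isBestOffenderOn_of_mem_maxEA hVe hVB hA).1 (A ⊓ 𝐂[V]) inf_le_left
  rw [inf_eq_left.2 (le_centralizer_iff.1 inf_le_right : V ≤ 𝐂[A ⊓ 𝐂[V]]),
    ← Grp.card_inf_mul_relIndex A 𝐂[V], ← Grp.card_inf_mul_relIndex V 𝐂[A]] at h2
  have h3 : (𝐂[A]).relIndex V ≤ (𝐂[V]).relIndex A := by
    have h0 : 0 < Nat.card ↥(A ⊓ 𝐂[V]) * Nat.card ↥(V ⊓ 𝐂[A]) :=
      Nat.mul_pos Nat.card_pos Nat.card_pos
    refine Nat.le_of_mul_le_mul_left ?_ h0
    calc _ = _ := by ring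
      _ ≤ _ := h2
      _ = _ := by ring
  have h4 := relIndex_pos 𝐂[V] A
  exact relIndex_eq_one.1 (by nlinarith)

theorem PP.maxEA_le_core_two (h : PP 2 M₁ M₂) (s₁ : Group.IsSolvable M₁)
    (s₂ : Group.IsSolvable M₂) (f₁ : ¬ CF.Sec (Equiv.Perm (Fin 4)) M₁)
    (f₂ : ¬ CF.Sec (Equiv.Perm (Fin 4)) M₂) {A : Subgroup G} (hA : A ∈ maxEA 2 (bb 2 M₁ M₂)) :
    A ≤ pCoreOf 2 M₂ := by
  by_contra hnot
  have hAM : A ≤ M₂ := hA.1.trans (h.bb_le.trans inf_le_right)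
  obtain ⟨T, x, h1, h2, h3, h4, h5, h6, h7, h8⟩ := exists_dihedral s₂ hA.2.1 hAM hnot
  have hTB : T ≤ bb 2 M₁ M₂ := h3.trans (sup_le hA.1 le_sup_right)
  have hT : T ≤ M₁ := hTB.trans (h.bb_le.trans inf_le_left)
  have hVe : IsElementaryAbelian 2 𝐘[2, M₁] := CP.Y_isEA 2 M₁
  refine case_three (V := 𝐘[2, M₁]) f₂ hA.2.1 hAM h1 (hTB.trans (h.bb_le.trans inf_le_right)) ?_ h4
    ?_ ((h.Y_le_core_two s₁ s₂ f₁ f₂).trans h2) (hT.trans (CP.le_normalizer_Y 2 M₁))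
    (fun E hE he => hA.2.2 E (hE.trans hTB) he)
    (fun E hE he hc => h.maxEA_le_centralizer_two s₁ f₁
      (mem_maxEA_of_card_le hA (hE.trans hTB) he hc)) (twoF_Y s₁ f₁ hT) h5 (fun hx => h6 ?_) h7 h8
  · refine le_normalizer_iff_commutator_le_left.2 (le_trans ?_ h2)
    rw [commutator_comm]
    refine (commutator_mono le_rfl h3).trans (CP.commutator_sup_le
      (hAM.trans (le_normalizer_pCoreOf 2 M₂)) le_normalizer ?_ ?_)
    · rw [commutator_eq_bot_iff_le_centralizer.2 (isEA_le_centralizer hA.2.1)]; exact bot_le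
    · exact le_normalizer_iff_commutator_le_right.1 (hAM.trans (le_normalizer_pCoreOf 2 M₂))
  · exact le_of_mem_maxEA_of_centralizes hA ((CP.Y_le_pCoreOf 2 M₁).trans le_sup_left) hVe.2
      (le_centralizer_iff.1 (h.maxEA_le_centralizer_two s₁ f₁ hA))
  · have hxB : x ∈ 𝐍[bb 2 M₁ M₂] :=
      PP.le_normalizer_bb 2 M₁ M₂ ⟨h.inf_centralizer_Y_le ⟨h5, hx⟩, h5⟩
    rw [pRes_eq_bot (h.isPGroup_bb.to_le (sup_le hA.1 (cj_le_of_mem_normalizer hA.1 hxB)))] at h8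
    exact h8

/-- There is no primitive pair of characteristic two of solvable `S₄`-free groups. -/
theorem PP.false_of_two (h : PP 2 M₁ M₂) (s₁ : Group.IsSolvable M₁) (s₂ : Group.IsSolvable M₂)
    (f₁ : ¬ CF.Sec (Equiv.Perm (Fin 4)) M₁) (f₂ : ¬ CF.Sec (Equiv.Perm (Fin 4)) M₂) : False := by
  obtain ⟨A, hA, h1 | h1⟩ := h.exists_not_le
  · exact h1 (h.symm.maxEA_le_core_two s₂ s₁ f₂ f₁ (by rwa [bb, sup_comm]))
  · exact h1 (h.maxEA_le_core_two s₁ s₂ f₁ f₂ hA)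

end Cfsg.Agent.FGS.Prim
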