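import Mathlib
import Cfsg.Agent.FGS.PPowOrbit
import Cfsg.Agent.FGS.KazarinCor
import Cfsg.Agent.FGS.RankOneStruct2
import Cfsg.Agent.PLocal.ElemAb
import Cfsg.Agent.Solv.Coprime2
import Cfsg.Agent.Grp.CoprimeIndex

/-! `q`-Baer groups (Camina-Camina). -/

set_option autoImplicit false

namespace Cfsg.Agent.FGS.QBaer

open Cfsg Subgroup

variable {G : Type*} [Group G] [Finite G]

theorem isSolvable_of_abelian_sylow {q p : ℕ} [hq : Fact q.Prime] (hp : p.Prime) {V : Subgroup G}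
    [hVn : V.Normal] (hV : IsPGroup q V) (hVi : ¬ q ∣ V.index) [hVc : IsMulCommutative V]
    (hO : pPrimeCore q G = ⊥) (h : ∀ v ∈ V, ∃ k, (centralizer ({v} : Set G)).index = p ^ k) :
    Group.IsSolvable G := by
  have hcomm : ∀ a ∈ V, ∀ b ∈ V, a * b = b * a := Misc.isMulCommutative_iff'.1 hVc
  obtain ⟨n, hn⟩ := hV.exists_card_eq
  obtain ⟨N, hN⟩ := exists_right_complement'_of_coprime (N := V) (by
    rw [hn]; exact ((Nat.Prime.coprime_iff_not_dvd hq.out).2 hVi).pow_left _)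
  have hNq : ¬ q ∣ Nat.card N := by rwa [← hN.symm.index_eq_card]
  let f : N →* G ⧸ V := (QuotientGroup.mk' V).comp N.subtype
  have hf : Function.Surjective f := by
    intro y
    obtain ⟨g, rfl⟩ := QuotientGroup.mk'_surjective V y
    obtain ⟨v, hv, n, hn, rfl⟩ := Solv.exists_mul_of_isComplement' hN g
    refine ⟨⟨n, hn⟩, ?_⟩
    simp [f, (QuotientGroup.eq_one_iff v).2 hv]
  by_contra hns
  have hNs : ¬ Group.IsSolvable N := by
    intro hs
    have := Group.isSolvable_of_surjective hf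
    have := Solv.isSolvable_of_isMulCommutative V
    exact hns (isSolvable_of_normal_of_quotient V)
  obtain ⟨S, hSn, hS1, hSS⟩ := FrobCompl.exists_perfect_normal hNs
  let W : Subgroup G :=
    { carrier := {x | x ∈ V ∧ x ^ q = 1}
      one_mem' := ⟨V.one_mem, one_pow _⟩
      mul_mem' := fun {a b} ha hb => ⟨V.mul_mem ha.1 hb.1, by
        rw [Commute.mul_pow (hcomm a ha.1 b hb.1), ha.2, hb.2, one_mul]⟩
      inv_mem' := fun {a} ha => ⟨V.inv_mem ha.1, by rw [inv_pow, ha.2, inv_one]⟩ }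
  have hW : IsElementaryAbelian q W :=
    ⟨Misc.isMulCommutative_iff'.2 fun a ha b hb => hcomm a ha.1 b hb.1, fun x hx => hx.2⟩
  have hWn : W.Normal := ⟨fun x hx g => ⟨hVn.conj_mem x hx.1 g, by
    rw [conj_pow, hx.2]; simp⟩⟩
  have hNW : N ≤ normalizer (W : Set G) := by rw [normalizer_eq_top]; exact le_top
  let ρ : Representation (ZMod q) S (PLocal.EA hW) := (PLocal.EA.rep hW N hNW).comp S.subtype
  have hperf : commutator S = ⊤ := by
    apply map_injective S.subtype_injective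
    rw [map_subtype_commutator, hSS, ← MonoidHom.range_eq_map, range_subtype]
  have hcore := PPO.core hperf (fun h => hNq (h.trans S.card_subgroup_dvd_card)) hp _ _ ρ rfl
    (fun v => by
      obtain ⟨k, hk⟩ := h v.val v.val_mem.1
      set C := centralizer ({v.val} : Set G)
      have hVC : V ≤ C := fun x hx => mem_centralizer_singleton_iff.2 (hcomm x hx _ v.val_mem.1)
      have h1 : PPO.stab ρ v = (C.subgroupOf N).subgroupOf S := by
        ext d
        exact (PLocal.EA.rep_apply_eq_self_iff hNW (d : N) v).trans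
          mem_centralizer_singleton_iff.symm
      have h2 : C.subgroupOf N = (C.map (QuotientGroup.mk' V)).comap f := by
        rw [← comap_comap, comap_map_eq, QuotientGroup.ker_mk', sup_eq_left.2 hVC]
        rfl
      have h3 : (PPO.stab ρ v).index ∣ p ^ k := by
        rw [h1, ← hk]
        refine (relIndex_normal_dvd_index (C.subgroupOf N) S).trans ?_
        rw [h2, index_comap_of_surjective _ hf]
        exact index_map_dvd _ (QuotientGroup.mk'_surjective V)
      obtain ⟨j, -, hj⟩ := (Nat.dvd_prime_pow hp).1 h3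
      exact ⟨j, hj⟩)
  have hKq : (Nat.card (S.map N.subtype)).Coprime q := by
    rw [card_map_of_injective N.subtype_injective]
    exact ((Nat.Prime.coprime_iff_not_dvd hq.out).2
      fun h => hNq (h.trans S.card_subgroup_dvd_card)).symm
  have hKV : S.map N.subtype ≤ centralizer (V : Set G) := by
    refine Solv.coprime_le_centralizer_of_prime_order _ V
      (by rw [normalizer_eq_top]; exact le_top) (by rw [hn]; exact hKq.pow_right _) ?_
    rintro v hv hvp _ ⟨a, ha, rfl⟩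
    have hvq : v ^ q = 1 := by
      have h1 : orderOf v ∣ q ^ n := hn ▸ V.orderOf_dvd_natCard hv
      have h2 := (Nat.prime_dvd_prime_iff_eq hvp hq.out).1 (hvp.dvd_of_dvd_pow h1)
      rw [← h2, pow_orderOf_eq_one]
    exact ((PLocal.EA.rep_eq_one_iff hNW a).1 (hcore ⟨a, ha⟩) v ⟨hv, hvq⟩).symm
  have hKn : (S.map N.subtype).Normal := by
    rw [← normalizer_eq_top_iff, eq_top_iff, ← hN.sup_eq_top, sup_le_iff]
    exact ⟨(le_centralizer_iff.1 hKV).trans (centralizer_le_normalizer _),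
      PLocal.Amb.le_normalizer_map_subtype S⟩
  have := Grp.le_pPrimeCore hKn hKq
  rw [hO, le_bot_iff, map_eq_bot_iff_of_injective _ N.subtype_injective] at this
  exact hS1 this

/-- Two elements with coprime prime-power indices whose product has prime-power index. -/
theorem pair {x y : G} {p r s a b c : ℕ} [hp : Fact p.Prime] (hr : r.Prime) (hs : s.Prime)
    (hpr : p ≠ r) (hx : (centralizer ({x} : Set G)).index = p ^ a)
    (hy : (centralizer ({y} : Set G)).index = r ^ b)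
    (hxy : (centralizer ({x * y} : Set G)).index = s ^ c) (hlt : r ^ b < p ^ a) (g : G) :
    g * y * g⁻¹ * y⁻¹ ∈ pCore p G := by
  have hcop : (p ^ a).Coprime (r ^ b) := Nat.coprime_pow_primes _ _ hp.out hr hpr
  set X : Set G := {u | IsConj x u} with hX
  have hsub : (fun u => u * y) '' X ⊆ {u | IsConj (x * y) u} := by
    rintro _ ⟨u, hu, rfl⟩
    obtain ⟨h, rfl⟩ := isConj_iff.1 hu
    obtain ⟨d, hd, e, he, rfl⟩ := Grp.exists_mul_of_coprime_index
      (H := centralizer {y}) (K := centralizer {x}) (by rw [hx, hy]; exact hcop.symm) h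
    refine isConj_iff.2 ⟨d, ?_⟩
    rw [mem_centralizer_singleton_iff] at hd he
    calc d * (x * y) * d⁻¹ = d * x * d⁻¹ * (d * y * d⁻¹) := by group
      _ = d * (e * x * e⁻¹) * d⁻¹ * y := by rw [hd, he]; group
      _ = _ := by group
  have hXc : X.ncard = p ^ a := by rw [hX, ncard_setOf_isConj, hx]
  have hIc : ((fun u => u * y) '' X).ncard = p ^ a := by
    rw [Set.ncard_image_of_injective _ (mul_left_injective y), hXc]
  have hge : p ^ a ≤ s ^ c := by
    rw [← hIc, ← hxy, ← ncard_setOf_isConj]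
    exact Set.ncard_le_ncard hsub
  have hdvd : s ^ c ∣ p ^ a * r ^ b := by
    have h1 : centralizer ({x} : Set G) ⊓ centralizer {y} ≤ centralizer {x * y} := by
      intro u hu
      have h1 := mem_centralizer_singleton_iff.1 hu.1
      have h2 := mem_centralizer_singleton_iff.1 hu.2
      rw [mem_centralizer_singleton_iff, ← mul_assoc, h1, mul_assoc, h2, mul_assoc]
    have h2 : p ^ a * r ^ b ∣ (centralizer ({x} : Set G) ⊓ centralizer {y}).index :=
      hcop.mul_dvd_of_dvd_of_dvd (hx ▸ index_dvd_of_le inf_le_left)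
        (hy ▸ index_dvd_of_le inf_le_right)
    have h3 : (centralizer ({x} : Set G) ⊓ centralizer {y}).index ≤ p ^ a * r ^ b :=
      hx ▸ hy ▸ index_inf_le
    have h4 := le_antisymm h3 (Nat.le_of_dvd (Nat.pos_of_ne_zero index_ne_zero_of_finite) h2)
    rw [← h4, ← hxy]
    exact index_dvd_of_le h1
  have hle : s ^ c ≤ p ^ a := by
    by_cases hsp : s = p
    · subst hsp
      exact Nat.le_of_dvd (pow_pos hs.pos _)
        ((Nat.coprime_pow_primes _ _ hs hr hpr).dvd_of_dvd_mul_right hdvd)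
    · have := Nat.le_of_dvd (pow_pos hr.pos _)
        ((Nat.coprime_pow_primes _ _ hs hp.out hsp).dvd_of_dvd_mul_left hdvd)
      omega
  have heq : (fun u => u * y) '' X = {u | IsConj (x * y) u} :=
    Set.eq_of_subset_of_ncard_le hsub (by rw [hIc, ncard_setOf_isConj, hxy]; exact hle)
  have hXn : ∀ u g : G, u ∈ X → g * u * g⁻¹ ∈ X := fun u g hu =>
    IsConj.trans hu (isConj_iff.2 ⟨g, rfl⟩)
  let K : Subgroup G :=
    { carrier := {n | ∀ u, u ∈ X ↔ u * n ∈ X}
      one_mem' := fun u => by rw [mul_one]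
      mul_mem' := fun {m n} hm hn u => by rw [← mul_assoc, ← hn, ← hm]
      inv_mem' := fun {n} hn u => by rw [hn (u * n⁻¹), inv_mul_cancel_right] }
  have hKn : K.Normal := ⟨fun n hn g u => by
    have h1 : ∀ v : G, v ∈ X ↔ g⁻¹ * v * g ∈ X := fun v =>
      ⟨fun h => by simpa using hXn v g⁻¹ h, fun h => by simpa [mul_assoc] using hXn _ g h⟩
    rw [h1 u, hn, h1 (u * _)]
    simp [mul_assoc]⟩
  have hKp : IsPGroup p K := by
    have h1 : X = QuotientGroup.mk ⁻¹' ((QuotientGroup.mk : G → G ⧸ K) '' X) := by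
      ext u
      refine ⟨fun h => ⟨u, h, rfl⟩, ?_⟩
      rintro ⟨v, hv, h⟩
      have := (QuotientGroup.eq.1 h) v
      rw [mul_inv_cancel_left] at this
      exact this.1 hv
    have h2 := QuotientGroup.card_preimage_mk K ((QuotientGroup.mk : G → G ⧸ K) '' X)
    rw [← h1, Nat.card_coe_set_eq, hXc] at h2
    obtain ⟨j, -, hj⟩ := (Nat.dvd_prime_pow hp.out).1 (Dvd.intro _ h2.symm)
    exact IsPGroup.of_card hj
  refine Grp.le_pCore hKn hKp ?_
  have h1 : ∀ u ∈ X, u * (g * y * g⁻¹ * y⁻¹) ∈ X := by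
    intro u hu
    have h2 : g⁻¹ * u * g * y ∈ {u | IsConj (x * y) u} :=
      hsub ⟨_, by simpa using hXn u g⁻¹ hu, rfl⟩
    have h3 : g * (g⁻¹ * u * g * y) * g⁻¹ ∈ {u | IsConj (x * y) u} :=
      IsConj.trans h2 (isConj_iff.2 ⟨g, rfl⟩)
    rw [← heq] at h3
    obtain ⟨v, hv, hv'⟩ := h3
    have : u * (g * y * g⁻¹ * y⁻¹) = v := by
      rw [← mul_inv_cancel_right v y, show v * y = _ from hv']; group
    rwa [this]
  have h2 : (fun u => u * (g * y * g⁻¹ * y⁻¹)) '' X = X :=
    Set.eq_of_subset_of_ncard_le (by rintro _ ⟨u, hu, rfl⟩; exact h1 u hu)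
      (by rw [Set.ncard_image_of_injective _ (mul_left_injective _)])
  intro u
  refine ⟨h1 u, fun h => ?_⟩
  rw [← h2] at h
  obtain ⟨v, hv, hv'⟩ := h
  rwa [← mul_right_cancel hv']

theorem central_of_pair {y : G} {q r s b : ℕ} [hq : Fact q.Prime] [hs : Fact s.Prime]
    (hr : r.Prime) (hsr : s ≠ r) (hsq : s ≠ q) (hyq : ∃ k, y ^ q ^ k = 1)
    (hy : (centralizer ({y} : Set G)).index = r ^ b)
    (h : ∀ g : G, g * y * g⁻¹ * y⁻¹ ∈ pCore s G) : b = 0 := by
  obtain ⟨m, hm⟩ := Grp.card_pCore s G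
  have hc : pCore s G ≤ centralizer ({y} : Set G) := Grp.le_of_coprime_card_index (by
    rw [hm, hy]; exact Nat.coprime_pow_primes _ _ hs.out hr hsr)
  have : centralizer ({y} : Set G) = ⊤ := by
    rw [eq_top_iff]
    intro g _
    obtain ⟨k, hk⟩ := hyq
    have h1 : Commute (g * y * g⁻¹ * y⁻¹) y := mem_centralizer_singleton_iff.1 (hc (h g))
    have h2 := h1.mul_pow (q ^ k)
    rw [inv_mul_cancel_right, conj_pow, hk, mul_one, mul_inv_cancel, mul_one] at h2
    have h3 := orderOf_dvd_of_pow_eq_one h2.symm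
    have h4 := (pCore s G).orderOf_dvd_natCard (h g)
    rw [hm] at h4
    have h5 := Nat.eq_one_of_dvd_coprimes (Nat.coprime_pow_primes _ _ hq.out hs.out hsq.symm) h3 h4
    rw [orderOf_eq_one_iff, mul_inv_eq_one, mul_inv_eq_iff_eq_mul] at h5
    exact mem_centralizer_singleton_iff.2 h5
  rw [this, index_top] at hy
  exact (Nat.pow_eq_one.1 hy.symm).resolve_left hr.one_lt.ne'

theorem exists_normal_compl {q : ℕ} [hq : Fact q.Prime] (Q : Sylow q G)
    [hQ : (Q : Subgroup G).Normal]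
    (h : ∀ x ∈ (Q : Subgroup G), ∀ g : G, g * x * g⁻¹ * x⁻¹ ∈ ⁅(Q : Subgroup G), (Q : Subgroup G)⁆) :
    ∃ N : Subgroup G, N.Normal ∧ N.IsComplement' (Q : Subgroup G) ∧
      N ≤ centralizer ((Q : Subgroup G) : Set G) := by
  obtain ⟨n, hn⟩ := Q.2.exists_card_eq
  obtain ⟨N, hN⟩ := exists_right_complement'_of_coprime (N := (Q : Subgroup G)) Q.card_coprime_index
  have hc : N ≤ centralizer ((Q : Subgroup G) : Set G) := by
    refine Solv.le_centralizer_of_frattini N Q ?_ fun a _ k hk => ?_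
    · refine Nat.Coprime.coprime_dvd_right (card_subgroup_dvd_card _) ?_
      rw [← hN.symm.index_eq_card]
      exact Q.card_coprime_index.symm
    · have := h k hk a
      rw [← map_subtype_commutator] at this
      exact map_mono (Grp.PFrattini.commutator_le_frattini Q.2) this
  refine ⟨N, ?_, hN.symm, hc⟩
  rw [← normalizer_eq_top_iff, eq_top_iff, ← hN.sup_eq_top, sup_le_iff]
  exact ⟨(le_centralizer_iff.1 hc).trans (centralizer_le_normalizer _), le_normalizer⟩

theorem comm_mem_of_index {q : ℕ} [hq : Fact q.Prime] (Q : Sylow q G) {x : G}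
    (hxQ : x ∈ (Q : Subgroup G)) {a : ℕ} (hx : (centralizer ({x} : Set G)).index = q ^ a) (g : G) :
    g * x * g⁻¹ * x⁻¹ ∈ ⁅(Q : Subgroup G), (Q : Subgroup G)⁆ := by
  obtain ⟨u, hu, c, hc, rfl⟩ := exists_sylow_mul_of_index_eq_pow hx Q g
  have h1 : u * c * x * (u * c)⁻¹ * x⁻¹ = u * x * u⁻¹ * x⁻¹ := by
    rw [mul_assoc u c x, mem_centralizer_singleton_iff.1 hc]; group
  rw [h1]
  exact commutator_mem_commutator hu hxQ

omit [Finite G] in
theorem sylow_eq_pCore {q : ℕ} (Q : Sylow q G) (h : ∀ x ∈ (Q : Subgroup G), x ∈ pCore q G) :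
    (Q : Subgroup G) = pCore q G := le_antisymm h (Grp.pCore_le_sylow Q)

/-- One prime serves for all `q`-elements. -/
theorem exists_prime {q : ℕ} [hq : Fact q.Prime]
    (hB : ∀ x : G, (∃ k : ℕ, x ^ q ^ k = 1) →
      ∃ r a : ℕ, r.Prime ∧ (centralizer ({x} : Set G)).index = r ^ a) :
    ∃ p : ℕ, p.Prime ∧ ∀ x : G, (∃ k : ℕ, x ^ q ^ k = 1) →
      ∃ a : ℕ, (centralizer ({x} : Set G)).index = p ^ a := by
  by_cases hA : ∀ x : G, (∃ k : ℕ, x ^ q ^ k = 1) →
      ∃ a : ℕ, (centralizer ({x} : Set G)).index = q ^ a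
  · exact ⟨q, hq.out, hA⟩
  push Not at hA
  obtain ⟨y₀, hy₀, hy₀'⟩ := hA
  obtain ⟨r, b₀, hr, hb₀⟩ := hB y₀ hy₀
  have hrq : r ≠ q := by rintro rfl; exact hy₀' _ hb₀
  have hb₀0 : b₀ ≠ 0 := by rintro rfl; exact hy₀' 0 (by simpa using hb₀)
  obtain ⟨Q⟩ : Nonempty (Sylow q G) := inferInstance
  have hQq : ∀ x ∈ (Q : Subgroup G), ∃ k : ℕ, x ^ q ^ k = 1 := PLocal.Amb.isPGroup_iff.1 Q.2
  have hcj : ∀ x : G, (∃ k : ℕ, x ^ q ^ k = 1) → ∃ g : G, g * x * g⁻¹ ∈ (Q : Subgroup G) := by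
    intro x hx
    obtain ⟨P, hP⟩ := exists_sylow_mem hx
    obtain ⟨g, rfl⟩ := MulAction.exists_smul_eq G P Q
    exact ⟨g, PLocal.Amb.conj_mem_cj g hP⟩
  -- the pair lemma inside `Q`
  have key : ∀ x ∈ (Q : Subgroup G), ∀ y ∈ (Q : Subgroup G), ∀ s t a b : ℕ, s.Prime → t.Prime →
      s ≠ t → t ≠ q → a ≠ 0 → b ≠ 0 → (centralizer ({x} : Set G)).index = s ^ a →
      (centralizer ({y} : Set G)).index = t ^ b →
      s = q ∧ ∀ g : G, g * y * g⁻¹ * y⁻¹ ∈ pCore q G := by
    intro x hx y hy s t a b hs ht hst htq ha hb hxi hyi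
    have := Fact.mk hs
    have := Fact.mk ht
    rcases lt_trichotomy (t ^ b) (s ^ a) with h | h | h
    · obtain ⟨u, c, hu, hc⟩ := hB (x * y) (hQq _ (mul_mem hx hy))
      have h1 := pair ht hu hst hxi hyi hc h
      by_cases hsq : s = q
      · exact ⟨hsq, hsq ▸ h1⟩
      · exact absurd (central_of_pair ht hst hsq (hQq y hy) hyi h1) hb
    · exact absurd ((Nat.prime_dvd_prime_iff_eq hs ht).1
        (hs.dvd_of_dvd_pow (h ▸ dvd_pow_self s ha))) hst
    · obtain ⟨u, c, hu, hc⟩ := hB (y * x) (hQq _ (mul_mem hy hx))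
      exact absurd (central_of_pair hs hst.symm htq (hQq x hx) hxi
        (pair hs hu hst.symm hyi hxi hc h)) ha
  obtain ⟨g₀, hyQ⟩ := hcj y₀ hy₀
  set y := g₀ * y₀ * g₀⁻¹
  have hyi : (centralizer ({y} : Set G)).index = r ^ b₀ := by rw [index_centralizer_conj, hb₀]
  refine ⟨r, hr, fun x₀ hx₀ => ?_⟩
  by_contra hcon
  push Not at hcon
  obtain ⟨s, a, hs, ha⟩ := hB x₀ hx₀
  have hsr : s ≠ r := by rintro rfl; exact hcon _ ha
  have ha0 : a ≠ 0 := by rintro rfl; exact hcon 0 (by simpa using ha)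
  obtain ⟨g₁, hxQ⟩ := hcj x₀ hx₀
  set x := g₁ * x₀ * g₁⁻¹
  have hxi : (centralizer ({x} : Set G)).index = s ^ a := by rw [index_centralizer_conj, ha]
  obtain rfl : s = q := (key x hxQ y hyQ s r a b₀ hs hr hsr hrq ha0 hb₀0 hxi hyi).1
  have hQe : (Q : Subgroup G) = pCore s G := by
    refine sylow_eq_pCore Q fun z hz => ?_
    obtain ⟨t, c, ht, hc⟩ := hB z (hQq z hz)
    by_cases h : t = s ∨ c = 0
    · refine mem_pCore_of_index_centralizer_eq_pow (hQq z hz) (k := if t = s then c else 0) ?_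
      rcases h with rfl | rfl
      · simpa using hc
      · simpa using hc
    push Not at h
    have h1 := (key x hxQ z hz s t a c hs ht h.1.symm h.1 ha0 h.2 hxi hc).2
    have h2 : (zpowers z ⊔ pCore s G).Normal := by
      rw [← normalizer_eq_top_iff, eq_top_iff, PLocal.Amb.le_normalizer_iff_cj]
      intro g _
      rw [PLocal.Amb.cj_sup, PLocal.Amb.cj_of_normal g (pCore s G), MonoidHom.map_zpowers]
      refine sup_le (zpowers_le.2 ?_) le_sup_right
      have : (MulAut.conj g).toMonoidHom z = g * z * g⁻¹ * z⁻¹ * z := by simp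
      rw [this]
      exact mul_mem (mem_sup_right (h1 g)) (mem_sup_left (mem_zpowers z))
    exact Grp.le_pCore h2 (Q.2.to_le (sup_le (zpowers_le.2 hz) (Grp.pCore_le_sylow Q)))
      (mem_sup_left (mem_zpowers z))
  have hQn : (Q : Subgroup G).Normal := hQe ▸ inferInstance
  obtain ⟨n, hn⟩ := Q.2.exists_card_eq
  have hZ : ∀ z ∈ (Q : Subgroup G), ¬ (Q : Subgroup G) ≤ centralizer {z} → ∀ g : G,
      g * z * g⁻¹ * z⁻¹ ∈ ⁅(Q : Subgroup G), (Q : Subgroup G)⁆ := by
    intro z hz hzc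
    obtain ⟨t, c, ht, hc⟩ := hB z (hQq z hz)
    by_cases h : t = s
    · subst h; exact comm_mem_of_index Q hz hc
    · exact absurd (Grp.le_of_coprime_card_index (by
        rw [hn, hc]; exact Nat.coprime_pow_primes _ _ hs ht (Ne.symm h))) hzc
  have hxc : ¬ (Q : Subgroup G) ≤ centralizer {x} := fun h =>
    Q.not_dvd_index ((hxi ▸ dvd_pow_self s ha0).trans (index_dvd_of_le h))
  obtain ⟨N, -, hN, hNc⟩ := exists_normal_compl Q fun z hz g => by
    by_cases h : (Q : Subgroup G) ≤ centralizer {z}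
    · have h1 : ¬ (Q : Subgroup G) ≤ centralizer {x * z} := fun h' => hxc fun u hu => by
        have a1 := mem_centralizer_singleton_iff.1 (h hu)
        have a2 := mem_centralizer_singleton_iff.1 (h' hu)
        rw [mem_centralizer_singleton_iff, ← mul_left_inj z, mul_assoc u, a2, mul_assoc x z,
          mul_assoc x u, a1]
      have h2 := hZ _ (mul_mem hxQ hz) h1 g
      have h3 := hZ _ hxQ hxc g
      have hn' : (⁅(Q : Subgroup G), (Q : Subgroup G)⁆).Normal := inferInstance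
      have h4 := hn'.conj_mem _ (mul_mem (inv_mem h3) h2) x⁻¹
      have : g * z * g⁻¹ * z⁻¹ =
          x⁻¹ * ((g * x * g⁻¹ * x⁻¹)⁻¹ * (g * (x * z) * g⁻¹ * (x * z)⁻¹)) * x⁻¹⁻¹ := by group
      rwa [this]
    · exact hZ z hz h g
  have hyc : (Q : Subgroup G) ≤ centralizer {y} := Grp.le_of_coprime_card_index (by
    rw [hn, hyi]; exact Nat.coprime_pow_primes _ _ hs hr hsr)
  have : centralizer ({y} : Set G) = ⊤ := by
    rw [eq_top_iff, ← hN.sup_eq_top]
    exact sup_le (fun u hu => mem_centralizer_singleton_iff.2 (hNc hu y hyQ).symm) hyc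
  rw [this, index_top] at hyi
  exact hb₀0 ((Nat.pow_eq_one.1 hyi.symm).resolve_left hr.one_lt.ne')

theorem mem_fitting_of_index_eq_pow {p : ℕ} [hp : Fact p.Prime] (hO : pCore p G = ⊥) {x : G}
    {a : ℕ} (hx : (centralizer ({x} : Set G)).index = p ^ a) : x ∈ fittingSubgroup G := by
  have hs : Group.IsSolvable ↥(normalClosure ({x} : Set G)) :=
    S4037.result x hp.out a (by rw [ncard_carrier_mk, hx])
  have hF : fittingSubgroup G ≤ centralizer ({x} : Set G) := by
    refine Grp.le_of_coprime_card_index ?_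
    rw [hx]
    exact (Grp.coprime_of_le_pPrimeCore (Grp.fitting_le_pPrimeCore_of_pCore_eq_bot hO)).pow_right _
  let M : Subgroup G := normalClosure ({x} : Set G) ⊓ centralizer (fittingSubgroup G : Set G)
  have : Group.IsSolvable M := Grp.isSolvable_of_le (inf_le_left : M ≤ _)
  have hMF : M ≤ fittingSubgroup G := Grp.le_fitting_of_le_centralizer_fitting M inf_le_right
  exact hMF ⟨subset_normalClosure rfl, fun y hy => mem_centralizer_singleton_iff.1 (hF hy)⟩

omit [Finite G] in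
theorem index_map_eq_pow {H : Type*} [Group H] (f : G →* H) (hf : Function.Surjective f) {p : ℕ}
    (hp : p.Prime) {x : G} (hx : ∃ a, (centralizer ({x} : Set G)).index = p ^ a) :
    ∃ a, (centralizer ({f x} : Set H)).index = p ^ a := by
  obtain ⟨a, ha⟩ := hx
  have h1 := index_centralizer_map_dvd f hf x
  rw [ha] at h1
  obtain ⟨b, -, hb⟩ := (Nat.dvd_prime_pow hp).1 h1
  exact ⟨b, hb⟩

/-- The case `p ≠ q`. -/
theorem of_ne {q p : ℕ} [hq : Fact q.Prime] [hp : Fact p.Prime] (hpq : p ≠ q) (Q : Sylow q G)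
    (h : ∀ x ∈ (Q : Subgroup G), ∃ a : ℕ, (centralizer ({x} : Set G)).index = p ^ a) :
    IsMulCommutative (Q : Subgroup G) ∧ (pCore p G ⊔ (Q : Subgroup G)).Normal ∧
      Group.IsSolvable (G ⧸ pPrimeCore q G) := by
  let f := QuotientGroup.mk' (pCore p G)
  have hf : Function.Surjective f := QuotientGroup.mk'_surjective _
  have hQe : ((Q.mapSurjective hf : Sylow q _) : Subgroup _) = pCore q (G ⧸ pCore p G) := by
    refine sylow_eq_pCore _ ?_
    rintro _ ⟨x, hx, rfl⟩
    obtain ⟨a, ha⟩ := index_map_eq_pow f hf hp.out (h x hx)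
    have h1 := mem_fitting_of_index_eq_pow (Grp.pCore_quotient_pCore p G) ha
    exact Grp.le_pCore_of_le_fitting ((Q.2.map f).to_le (zpowers_le.2 ⟨x, hx, rfl⟩))
      (zpowers_le.2 h1) (mem_zpowers _)
  have hQe' : (Q : Subgroup G).map f = pCore q (G ⧸ pCore p G) := hQe
  have hn : (pCore p G ⊔ (Q : Subgroup G)).Normal := by
    have : pCore p G ⊔ (Q : Subgroup G) = (pCore q (G ⧸ pCore p G)).comap f := by
      rw [← hQe', comap_map_eq, QuotientGroup.ker_mk', sup_comm]
    rw [this]; infer_instance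
  have hcomm : ∀ x ∈ (Q : Subgroup G), ∀ y ∈ (Q : Subgroup G), x * y = y * x := by
    intro x hx y hy
    obtain ⟨a, ha⟩ := index_map_eq_pow f hf hp.out (h y hy)
    obtain ⟨m, hm⟩ := Grp.card_pCore q (G ⧸ pCore p G)
    have h1 : pCore q (G ⧸ pCore p G) ≤ centralizer {f y} := Grp.le_of_coprime_card_index (by
      rw [hm, ha]; exact Nat.coprime_pow_primes _ _ hq.out hp.out hpq.symm)
    have h2 := mem_centralizer_singleton_iff.1 (h1 (hQe' ▸ mem_map_of_mem f hx))
    have h3 : x * y * (y * x)⁻¹ ∈ pCore p G := by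
      rw [← QuotientGroup.eq_one_iff]
      change f _ = 1
      rw [map_mul, map_inv, map_mul, map_mul, h2, mul_inv_cancel]
    have h4 : (Q : Subgroup G) ⊓ pCore p G = ⊥ := Grp.inf_eq_bot_of_isPGroup_of_coprime Q.2
      (Grp.coprime_card_of_isPGroup_of_ne hpq (Grp.pCore_isPGroup p G))
    have h5 : x * y * (y * x)⁻¹ ∈ (Q : Subgroup G) ⊓ pCore p G :=
      ⟨Q.1.mul_mem (Q.1.mul_mem hx hy) (Q.1.inv_mem (Q.1.mul_mem hy hx)), h3⟩
    rwa [h4, mem_bot, mul_inv_eq_one] at h5
  refine ⟨Misc.isMulCommutative_iff'.2 hcomm, hn, ?_⟩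
  let π := QuotientGroup.mk' (pPrimeCore q G)
  have hπ : Function.Surjective π := QuotientGroup.mk'_surjective _
  have hVn : ((Q : Subgroup G).map π).Normal := by
    have : (Q : Subgroup G).map π = (pCore p G ⊔ (Q : Subgroup G)).map π := by
      rw [Subgroup.map_sup, (Subgroup.map_eq_bot_iff (pCore p G)).2 (by
        rw [QuotientGroup.ker_mk']; exact Grp.pCore_le_pPrimeCore_of_ne hpq), bot_sup_eq]
    rw [this]
    exact hn.map π hπ
  have : IsMulCommutative ((Q : Subgroup G).map π) := Misc.isMulCommutative_iff'.2 (by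
    rintro _ ⟨x, hx, rfl⟩ _ ⟨y, hy, rfl⟩
    rw [← map_mul, ← map_mul, hcomm x hx y hy])
  refine isSolvable_of_abelian_sylow hp.out (V := (Q : Subgroup G).map π) (Q.2.map π)
    (fun h => Q.not_dvd_index (h.trans (index_map_dvd _ hπ)))
    (Grp.pPrimeCore_quotient_pPrimeCore q G) ?_
  rintro _ ⟨x, hx, rfl⟩
  exact index_map_eq_pow π hπ hp.out (h x hx)

/-- The case `p = q`. -/
theorem of_eq {q : ℕ} [hq : Fact q.Prime] (Q : Sylow q G)
    (h : ∀ x ∈ (Q : Subgroup G), ∃ a : ℕ, (centralizer ({x} : Set G)).index = q ^ a) :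
    (Q : Subgroup G).Normal ∧ ∃ N : Subgroup G, N.Normal ∧ N.IsComplement' (Q : Subgroup G) := by
  have hQe : (Q : Subgroup G) = pCore q G := sylow_eq_pCore Q fun x hx => by
    obtain ⟨a, ha⟩ := h x hx
    exact mem_pCore_of_index_centralizer_eq_pow (PLocal.Amb.isPGroup_iff.1 Q.2 x hx) ha
  have hQn : (Q : Subgroup G).Normal := hQe ▸ inferInstance
  obtain ⟨N, h1, h2, -⟩ := exists_normal_compl Q fun x hx g => by
    obtain ⟨a, ha⟩ := h x hx
    exact comm_mem_of_index Q hx ha g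
  exact ⟨hQn, N, h1, h2⟩

end Cfsg.Agent.FGS.QBaer
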