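import Mathlib
import Cfsg.Agent.Grp.CommPow

/-! A Chevalley–Warning type statement for "quadratic" maps from a finite 2-group to an elementary abelian
2-group, proved by character sums. -/

set_option autoImplicit false

namespace Cfsg.Agent.FGS

open scoped commutatorElement

theorem exists_ne_one_quad_zero {V M : Type*} [Group V] [Finite V] [CommGroup M] [Finite M]
    (hV : IsPGroup 2 V) (hM : ∀ m : M, m ^ 2 = 1) (s : V → M) (hs1 : s 1 = 1)
    (hs : ∀ y, ∃ β : V →* M, ∀ x, s (y * x) = s y * s x * β x)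
    (hlt : Nat.card M ^ 2 < Nat.card V) : ∃ x : V, x ≠ 1 ∧ s x = 1 := by
  classical
  have h2 : HasEnoughRootsOfUnity ℤ 2 := ⟨⟨-1, IsPrimitiveRoot.neg_one 0 (by norm_num)⟩, inferInstance⟩
  have h3 : HasEnoughRootsOfUnity ℤ (Monoid.exponent M) :=
    HasEnoughRootsOfUnity.of_dvd ℤ (Monoid.exponent_dvd_of_forall_pow_eq_one hM)
  have hcard := CommGroup.card_monoidHom_of_hasEnoughRootsOfUnity M ℤ
  have hfin : Finite (M →* ℤˣ) := Nat.finite_of_card_ne_zero (by rw [hcard]; exact Nat.card_pos.ne')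
  have := Fintype.ofFinite V
  have := Fintype.ofFinite (M →* ℤˣ)
  obtain ⟨d, hd⟩ := hV.exists_card_eq
  obtain ⟨n, hn⟩ := (show IsPGroup 2 M from fun m => ⟨1, by rw [pow_one, hM]⟩).exists_card_eq
  rw [hd, hn, ← pow_mul, Nat.pow_lt_pow_iff_right (by norm_num)] at hlt
  have hS : ∀ l : M →* ℤˣ, (2 : ℤ) ^ (n + 1) ∣ ∑ x, (l (s x) : ℤ) := by
    intro l
    have h4 : (Nat.card V : ℤ) ∣ (∑ x, (l (s x) : ℤ)) ^ 2 := by
      have h5 : (∑ x, (l (s x) : ℤ)) ^ 2 = ∑ y, ∑ x, (l (s x) : ℤ) * l (s (y * x)) := by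
        rw [sq, Finset.sum_mul, Finset.sum_comm]
        refine Finset.sum_congr rfl fun x _ => ?_
        rw [Finset.mul_sum]
        exact (Fintype.sum_equiv (Equiv.mulRight x) _ _ fun y => rfl).symm
      rw [h5]
      refine Finset.dvd_sum fun y _ => ?_
      obtain ⟨β, hβ⟩ := hs y
      have h6 : ∀ x, (l (s x) : ℤ) * l (s (y * x)) =
          l (s y) * ((Units.coeHom ℤ).comp (l.comp β)) x := by
        intro x
        have h7 : (l (s x) : ℤ) * l (s x) = 1 := by
          rw [← Units.val_mul, ← map_mul, ← sq, hM, map_one, Units.val_one]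
        simp only [hβ, map_mul, Units.val_mul, MonoidHom.comp_apply, Units.coeHom_apply]
        linear_combination (l (s y) : ℤ) * (l (β x) : ℤ) * h7
      simp only [h6]
      rw [← Finset.mul_sum, sum_hom_units]
      split_ifs
      · rw [Nat.card_eq_fintype_card]; exact Dvd.intro_left _ rfl
      · simp
    rw [hd] at h4
    have h8 : (2 : ℤ) ^ (2 * n + 1) ∣ (∑ x, (l (s x) : ℤ)) ^ 2 :=
      Dvd.dvd.trans (by push_cast; exact pow_dvd_pow _ (by omega)) h4
    have h9 : (2 : ℤ) ^ n ∣ ∑ x, (l (s x) : ℤ) := by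
      rw [← Int.pow_dvd_pow_iff (two_ne_zero), ← pow_mul]
      exact Dvd.dvd.trans (pow_dvd_pow _ (by omega)) h8
    obtain ⟨m, hm⟩ := h9
    rw [hm, mul_pow, ← pow_mul, pow_succ, mul_comm 2 n,
      mul_dvd_mul_iff_left (by positivity)] at h8
    rw [hm, pow_succ]
    exact mul_dvd_mul_left _ (Int.prime_two.dvd_of_dvd_pow h8)
  by_contra hne
  push Not at hne
  have h10 : ∑ l : M →* ℤˣ, ∑ x, (l (s x) : ℤ) = 2 ^ n := by
    rw [Finset.sum_comm, Finset.sum_eq_single (1 : V)]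
    · simp only [hs1, map_one, Units.val_one, Finset.sum_const, Finset.card_univ, nsmul_eq_mul,
        mul_one]
      rw [← Nat.card_eq_fintype_card, hcard, hn]
      push_cast
      rfl
    · intro x _ hx
      obtain ⟨l, hl⟩ := CommGroup.exists_apply_ne_one_of_hasEnoughRootsOfUnity M ℤ (hne x hx)
      refine sum_hom_units_eq_zero ((Units.coeHom ℤ).comp (MonoidHom.eval (s x))) fun h => hl ?_
      have := DFunLike.congr_fun h l
      simpa using this
    · simp
  have h11 : (2 : ℤ) ^ (n + 1) ∣ 2 ^ n := h10 ▸ Finset.dvd_sum fun l _ => hS l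
  rw [pow_dvd_pow_iff (by norm_num) (by norm_num [Int.isUnit_iff])] at h11
  omega

/-- Squaring in a section of a 2-group of class two. -/
theorem exists_sq_mem {G : Type*} [Group G] [Finite G] (hG : IsPGroup 2 G)
    (hc : ∀ x y z : G, Commute ⁅x, y⁆ z) {H K D M : Subgroup G}
    (hM : M ≤ Subgroup.center G) (hM2 : ∀ m ∈ M, m ^ 2 = 1) (hH : ∀ x ∈ H, x ^ 2 ∈ M)
    (hKn : (K.subgroupOf H).Normal) (hK : ∀ k ∈ K, k ^ 2 ∈ D) (hK' : ∀ k ∈ K, ∀ x ∈ H, ⁅k, x⁆ ∈ D)
    (hlt : D.relIndex M ^ 2 < K.relIndex H) : ∃ x ∈ H, x ∉ K ∧ x ^ 2 ∈ D := by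
  have hsq : ∀ x y : G, (y * x) ^ 2 = y ^ 2 * x ^ 2 * ⁅x, y⁆ := fun x y => by
    simpa using Grp.CommPow.mul_pow_of_commute (hc x y y) (hc x y x) 2
  have hcm : ∀ x ∈ H, ∀ y ∈ H, ⁅x, y⁆ ∈ M := fun x hx y hy => by
    have h1 := hH _ (H.mul_mem hy hx)
    rw [hsq] at h1
    exact (M.mul_mem_cancel_left (M.mul_mem (hH y hy) (hH x hx))).1 h1
  letI : CommGroup M := { (inferInstance : Group M) with
    mul_comm := fun a b => Subtype.ext (Subgroup.mem_center_iff.1 (hM b.2) a) }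
  let π := QuotientGroup.mk' (D.subgroupOf M)
  have hπ : ∀ m : M, π m = 1 ↔ (m : G) ∈ D := fun m => QuotientGroup.eq_one_iff m
  let s₀ : H → M ⧸ D.subgroupOf M := fun x => π ⟨(x : G) ^ 2, hH x x.2⟩
  let β : H → H →* M ⧸ D.subgroupOf M := fun y =>
    π.comp (MonoidHom.mk' (fun x : H => (⟨⁅(x : G), (y : G)⁆, hcm x x.2 y y.2⟩ : M)) fun a b =>
      Subtype.ext (Grp.CommPow.commutator_mul_left (hc _ _ _) (hc _ _ _)))
  have hs₀ : ∀ y x : H, s₀ (y * x) = s₀ y * s₀ x * β y x := fun y x => by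
    simp only [s₀, β, MonoidHom.comp_apply, ← map_mul]
    congr 1
    exact Subtype.ext (hsq x y)
  have hβ : ∀ y : H, ∀ k ∈ K.subgroupOf H, β y k = 1 := fun y k hk => (hπ _).2 (hK' k hk y y.2)
  have hs₁ : ∀ y k : H, k ∈ K.subgroupOf H → s₀ (y * k) = s₀ y := fun y k hk => by
    rw [hs₀, hβ y k hk, show s₀ k = 1 from (hπ _).2 (hK k hk), mul_one, mul_one]
  let s : H ⧸ K.subgroupOf H → M ⧸ D.subgroupOf M := fun v => s₀ v.out
  have hs : ∀ x : H, s x = s₀ x := fun x => by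
    obtain ⟨k, hk⟩ := QuotientGroup.mk_out_eq_mul (K.subgroupOf H) x
    simp only [s]
    rw [hk, hs₁ x k k.2]
  obtain ⟨v, hv1, hv⟩ := exists_ne_one_quad_zero ((hG.to_subgroup H).to_quotient (K.subgroupOf H))
    (M := M ⧸ D.subgroupOf M) (fun m => by
      induction m using QuotientGroup.induction_on with
      | H m =>
        rw [← QuotientGroup.mk_pow, show m ^ 2 = 1 from Subtype.ext (hM2 m m.2),
          QuotientGroup.mk_one]) s
    (by rw [← QuotientGroup.mk_one, hs]; exact (hπ _).2 (by simp)) (fun y => by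
      induction y using QuotientGroup.induction_on with
      | H y =>
        refine ⟨QuotientGroup.lift _ (β y) (hβ y), fun x => ?_⟩
        induction x using QuotientGroup.induction_on with
        | H x => rw [← QuotientGroup.mk_mul, hs, hs, hs, hs₀]; rfl) hlt
  induction v using QuotientGroup.induction_on with
  | H x =>
    rw [hs] at hv
    exact ⟨x, x.2, fun h => hv1 ((QuotientGroup.eq_one_iff x).2 h), (hπ _).1 hv⟩

end Cfsg.Agent.FGS
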