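import Mathlib
import Cfsg.Agent.FGS.FrobeniusCount
import Cfsg.Agent.FGS.ClassSize

/-! Same-order classes: `s G m` is the number of elements of order `m`; congruences from
Frobenius' theorem on the solutions of `x ^ d = 1`. -/

set_option autoImplicit false

namespace Cfsg.Agent.FGS.SO

open Subgroup

/-- the number of elements of order `m` -/
noncomputable def s (G : Type*) [Group G] (m : ℕ) : ℕ := Nat.card {g : G // orderOf g = m}

variable {G : Type*} [Group G] [Finite G]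

omit [Finite G] in
theorem s_one : s G 1 = 1 :=
  Nat.card_eq_one_iff_exists.2 ⟨⟨1, orderOf_one⟩, fun g => Subtype.ext (orderOf_eq_one_iff.1 g.2)⟩

theorem s_eq_zero_iff {m : ℕ} : s G m = 0 ↔ ∀ g : G, orderOf g ≠ m := by
  rw [s, Finite.card_eq_zero_iff, isEmpty_subtype]

theorem s_ne_zero (g : G) : s G (orderOf g) ≠ 0 := fun h => s_eq_zero_iff.1 h g rfl

theorem exists_of_s_ne_zero {m : ℕ} (h : s G m ≠ 0) : ∃ g : G, orderOf g = m := by
  simpa [s_eq_zero_iff] using h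

theorem s_ne_zero_of_prime {p : ℕ} (hp : p.Prime) (h : p ∣ Nat.card G) : s G p ≠ 0 := by
  haveI := Fact.mk hp
  obtain ⟨g, rfl⟩ := exists_prime_orderOf_dvd_card' p h
  exact s_ne_zero g

theorem not_dvd_orderOf {m : ℕ} (h : s G m = 0) (g : G) : ¬ m ∣ orderOf g := fun hd =>
  s_eq_zero_iff.1 h _ (orderOf_pow_orderOf_div (orderOf_pos g).ne' hd)

theorem totient_dvd (m : ℕ) : m.totient ∣ s G m := by
  classical
  refine FrobCount.dvd_card_of_fibers (fun g : {g : G // orderOf g = m} => zpowers g.1) fun g => ?_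
  haveI := Fintype.ofFinite (zpowers g.1)
  have h1 := IsCyclic.card_orderOf_eq_totient (α := zpowers g.1) (d := m)
    (by rw [← Nat.card_eq_fintype_card, Nat.card_zpowers, g.2])
  rw [← h1, ← Fintype.card_subtype, ← Nat.card_eq_fintype_card]
  refine (Nat.card_congr ⟨fun a => ⟨⟨a.1, by rw [orderOf_coe, a.2]⟩, eq_of_le_of_card_ge
    (zpowers_le.2 a.1.2) (by rw [Nat.card_zpowers, Nat.card_zpowers, g.2, orderOf_coe, a.2])⟩,
    fun x => ⟨⟨x.1, x.2.le (mem_zpowers _)⟩, by rw [← orderOf_coe, x.1.2]⟩,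
    fun _ => rfl, fun _ => rfl⟩).dvd

theorem eq_of_s_eq_one {m : ℕ} (h : s G m = 1) : m = 1 ∨ m = 2 :=
  Nat.totient_eq_one_iff.1 (Nat.dvd_one.1 (h ▸ totient_dvd m))

theorem even_s {m : ℕ} (h : 2 < m) : 2 ∣ s G m :=
  (Nat.totient_even h).two_dvd.trans (totient_dvd m)

theorem dvd_s_of_sq_dvd {p m : ℕ} (hp : p.Prime) (h : p * p ∣ m) : p ∣ s G m := by
  refine Dvd.dvd.trans ?_ ((Nat.totient_dvd_of_dvd h).trans (totient_dvd m))
  rw [Nat.totient_mul_of_prime_of_dvd hp dvd_rfl]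
  exact dvd_mul_right _ _

theorem four_dvd_s {a b : ℕ} (ha : 2 < a) (hb : 2 < b) (h : a.Coprime b) {m : ℕ} (hm : a * b ∣ m) :
    4 ∣ s G m := by
  refine Dvd.dvd.trans ?_ ((Nat.totient_dvd_of_dvd hm).trans (totient_dvd m))
  rw [Nat.totient_mul h]
  exact mul_dvd_mul (Nat.totient_even ha).two_dvd (Nat.totient_even hb).two_dvd

theorem card_pow_eq {d : ℕ} (hd : d ≠ 0) :
    Nat.card {x : G // x ^ d = 1} = ∑ k ∈ d.divisors, s G k := by
  classical
  haveI := Fintype.ofFinite G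
  simp only [s, Nat.card_eq_fintype_card, Fintype.card_subtype]
  rw [Finset.card_eq_sum_card_fiberwise (f := orderOf) (t := d.divisors) fun x hx =>
    Nat.mem_divisors.2 ⟨orderOf_dvd_of_pow_eq_one (Finset.mem_filter.1 hx).2, hd⟩]
  refine Finset.sum_congr rfl fun k hk => congrArg _ ?_
  ext x
  simp only [Finset.mem_filter, Finset.mem_univ, true_and, and_iff_right_iff_imp]
  rintro rfl
  exact orderOf_dvd_iff_pow_eq_one.1 (Nat.dvd_of_mem_divisors hk)

theorem sum_le_card {d : ℕ} (hd : d ≠ 0) : ∑ k ∈ d.divisors, s G k ≤ Nat.card G :=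
  card_pow_eq (G := G) hd ▸ Finite.card_subtype_le _

theorem sum_eq_card {d : ℕ} (hd : d ≠ 0) (h : ∀ x : G, x ^ d = 1) :
    ∑ k ∈ d.divisors, s G k = Nat.card G :=
  card_pow_eq (G := G) hd ▸ Nat.card_congr (Equiv.subtypeUnivEquiv h)

theorem dvd_sum {d : ℕ} (hd : d ∣ Nat.card G) : d ∣ ∑ k ∈ d.divisors, s G k :=
  card_pow_eq (G := G) (ne_zero_of_dvd_ne_zero Nat.card_pos.ne' hd) ▸
    FrobCount.dvd_card_pow_eq_one hd

theorem sum_mul (f : ℕ → ℕ) {m n : ℕ} (h : m.Coprime n) :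
    ∑ k ∈ (m * n).divisors, f k = ∑ i ∈ m.divisors, ∑ j ∈ n.divisors, f (i * j) := by
  rw [h.divisors_mul, Finset.sum_map, ← Finset.sum_product']
  exact Finset.sum_attach (m.divisors ×ˢ n.divisors) fun p => f (p.1 * p.2)

theorem sum_sq (f : ℕ → ℕ) {p : ℕ} (hp : p.Prime) :
    ∑ k ∈ (p * p).divisors, f k = f 1 + f p + f (p * p) := by
  rw [← sq, Nat.sum_divisors_prime_pow hp]
  simp [Finset.sum_range_succ]

theorem sum_pq (f : ℕ → ℕ) {p q : ℕ} (hp : p.Prime) (hq : q.Prime) (h : p ≠ q) :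
    ∑ k ∈ (p * q).divisors, f k = f 1 + f p + f q + f (p * q) := by
  rw [sum_mul f ((Nat.coprime_primes hp hq).2 h)]
  simp only [hp.sum_divisors, hq.sum_divisors, one_mul, mul_one]
  omega

theorem zsum {r d : ℕ} (hr : r ∣ d) (hd : d ∣ Nat.card G) :
    ((∑ k ∈ d.divisors, s G k : ℕ) : ZMod r) = 0 :=
  (ZMod.natCast_eq_zero_iff _ _).2 (hr.trans (dvd_sum hd))

theorem e_p {p : ℕ} (hp : p.Prime) (h : p ∣ Nat.card G) : (s G p : ZMod p) = -1 := by
  have := zsum dvd_rfl h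
  rw [hp.sum_divisors, s_one] at this
  push_cast at this
  linear_combination this

theorem e_sq {p : ℕ} (hp : p.Prime) (m : ℕ) : (s G (p * p * m) : ZMod p) = 0 :=
  (ZMod.natCast_eq_zero_iff _ _).2 (dvd_s_of_sq_dvd hp (dvd_mul_right _ _))

theorem e_pq {p q : ℕ} (hp : p.Prime) (hq : q.Prime) (h : p ≠ q) (h1 : p ∣ Nat.card G)
    (h2 : q ∣ Nat.card G) : (s G q + s G (p * q) : ZMod p) = 0 := by
  have := zsum (dvd_mul_right p q) (((Nat.coprime_primes hp hq).2 h).mul_dvd_of_dvd_of_dvd h1 h2)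
  rw [sum_pq _ hp hq h, s_one] at this
  push_cast at this
  linear_combination this - e_p hp h1

theorem e_mul {p a b : ℕ} (hp : p.Prime) (ha : ∀ f : ℕ → ℕ, ∑ k ∈ a.divisors, f k = f 1 + f b + f a)
    (h : p.Coprime a) (h1 : p ∣ Nat.card G) (h2 : a ∣ Nat.card G) :
    (s G b + s G (p * b) + s G a + s G (p * a) : ZMod p) = 0 := by
  have := zsum (dvd_mul_right p a) (h.mul_dvd_of_dvd_of_dvd h1 h2)
  rw [sum_mul _ h] at this
  simp only [hp.sum_divisors, ha, one_mul, mul_one, s_one] at this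
  push_cast at this
  linear_combination this - e_p hp h1

theorem e_pqr {p q r : ℕ} (hp : p.Prime) (hq : q.Prime) (hr : r.Prime) (h : p ≠ q) (h' : p ≠ r)
    (h'' : q ≠ r) (h1 : p ∣ Nat.card G) (h2 : q ∣ Nat.card G) (h3 : r ∣ Nat.card G) :
    (s G (q * r) + s G (p * (q * r)) : ZMod p) = 0 := by
  have hc := ((Nat.coprime_primes hp hq).2 h).mul_right ((Nat.coprime_primes hp hr).2 h')
  have := zsum (dvd_mul_right p (q * r)) (hc.mul_dvd_of_dvd_of_dvd h1
    (((Nat.coprime_primes hq hr).2 h'').mul_dvd_of_dvd_of_dvd h2 h3))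
  rw [sum_mul _ hc] at this
  simp only [hp.sum_divisors, sum_pq _ hq hr h'', one_mul, mul_one, s_one] at this
  push_cast at this
  linear_combination this - e_p hp h1 - e_pq hp hq h h1 h2 - e_pq hp hr h' h1 h3

theorem two_ne_zero' {p : ℕ} (hp : p.Prime) (h : p ≠ 2) : (2 : ZMod p) ≠ 0 := fun h2 =>
  h ((Nat.prime_dvd_prime_iff_eq hp Nat.prime_two).1 ((ZMod.natCast_eq_zero_iff 2 p).1 h2))

theorem dvd_s_of_index {d m : ℕ} (h : ∀ g : G, orderOf g = m → d ∣ (centralizer {g}).index) :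
    d ∣ s G m := by
  refine FrobCount.dvd_card_of_fibers
    (fun g : {g : G // orderOf g = m} => ConjClasses.mk g.1) fun g => ?_
  refine (h g g.2).trans (Eq.dvd ?_)
  rw [← ncard_setOf_isConj, ← Nat.card_coe_set_eq]
  exact Nat.card_congr ⟨fun a => ⟨⟨a.1, by
    obtain ⟨c, hc⟩ := a.2; exact (SemiconjBy.orderOf_eq _ hc).symm.trans g.2⟩,
    ConjClasses.mk_eq_mk_iff_isConj.2 a.2.symm⟩,
    fun x => ⟨x.1, (ConjClasses.mk_eq_mk_iff_isConj.1 x.2).symm⟩, fun _ => rfl, fun _ => rfl⟩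

/-- if the `p`-elements have order `p`, then `|G|_p` divides `1 + s p` -/
theorem pow_dvd {p k : ℕ} (hp : p.Prime) (h : s G (p * p) = 0) (hk : p ^ k ∣ Nat.card G) :
    p ^ k ∣ 1 + s G p := by
  rcases k with _ | k
  · simp
  have h1 := FrobCount.dvd_card_pow_eq_one hk
  have h2 : Nat.card {x : G // x ^ p ^ (k + 1) = 1} = Nat.card {x : G // x ^ p = 1} := by
    refine Nat.card_congr (Equiv.subtypeEquivRight fun x => ⟨fun hx => ?_, fun hx => ?_⟩)
    · obtain ⟨j, -, hj⟩ := (Nat.dvd_prime_pow hp).1 (orderOf_dvd_of_pow_eq_one hx)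
      have := not_dvd_orderOf h x
      rw [hj, ← sq, Nat.pow_dvd_pow_iff_le_right hp.one_lt] at this
      exact orderOf_dvd_iff_pow_eq_one.1 (hj ▸ (pow_dvd_pow p (by omega)).trans (pow_one p).dvd)
    · rw [pow_succ', pow_mul, hx, one_pow]
  rwa [h2, card_pow_eq hp.ne_zero, hp.sum_divisors, s_one, add_comm (s G p)] at h1

/-- two primes, one of them odd, cannot have the same count if there is only one value -/
theorem not_two {p q n : ℕ} (hp : p.Prime) (hq : q.Prime) (h : p ≠ q) (h2 : p ≠ 2)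
    (h1 : p ∣ Nat.card G) (h3 : q ∣ Nat.card G) (e1 : s G p = n) (e2 : s G q = n)
    (e3 : s G (p * q) = 0 ∨ s G (p * q) = n) : False := by
  haveI := Fact.mk hp
  have a1 := e_p hp h1
  have a2 := e_pq hp hq h h1 h3
  rw [e1] at a1
  rcases e3 with e3 | e3 <;> rw [e2, e3] at a2
  · exact one_ne_zero (α := ZMod p) (by linear_combination a1 - a2 + Nat.cast_zero (R := ZMod p))
  · exact two_ne_zero' hp h2 (by linear_combination 2 * a1 - a2)

theorem pow_eq_one_of_const [Nontrivial G] {n : ℕ} (h : ∀ k, k ≠ 1 → s G k = 0 ∨ s G k = n) :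
    ∃ p : ℕ, p.Prime ∧ ∀ g : G, g ^ p = 1 := by
  obtain ⟨p, hp, hd⟩ := Nat.exists_prime_and_dvd (Finite.one_lt_card (α := G)).ne'
  have h1 : ∀ q : ℕ, q.Prime → q ∣ Nat.card G → s G q = n := fun q hq hd =>
    (h q hq.ne_one).resolve_left (s_ne_zero_of_prime hq hd)
  have h2 : ∀ q : ℕ, q.Prime → q ∣ Nat.card G → q = p := by
    intro q hq hd'
    by_contra hc
    have hne : ∀ a b : ℕ, a.Prime → a * b ≠ 1 := fun a b ha h => ha.ne_one (Nat.eq_one_of_mul_eq_one_right h)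
    by_cases hp2 : p = 2
    · exact not_two hq hp hc (hp2 ▸ hc) hd' hd (h1 q hq hd') (h1 p hp hd) (h _ (hne _ _ hq))
    · exact not_two hp hq (Ne.symm hc) hp2 hd hd' (h1 p hp hd) (h1 q hq hd') (h _ (hne _ _ hp))
  have h3 : s G (p * p) = 0 := by
    refine (h _ fun h => hp.ne_one (Nat.eq_one_of_mul_eq_one_right h)).resolve_right fun h3 => ?_
    haveI := Fact.mk hp
    have a1 := e_p hp hd
    have a2 := e_sq (G := G) hp 1
    rw [mul_one, h3, ← h1 p hp hd, a1] at a2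
    exact one_ne_zero (neg_eq_zero.1 a2)
  refine ⟨p, hp, fun g => ?_⟩
  obtain ⟨k, hk⟩ : ∃ k, orderOf g = p ^ k := ⟨_, Nat.eq_prime_pow_of_unique_prime_dvd
    (orderOf_pos g).ne' fun hq hd => h2 _ hq (hd.trans (orderOf_dvd_natCard g))⟩
  have := not_dvd_orderOf h3 g
  rw [hk, ← sq, Nat.pow_dvd_pow_iff_le_right hp.one_lt] at this
  exact orderOf_dvd_iff_pow_eq_one.1 (hk ▸ (pow_dvd_pow p (by omega)).trans (pow_one p).dvd)

/-- extracting the values from the set of counts -/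
theorem of_image {T : Set ℕ} (h : (fun m : ℕ => Nat.card {g : G // orderOf g = m}) ''
    Set.range (orderOf : G → ℕ) = T) (k : ℕ) : s G k = 0 ∨ s G k ∈ T := by
  rw [or_iff_not_imp_left]
  intro hk
  obtain ⟨g, rfl⟩ := exists_of_s_ne_zero hk
  exact h ▸ ⟨_, ⟨g, rfl⟩, rfl⟩

theorem of_ncard_three (h : ((fun m : ℕ => Nat.card {g : G // orderOf g = m}) ''
    Set.range (orderOf : G → ℕ)).ncard = 3) :
    ∃ m n : ℕ, ∀ k, s G k = 0 ∨ s G k = 1 ∨ s G k = m ∨ s G k = n := by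
  obtain ⟨a, b, c, -, -, -, h⟩ := Set.ncard_eq_three.1 h
  have h1 := of_image h
  have h2 := h1 1
  simp only [Set.mem_insert_iff, Set.mem_singleton_iff, s_one] at h1 h2
  rcases h2 with h2 | rfl | rfl | rfl
  · omega
  · exact ⟨b, c, h1⟩
  · exact ⟨a, c, fun k => by have := h1 k; tauto⟩
  · exact ⟨a, b, fun k => by have := h1 k; tauto⟩

end Cfsg.Agent.FGS.SO
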