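import Mathlib

/-! The field `F_p(ζ)`, `ζ` of prime order `q`, and its `ζ`-invariant alternating forms. -/

set_option autoImplicit false

namespace Cfsg.Agent.SchU

universe u

/-- `F = F_p[ζ]` with `ζ` of order `q`. -/
structure Gen (p q : ℕ) {F : Type*} [Field F] (ζ : F) : Prop where
  char : CharP F p
  ord : orderOf ζ = q
  gen : Subring.closure {ζ} = ⊤

variable {p q : ℕ} [hp : Fact p.Prime] [hq : Fact q.Prime] {F : Type*} [Field F] {ζ : F}

namespace Gen

variable (h : Gen p q ζ)
include h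

omit hp hq in
theorem all {S : Subring F} (hS : ζ ∈ S) (x : F) : x ∈ S :=
  (Subring.closure_le.2 (Set.singleton_subset_iff.2 hS)) (h.gen ▸ Subring.mem_top x)

omit hp hq in
theorem irr (W : AddSubgroup F) (hW : ∀ w ∈ W, ζ * w ∈ W) : W = ⊥ ∨ W = ⊤ := by
  let S : Subring F :=
    { carrier := {x | ∀ w ∈ W, x * w ∈ W}
      mul_mem' := fun {a b} ha hb w hw => by rw [mul_assoc]; exact ha _ (hb w hw)
      one_mem' := fun w hw => by rwa [one_mul]
      add_mem' := fun {a b} ha hb w hw => by rw [add_mul]; exact W.add_mem (ha w hw) (hb w hw)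
      zero_mem' := fun w _ => by rw [zero_mul]; exact W.zero_mem
      neg_mem' := fun {a} ha w hw => by rw [neg_mul]; exact W.neg_mem (ha w hw) }
  by_cases h0 : W = ⊥
  · exact Or.inl h0
  · obtain ⟨⟨w, hw⟩, hw0⟩ := AddSubgroup.ne_bot_iff_exists_ne_zero.1 h0
    have hw0' : w ≠ 0 := fun e => hw0 (Subtype.ext e)
    refine Or.inr (eq_top_iff.2 fun y _ => ?_)
    have := h.all (S := S) hW (y / w) w hw
    rwa [div_mul_cancel₀ _ hw0'] at this

omit hp in
theorem ne_zero : ζ ≠ 0 := by
  rintro rfl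
  have := h.ord
  rw [orderOf_zero] at this
  exact hq.out.ne_zero this.symm

omit hp in
theorem ne_one : ζ ≠ 1 := by
  rintro rfl
  have := h.ord
  rw [orderOf_one] at this
  exact hq.out.ne_one this.symm

omit hp in
theorem pow_eq_iff (i : ℕ) : ζ ^ p ^ i = ζ ↔ orderOf (p : ZMod q) ∣ i := by
  have : ζ ^ p ^ i = ζ ^ 1 ↔ p ^ i ≡ 1 [MOD q] := by
    have e : ζ = (Units.mk0 ζ h.ne_zero : Fˣ) := rfl
    have o : orderOf (Units.mk0 ζ h.ne_zero) = q := by rw [← orderOf_units]; exact h.ord
    rw [← o, ← pow_eq_pow_iff_modEq, Units.ext_iff]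
    simp
  rw [pow_one] at this
  rw [this, orderOf_dvd_iff_pow_eq_one, ← ZMod.natCast_eq_natCast_iff]
  simp

omit hp hq in
theorem hom_ext {K : Type*} [Ring K] {f g : F →+* K} (e : f ζ = g ζ) : f = g :=
  RingHom.eq_of_eqOn_set_dense h.gen (by rintro _ rfl; exact e)

theorem frob_eq (x : F) : x ^ p ^ orderOf (p : ZMod q) = x := by
  haveI := h.char
  haveI : ExpChar F p := ExpChar.prime hp.out
  have := h.hom_ext (f := iterateFrobenius F p (orderOf (p : ZMod q))) (g := RingHom.id F)
    ((h.pow_eq_iff _).2 dvd_rfl)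
  exact DFunLike.congr_fun this x

theorem ord_pos [Finite F] : 0 < orderOf (p : ZMod q) := by
  haveI := h.char
  letI := Fintype.ofFinite F
  obtain ⟨d, -, hd⟩ := FiniteField.card F p
  have h1 : orderOf (p : ZMod q) ∣ d := (h.pow_eq_iff d).1 (hd ▸ FiniteField.pow_card ζ)
  exact Nat.pos_of_dvd_of_pos h1 d.2

theorem card [Finite F] : Nat.card F = p ^ orderOf (p : ZMod q) := by
  classical
  haveI := h.char
  letI := Fintype.ofFinite F
  obtain ⟨d, -, hd⟩ := FiniteField.card F p
  have h1 : orderOf (p : ZMod q) ∣ d := (h.pow_eq_iff d).1 (hd ▸ FiniteField.pow_card ζ)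
  have h0 := h.ord_pos
  rw [Nat.card_eq_fintype_card]
  apply le_antisymm
  · have h3 : 1 < p ^ orderOf (p : ZMod q) := Nat.one_lt_pow h0.ne' hp.out.one_lt
    have h2 := (FiniteField.forall_pow_eq_one_iff F (p ^ orderOf (p : ZMod q) - 1)).1 (fun x => by
      have := h.frob_eq (x : F)
      have e : x ^ (p ^ orderOf (p : ZMod q) - 1) * x = x := by
        rw [← pow_succ, Nat.sub_add_cancel h3.le]
        exact Units.ext (by simpa using this)
      exact mul_eq_right.1 e)
    have := Nat.le_of_dvd (by omega) h2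
    omega
  · rw [hd]
    exact Nat.pow_le_pow_right hp.out.pos (Nat.le_of_dvd d.2 h1)

theorem form_odd [Finite F] (ha : orderOf (p : ZMod q) % 2 = 1) {A : Type*} [AddCommGroup A]
    (B : F →+ F →+ A) (hinv : ∀ u v, B (ζ * u) (ζ * v) = B u v) (halt : ∀ u, B u u = 0) :
    B = 0 := by
  haveI := h.char
  have hz := h.ne_zero
  let R : AddSubgroup F :=
    { carrier := {v | ∀ u, B u v = 0}
      add_mem' := fun {a b} ha hb u => by rw [map_add, ha u, hb u, add_zero]
      zero_mem' := fun u => map_zero _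
      neg_mem' := fun {a} ha u => by rw [map_neg, ha u, neg_zero] }
  rcases h.irr R (fun w hw u => by
    rw [← mul_inv_cancel_left₀ hz u, hinv]; exact hw _) with hR | hR
  swap
  · ext u v
    exact (hR ▸ AddSubgroup.mem_top v : v ∈ R) u
  exfalso
  have hR' : ∀ y y' : F, (∀ u, B u y = B u y') → y = y' := by
    intro y y' e
    have : y - y' ∈ R := fun u => by rw [map_sub, e, sub_self]
    rw [hR] at this
    exact sub_eq_zero.1 this
  let S : Subring F :=
    { carrier := {x | ∃ y, ∀ u v, B (x * u) v = B u (y * v)}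
      mul_mem' := by
        rintro a b ⟨y, hy⟩ ⟨y', hy'⟩
        exact ⟨y' * y, fun u v => by rw [mul_assoc, hy, hy', mul_assoc]⟩
      one_mem' := ⟨1, fun u v => by simp⟩
      add_mem' := by
        rintro a b ⟨y, hy⟩ ⟨y', hy'⟩
        exact ⟨y + y', fun u v => by simp [add_mul, hy, hy']⟩
      zero_mem' := ⟨0, fun u v => by simp⟩
      neg_mem' := by
        rintro a ⟨y, hy⟩
        exact ⟨-y, fun u v => by simp [hy]⟩ }
  have hζ : ∀ u v, B (ζ * u) v = B u (ζ⁻¹ * v) := fun u v => by
    rw [← hinv u, mul_inv_cancel_left₀ hz]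
  choose s hs using fun x => h.all (S := S) ⟨ζ⁻¹, hζ⟩ x
  have hs' : ∀ x y, (∀ u v, B (x * u) v = B u (y * v)) → s x = y := fun x y e =>
    hR' _ _ fun u => by simpa using (hs x u 1).symm.trans (e u 1)
  let σ : F →+* F :=
    { toFun := s
      map_one' := hs' _ _ fun u v => by simp
      map_mul' := fun a b => hs' _ _ fun u v => by
        rw [mul_assoc, hs, hs, mul_comm (s a) (s b), mul_assoc]
      map_zero' := hs' _ _ fun u v => by simp
      map_add' := fun a b => hs' _ _ fun u v => by simp [add_mul, hs] }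
  have hσ : σ ζ = ζ⁻¹ := hs' _ _ hζ
  letI := ZMod.algebra F p
  let σ' : F ≃ₐ[ZMod p] F := AlgEquiv.ofBijective
    { σ with commutes' := fun c =>
        DFunLike.congr_fun (RingHom.ext_zmod (σ.comp (algebraMap (ZMod p) F)) (algebraMap _ _)) c }
    (Finite.injective_iff_bijective.1 σ.injective)
  obtain ⟨i, hi⟩ := FiniteField.exists_forall_apply_eq_pow (ZMod p) p F σ'
  rw [Nat.card_zmod] at hi
  have h1 : ζ ^ p ^ i = ζ⁻¹ := (hi ζ).symm.trans hσ
  have h2 : ζ ^ p ^ (i * 2) = ζ := by
    rw [mul_two, pow_add, pow_mul, h1, inv_pow, h1, inv_inv]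
  have h3 := (Nat.Coprime.dvd_mul_right (Nat.coprime_two_right.2 (Nat.odd_iff.2 ha))).1
    ((h.pow_eq_iff _).1 h2)
  have h4 : ζ⁻¹ = ζ := h1.symm.trans ((h.pow_eq_iff _).2 h3)
  have h5 : σ = RingHom.id F := h.hom_ext (hσ.trans h4)
  have h6 : ∀ u v, B u v = B 1 (u * v) := fun u v => by
    have := hs u 1 v
    rwa [mul_one, show s u = u from DFunLike.congr_fun h5 u] at this
  have h7 : (2 : F) = 0 := hR' _ _ fun u => by
    have := halt (u + 1)
    simp only [map_add, AddMonoidHom.add_apply, halt, zero_add, add_zero] at this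
    rw [h6 1 u, ← one_add_one_eq_two, map_add, map_zero, h6 u 1] at *
    simpa using this
  apply h.ne_one
  have h8 : ζ * ζ = 1 := by nth_rw 1 [← h4]; exact inv_mul_cancel₀ hz
  have h9 : (ζ - 1) ^ 2 = 0 := by linear_combination h8 + (1 - ζ) * h7
  exact sub_eq_zero.1 (pow_eq_zero_iff two_ne_zero |>.1 h9)

omit hp hq h in
theorem card_roots [Finite F] (S : AddSubgroup F) {n : ℕ} (hn : 1 < n) (c : F)
    (hS : ∀ x ∈ S, x ^ n = c * x) : Nat.card S ≤ n := by
  classical
  open Polynomial in
  have h1 : (X ^ n - C c * X : F[X]).natDegree = n := by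
    rw [natDegree_sub_eq_left_of_natDegree_lt] <;> rw [natDegree_X_pow]
    exact lt_of_le_of_lt (natDegree_C_mul_le _ _) (by simpa using hn)
  open Polynomial in
  have h2 : (X ^ n - C c * X : F[X]) ≠ 0 := by
    intro e; rw [e, natDegree_zero] at h1; omega
  open Polynomial in
  have h3 : (S : Set F) ⊆ (X ^ n - C c * X : F[X]).roots.toFinset := by
    intro x hx
    simp [h2, hS x hx]
  calc Nat.card S = (S : Set F).ncard := rfl
    _ ≤ _ := Set.ncard_le_ncard h3
    _ ≤ n := by
      rw [Set.ncard_coe_finset]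
      exact (Multiset.toFinset_card_le _).trans ((Polynomial.card_roots' _).trans h1.le)

theorem exists_form [Finite F] : ∃ (Z : AddSubgroup F) (β : F →+ F →+ Z),
    (∀ u v, β (ζ * u) (ζ * v) = β u v) ∧ (∀ z, ∃ u v, z = β u v - β v u) ∧
    Nat.card F * Nat.card Z = p ^ (if orderOf (p : ZMod q) % 2 = 1 then orderOf (p : ZMod q)
      else 3 * orderOf (p : ZMod q) / 2) ∧
    ∀ (A : Type u) [AddCommGroup A] (B : F →+ F →+ A), (∀ u v, B (ζ * u) (ζ * v) = B u v) →
      (∀ u, B u u = 0) → ∃ l : Z →+ A, ∀ u v, B u v = l (β u v - β v u) := by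
  by_cases ha : orderOf (p : ZMod q) % 2 = 1
  · refine ⟨⊥, 0, fun _ _ => rfl, fun z => ⟨0, 0, Subsingleton.elim _ _⟩, ?_, ?_⟩
    · rw [if_pos ha, h.card, AddSubgroup.card_bot, mul_one]
    · intro A _ B h1 h2
      exact ⟨0, fun u v => by rw [h.form_odd ha B h1 h2]; rfl⟩
  rw [if_neg ha]
  obtain ⟨m, hm⟩ : ∃ m, orderOf (p : ZMod q) = m + m := ⟨orderOf (p : ZMod q) / 2, by omega⟩
  have hm0 : 0 < m := by have := h.ord_pos; omega
  haveI := h.char
  haveI : ExpChar F p := ExpChar.prime hp.out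
  have hz := h.ne_zero
  let σ := iterateFrobenius F p m
  have hσ : ∀ x, σ x = x ^ p ^ m := fun _ => rfl
  have hσσ : ∀ x, σ (σ x) = x := fun x => by
    rw [hσ, hσ, ← pow_mul, ← pow_add, ← hm, h.frob_eq]
  have hσζ : σ ζ * ζ = 1 := by
    have h1 : ((p : ZMod q) ^ m) * ((p : ZMod q) ^ m) = 1 := by
      rw [← pow_add, ← hm, pow_orderOf_eq_one]
    rcases mul_self_eq_one_iff.1 h1 with h2 | h2
    · have := Nat.le_of_dvd hm0 (orderOf_dvd_of_pow_eq_one h2)
      omega
    · rw [hσ, ← pow_succ, ← orderOf_dvd_iff_pow_eq_one, h.ord, ← ZMod.natCast_eq_zero_iff]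
      push_cast
      rw [h2, neg_add_cancel]
  have hpm : 1 < p ^ m := Nat.one_lt_pow hm0.ne' hp.out.one_lt
  let Z : AddSubgroup F := (σ.toAddMonoidHom + AddMonoidHom.id F).ker
  have hZ : ∀ w, w ∈ Z ↔ σ w + w = 0 := fun _ => Iff.rfl
  let δ : F →+ F := AddMonoidHom.id F - σ.toAddMonoidHom
  have hδ : ∀ w, δ w = w - σ w := fun _ => rfl
  have c1 : Nat.card Z ≤ p ^ m := card_roots Z hpm (-1) fun x hx => by
    rw [← hσ]; linear_combination (hZ x).1 hx
  have c2 : Nat.card δ.ker ≤ p ^ m := card_roots _ hpm 1 fun x hx => by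
    have : x - σ x = 0 := hx
    rw [← hσ]; linear_combination -this
  have c3 : δ.range ≤ Z := by
    rintro _ ⟨w, rfl⟩
    rw [hZ, hδ, map_sub, hσσ]; ring
  have c4 : Nat.card F = Nat.card δ.ker * Nat.card δ.range := by
    rw [← AddSubgroup.index_ker, AddSubgroup.card_mul_index]
  have c5 : Nat.card F = p ^ m * p ^ m := by rw [h.card, hm, pow_add]
  have c6 : p ^ m ≤ Nat.card δ.range := by
    refine Nat.le_of_mul_le_mul_left ?_ (show 0 < p ^ m by omega)
    rw [← c5, c4]
    exact Nat.mul_le_mul_right _ c2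
  have c7 : δ.range = Z := AddSubgroup.eq_of_le_of_card_ge c3 (c1.trans c6)
  have c8 : Nat.card Z = p ^ m := le_antisymm c1 (c7 ▸ c6)
  obtain ⟨θ, hθ⟩ : ∃ θ : F, θ + σ θ = 1 := by
    obtain ⟨w, hw⟩ : ∃ w, w ∉ Z := by
      by_contra hc
      push Not at hc
      have : Z = ⊤ := eq_top_iff.2 fun w _ => hc w
      rw [this, AddSubgroup.card_top, c5] at c8
      nlinarith
    rw [hZ] at hw
    refine ⟨w / (σ w + w), ?_⟩
    rw [map_div₀, map_add, hσσ, add_comm w (σ w), ← add_div, add_comm w, div_self hw]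
  let β : F →+ F →+ Z := AddMonoidHom.mk' (fun u => AddMonoidHom.mk'
      (fun v => ⟨θ * σ u * v - σ θ * u * σ v, by
        rw [hZ]; simp only [map_sub, map_mul, hσσ]; ring⟩)
      (fun a b => Subtype.ext (by simp only [map_add, AddSubgroup.coe_add]; ring)))
    (fun a b => AddMonoidHom.ext fun v => Subtype.ext (by
      simp only [map_add, AddMonoidHom.add_apply, AddMonoidHom.mk'_apply, AddSubgroup.coe_add]; ring))
  have hβ : ∀ u v, ((β u v : Z) : F) = θ * σ u * v - σ θ * u * σ v := fun _ _ => rfl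
  have hβ' : ∀ u v, ((β u v - β v u : Z) : F) = σ u * v - u * σ v := fun u v => by
    rw [AddSubgroup.coe_sub, hβ, hβ]
    linear_combination (σ u * v - u * σ v) * hθ
  refine ⟨Z, β, fun u v => Subtype.ext ?_, fun z => ?_, ?_, ?_⟩
  · rw [hβ, hβ, map_mul, map_mul]
    linear_combination (θ * σ u * v - σ θ * u * σ v) * hσζ
  · obtain ⟨w, hw⟩ : (z : F) ∈ δ.range := by rw [c7]; exact z.2
    refine ⟨1, w, Subtype.ext ?_⟩
    rw [hβ', ← hw, hδ, map_one, one_mul, one_mul]
  · rw [c5, c8, ← pow_add, ← pow_add, hm]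
    congr 1; omega
  · intro A _ B hinv halt
    let S : Subring F :=
      { carrier := {x | ∀ u v, B (x * u) v = B u (σ x * v)}
        mul_mem' := fun {a b} hy hy' u v => by
          rw [mul_assoc, hy, hy', map_mul σ, mul_comm (σ a) (σ b), mul_assoc]
        one_mem' := fun u v => by simp
        add_mem' := fun {a b} hy hy' u v => by simp [add_mul, hy u v, hy' u v]
        zero_mem' := fun u v => by simp
        neg_mem' := fun {a} hy u v => by simp [hy u v] }
    have hS := h.all (S := S) fun u v => by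
      rw [← hinv u, ← mul_assoc, mul_comm ζ (σ ζ), hσζ, one_mul]
    have h6 : ∀ u v, B u v = B 1 (σ u * v) := fun u v => by
      have := hS u 1 v
      rwa [mul_one] at this
    have h7 : ∀ y, B 1 (y + σ y) = 0 := fun y => by
      have := halt (y + 1)
      simp only [map_add, AddMonoidHom.add_apply, halt, zero_add, add_zero] at this
      rw [h6 y 1, mul_one] at this
      rw [map_add]
      first | exact this | rw [add_comm]; exact this
    refine ⟨((B 1).comp (AddMonoidHom.mulLeft θ)).comp Z.subtype, fun u v => ?_⟩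
    show B u v = B 1 (θ * ((β u v - β v u : Z) : F))
    rw [hβ', h6, ← sub_eq_zero, ← map_sub, ← h7 (σ θ * σ u * v)]
    congr 1
    simp only [map_mul, hσσ]
    linear_combination (-(σ u * v)) * hθ

theorem exists_equiv [Finite F] {M : Type*} [AddCommGroup M] [Finite M] [Nontrivial M]
    (hM : ∀ m : M, p • m = 0) (T : AddMonoid.End M) (hT : orderOf T = q)
    (hirr : ∀ W : AddSubgroup M, (∀ w ∈ W, T w ∈ W) → W = ⊥ ∨ W = ⊤) :
    ∃ j : ℕ, j.Coprime q ∧ ∃ τ : F ≃+ M, ∀ w, τ (ζ * w) = (T ^ j) (τ w) := by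
  classical
  let K : Subring (AddMonoid.End M) := Subring.closure {T}
  have hcT : ∀ k ∈ K, T * k = k * T := by
    intro k hk
    have : K ≤ Subring.centralizer {T} := Subring.closure_le.2 (by
      rintro _ rfl _ rfl; rfl)
    exact this hk T rfl
  have hcomm : ∀ a b : K, a * b = b * a := by
    intro a b
    have : K ≤ Subring.centralizer {(b : AddMonoid.End M)} := Subring.closure_le.2 (by
      rintro _ rfl _ rfl; exact (hcT _ b.2).symm)
    exact Subtype.ext (this a.2 _ rfl).symm
  have hinj : ∀ k : K, k ≠ 0 → ∀ m : M, (k : AddMonoid.End M) m = 0 → m = 0 := by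
    intro k hk m hm
    rcases hirr (AddMonoidHom.ker (k : AddMonoid.End M)) (fun w hw => by
      have := DFunLike.congr_fun (hcT k k.2) w
      change T ((k : AddMonoid.End M) w) = (k : AddMonoid.End M) (T w) at this
      have hw' : (k : AddMonoid.End M) w = 0 := hw
      show (k : AddMonoid.End M) (T w) = 0
      rw [← this, hw', map_zero]) with h1 | h1
    · have : m ∈ AddMonoidHom.ker (k : AddMonoid.End M) := hm
      rwa [h1] at this
    · refine absurd (Subtype.ext (AddMonoidHom.ext fun w => ?_)) hk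
      exact (h1 ▸ AddSubgroup.mem_top w : w ∈ AddMonoidHom.ker (k : AddMonoid.End M))
  obtain ⟨m0, hm0⟩ := exists_ne (0 : M)
  letI : CommRing K := { (inferInstance : Ring K) with mul_comm := hcomm }
  haveI : Nontrivial K := ⟨0, 1, fun e =>
    hm0 (DFunLike.congr_fun (congrArg Subtype.val e) m0).symm⟩
  haveI : NoZeroDivisors K := ⟨fun {a b} e => by
    by_cases ha : a = 0
    · exact Or.inl ha
    · exact Or.inr (Subtype.ext (AddMonoidHom.ext fun w => hinj a ha _
        (DFunLike.congr_fun (congrArg Subtype.val e) w)))⟩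
  haveI : IsDomain K := NoZeroDivisors.to_isDomain K
  haveI : Finite (AddMonoid.End M) := Finite.of_injective _ DFunLike.coe_injective
  letI : Field K := (Finite.isField_of_domain K).toField
  let t : K := ⟨T, Subring.subset_closure rfl⟩
  have hK : Gen p q t := by
    refine ⟨(CharP.charP_iff_prime_eq_zero hp.out).2 (Subtype.ext (AddMonoidHom.ext fun w => ?_)),
      ?_, ?_⟩
    · rw [SubringClass.coe_natCast]
      exact (AddMonoid.End.natCast_apply p w).trans (hM w)
    · rw [← hT]
      exact (orderOf_injective K.subtype.toMonoidHom Subtype.val_injective t).symm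
    · rw [eq_top_iff]
      rintro ⟨k, hk⟩ -
      induction hk using Subring.closure_induction with
      | mem x hx => obtain rfl := hx; exact Subring.subset_closure rfl
      | zero => exact Subring.zero_mem _
      | one => exact Subring.one_mem _
      | add x y _ _ hx hy => exact Subring.add_mem _ hx hy
      | neg x _ hx => exact Subring.neg_mem _ hx
      | mul x y _ _ hx hy => exact Subring.mul_mem _ hx hy
  letI := Fintype.ofFinite K
  letI := Fintype.ofFinite F
  let e : F ≃+* K := FiniteField.ringEquivOfCardEq (by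
    rw [← Nat.card_eq_fintype_card, ← Nat.card_eq_fintype_card, h.card, hK.card])
  have ht : IsPrimitiveRoot t q := hK.ord ▸ IsPrimitiveRoot.orderOf t
  have hζ : IsPrimitiveRoot (e ζ) q :=
    (h.ord ▸ IsPrimitiveRoot.orderOf ζ : IsPrimitiveRoot ζ q).map_of_injective e.injective
  haveI : NeZero q := ⟨hq.out.ne_zero⟩
  obtain ⟨j, -, hj, hje⟩ := ht.isPrimitiveRoot_iff.1 hζ
  let τ : F →+ M := AddMonoidHom.mk' (fun w => ((e w : K) : AddMonoid.End M) m0)
    (fun a b => by rw [map_add]; rfl)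
  have hτ : ∀ w, τ (ζ * w) = (T ^ j) (τ w) := fun w => by
    show ((e (ζ * w) : K) : AddMonoid.End M) m0 = _
    rw [map_mul, ← hje]; rfl
  refine ⟨j, hj, AddEquiv.ofBijective τ ⟨(injective_iff_map_eq_zero τ).2 fun w hw => ?_, ?_⟩, hτ⟩
  · by_contra hw0
    exact hm0 (hinj (e w) (by simpa using hw0) _ hw)
  · rcases hirr τ.range (by
      rintro _ ⟨w, rfl⟩
      refine ⟨e.symm t * w, ?_⟩
      show ((e (e.symm t * w) : K) : AddMonoid.End M) m0 = _
      rw [map_mul, e.apply_symm_apply]; rfl) with h1 | h1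
    · exfalso
      have : τ 1 ∈ τ.range := ⟨1, rfl⟩
      rw [h1] at this
      apply hm0
      have h2 : ((e 1 : K) : AddMonoid.End M) m0 = 0 := this
      rwa [map_one] at h2
    · exact AddMonoidHom.range_eq_top.1 h1

end Gen

theorem exists_gen (hpq : p ≠ q) :
    ∃ (F : Type) (_ : Field F) (_ : Finite F) (ζ : F), Gen p q ζ := by
  haveI : NeZero ((q : ℕ) : ZMod p) := ⟨fun e => hpq
    ((Nat.prime_dvd_prime_iff_eq hp.out hq.out).1 ((ZMod.natCast_eq_zero_iff q p).1 e))⟩
  haveI : NeZero q := ⟨hq.out.ne_zero⟩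
  let L := CyclotomicField q (ZMod p)
  haveI : Module.Finite (ZMod p) L := IsCyclotomicExtension.finite {q} (ZMod p) L
  haveI : Finite L := Module.finite_of_finite (ZMod p)
  have hz := IsCyclotomicExtension.zeta_spec q (ZMod p) L
  haveI : CharP L p := charP_of_injective_algebraMap (algebraMap (ZMod p) L).injective p
  refine ⟨L, inferInstance, inferInstance, _, inferInstance, hz.eq_orderOf.symm, ?_⟩
  have h1 := IsCyclotomicExtension.adjoin_primitive_root_eq_top (A := ZMod p) hz
  rw [eq_top_iff]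
  intro x _
  have hx : x ∈ Algebra.adjoin (ZMod p) {IsCyclotomicExtension.zeta q (ZMod p) L} :=
    h1 ▸ Algebra.mem_top
  induction hx using Algebra.adjoin_induction with
  | mem x hx => exact Subring.subset_closure hx
  | algebraMap c =>
    obtain ⟨n, rfl⟩ := ZMod.natCast_zmod_surjective c
    rw [map_natCast]
    exact natCast_mem _ n
  | add x y _ _ hx hy => exact Subring.add_mem _ (hx trivial) (hy trivial)
  | mul x y _ _ hx hy => exact Subring.mul_mem _ (hx trivial) (hy trivial)

end Cfsg.Agent.SchU
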