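import Mathlib
import Cfsg.Agent.Grp.PFrattini
import Cfsg.Agent.Grp.Cores

/-!
The normal Sylow subgroup of a minimal non-nilpotent group, as a `p`-group with an automorphism of prime order
which is trivial on every proper invariant subgroup.
-/

set_option autoImplicit false

namespace Cfsg.Agent.SchSyl

open Subgroup
open scoped commutatorElement

variable {P : Type*} [Group P]

/-- `φ` has prime order `q ≠ p` and is trivial on every proper invariant subgroup. -/
structure Sch (p q : ℕ) (φ : MulAut P) : Prop where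
  pg : IsPGroup p P
  pr : q.Prime
  ne : q ≠ p
  pow : φ ^ q = 1
  ne_one : φ ≠ 1
  fix : ∀ U : Subgroup P, U ≠ ⊤ → (∀ u ∈ U, φ u ∈ U) → ∀ u ∈ U, φ u = u

theorem Sch.congr {p q : ℕ} {φ : MulAut P} (h : Sch p q φ) {Q : Type*} [Group Q] (e : P ≃* Q) :
    Sch p q (MulAut.congr e φ) where
  pg := h.pg.of_equiv e
  pr := h.pr
  ne := h.ne
  pow := by rw [← map_pow, h.pow, map_one]
  ne_one := fun h1 => h.ne_one ((MulAut.congr e).map_eq_one_iff.1 h1)
  fix := fun U hU hinv u hu => by
    have hU' : U.comap e.toMonoidHom ≠ ⊤ := fun h1 => hU (by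
      rw [eq_top_iff]; intro x _
      have : e.symm x ∈ U.comap e.toMonoidHom := h1 ▸ mem_top _
      simpa using this)
    have := h.fix _ hU' (fun v hv => by
      have := hinv _ (mem_comap.1 hv)
      simpa [MulAut.congr] using this) (e.symm u) (by simpa using hu)
    simp [MulAut.congr, this]

variable [Finite P] {p q : ℕ} [hp : Fact p.Prime] {φ : MulAut P}

namespace Sch
variable (h : Sch p q φ)
include h

omit [Finite P] in
theorem eq_one_of_pow {u : P} (hu : u ^ q = 1) : u = 1 := by
  obtain ⟨k, hk⟩ := h.pg u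
  have h1 : orderOf u ∣ 1 := by
    have hc : (q).Coprime (p ^ k) := Nat.Coprime.pow_right _ ((Nat.coprime_primes h.pr hp.out).2 h.ne)
    rw [← hc.gcd_eq_one]
    exact Nat.dvd_gcd (orderOf_dvd_of_pow_eq_one hu) (orderOf_dvd_of_pow_eq_one hk)
  exact orderOf_eq_one_iff.1 (Nat.dvd_one.1 h1)

omit [Finite P] in
theorem closure_eq_top : closure (Set.range fun y : P => y⁻¹ * φ y) = ⊤ := by
  by_contra hne
  have hinv : ∀ u ∈ closure (Set.range fun y : P => y⁻¹ * φ y),
      φ u ∈ closure (Set.range fun y : P => y⁻¹ * φ y) := by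
    intro u hu
    induction hu using closure_induction with
    | mem x hx => obtain ⟨y, rfl⟩ := hx; exact subset_closure ⟨φ y, by simp⟩
    | one => simp
    | mul x y _ _ hx hy => rw [map_mul]; exact mul_mem hx hy
    | inv x _ hx => rw [map_inv]; exact inv_mem hx
  apply h.ne_one
  ext y
  have hu := h.fix _ hne hinv _ (subset_closure ⟨y, rfl⟩)
  have key : ∀ n : ℕ, (φ ^ n) y = y * (y⁻¹ * φ y) ^ n := by
    intro n
    induction n with
    | zero => simp
    | succ n ih =>
      rw [pow_succ', MulAut.mul_apply, ih, map_mul, map_pow, hu, pow_succ', ← mul_assoc, mul_inv_cancel_left]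
  have := key q
  rw [h.pow, MulAut.one_apply, eq_comm, mul_eq_left] at this
  have := h.eq_one_of_pow this
  rw [inv_mul_eq_one] at this
  exact this.symm

omit [Finite P] in
theorem le_center {U : Subgroup P} [hn : U.Normal] (hU : U ≠ ⊤) (hinv : ∀ u ∈ U, φ u ∈ U) :
    U ≤ center P := by
  intro u hu
  rw [mem_center_iff]
  intro g
  have : closure (Set.range fun y : P => y⁻¹ * φ y) ≤ centralizer {u} := by
    rw [closure_le]
    rintro _ ⟨y, rfl⟩
    have h1 := h.fix U hU hinv _ (hn.conj_mem u hu y)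
    rw [map_mul, map_mul, map_inv, h.fix U hU hinv u hu] at h1
    rw [SetLike.mem_coe, mem_centralizer_singleton_iff]
    calc y⁻¹ * φ y * u = y⁻¹ * (φ y * u * (φ y)⁻¹) * φ y := by group
      _ = _ := by rw [h1]; group
  rw [h.closure_eq_top] at this
  exact mem_centralizer_singleton_iff.1 (this (mem_top g))

theorem frattini_le : frattini P ≤ center P := by
  have hnt : Nontrivial P := by
    by_contra h1
    rw [not_nontrivial_iff_subsingleton] at h1
    exact h.ne_one (MulEquiv.ext fun _ => Subsingleton.elim _ _)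
  refine h.le_center (fun h1 => ?_) (fun u hu => ?_)
  · have := frattini_nongenerating (G := P) (K := ⊥) (by rw [h1]; simp)
    exact bot_ne_top this
  · exact (characteristic_iff_le_comap.1 inferInstance φ) hu

theorem comm_mem (a b : P) : ⁅a, b⁆ ∈ center P :=
  h.frattini_le (Grp.PFrattini.commutator_le_frattini h.pg (commutator_mem_commutator (mem_top _) (mem_top _)))

theorem pow_mem (a : P) : a ^ p ∈ center P := h.frattini_le (Grp.PFrattini.pow_mem_frattini h.pg a)

/-- `g ↦ ⁅y, g⁆`. -/
def cHom (y : P) : P →* P := MonoidHom.mk' (fun g => ⁅y, g⁆) fun a b => by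
  have h1 := mem_center_iff.1 (h.comm_mem y b) a
  simp only [commutatorElement_def] at h1 ⊢
  calc y * (a * b) * y⁻¹ * (a * b)⁻¹ = y * a * y⁻¹ * (y * b * y⁻¹ * b⁻¹) * a⁻¹ := by group
    _ = y * a * y⁻¹ * a⁻¹ * (a * (y * b * y⁻¹ * b⁻¹)) * a⁻¹ := by group
    _ = _ := by rw [h1]; group

theorem cHom_apply (y g : P) : h.cHom y g = ⁅y, g⁆ := rfl

theorem comm_mul_left (a b g : P) : ⁅a * b, g⁆ = ⁅a, g⁆ * ⁅b, g⁆ := by
  rw [← commutatorElement_inv, ← h.cHom_apply, map_mul, h.cHom_apply, h.cHom_apply, mul_inv_rev,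
    commutatorElement_inv, commutatorElement_inv]
  exact mem_center_iff.1 (h.comm_mem a g) _

theorem comm_pow (a b : P) : ⁅a, b⁆ ^ p = 1 := by
  rw [← h.cHom_apply, ← map_pow, h.cHom_apply, commutatorElement_eq_one_iff_mul_comm]
  exact mem_center_iff.1 (h.pow_mem b) a

/-- An invariant subgroup containing the centre is the centre or everything. -/
theorem eq_top_of {U : Subgroup P} (hZ : center P ≤ U) (hinv : ∀ u ∈ U, φ u ∈ U) {y : P} (hy : y ∈ U)
    (hyZ : y ∉ center P) : U = ⊤ := by
  by_contra hU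
  have : U.Normal := ⟨fun n hn g => by
    have := U.mul_mem (hZ (h.comm_mem g n)) hn
    simpa [commutatorElement_def] using this⟩
  exact hyZ (h.le_center hU hinv hy)

variable (hna : center P ≠ ⊤)
include hna

omit [Finite P] hp in
theorem fix_center {z : P} (hz : z ∈ center P) : φ z = z :=
  h.fix _ hna (fun u hu => (characteristic_iff_le_comap.1 inferInstance φ) hu) z hz

omit [Finite P] in
theorem center_le : center P ≤ commutator P := by
  intro z hz
  let ν : P →* Abelianization P := ∏ i ∈ Finset.range q, Abelianization.of.comp (φ ^ i).toMonoidHom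
  have hν : ∀ y, ν y = ∏ i ∈ Finset.range q, Abelianization.of ((φ ^ i) y) := fun y => by
    simp [ν]
  have h1 : ∀ y, ν (φ y) = ν y := fun y => by
    obtain ⟨m, hm⟩ : ∃ m, q = m + 1 := ⟨q - 1, by have := h.pr.pos; omega⟩
    have hq := h.pow
    rw [hν, hν, hm, Finset.prod_range_succ, Finset.prod_range_succ']
    rw [hm] at hq
    congr 1
    rw [← MulAut.mul_apply, ← pow_succ, hq, pow_zero]
  have h2 : closure (Set.range fun y : P => y⁻¹ * φ y) ≤ ν.ker := by
    rw [closure_le]
    rintro _ ⟨y, rfl⟩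
    simp [h1]
  rw [h.closure_eq_top] at h2
  have h3 := MonoidHom.mem_ker.1 (h2 (mem_top z))
  have h4 : ∀ i : ℕ, (φ ^ i) z = z := fun i => by
    induction i with
    | zero => simp
    | succ i ih => rw [pow_succ, MulAut.mul_apply, h.fix_center hna hz, ih]
  rw [hν] at h3
  simp only [h4, Finset.prod_const, Finset.card_range] at h3
  obtain ⟨k, hk⟩ := h.pg z
  have h5 : orderOf (Abelianization.of z) ∣ 1 := by
    have hc : (q).Coprime (p ^ k) := Nat.Coprime.pow_right _ ((Nat.coprime_primes h.pr hp.out).2 h.ne)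
    rw [← hc.gcd_eq_one]
    exact Nat.dvd_gcd (orderOf_dvd_of_pow_eq_one h3)
      (orderOf_dvd_of_pow_eq_one (by rw [← map_pow, hk, map_one]))
  have h6 := orderOf_eq_one_iff.1 (Nat.dvd_one.1 h5)
  rw [← MonoidHom.mem_ker, Abelianization.ker_of] at h6
  exact h6

theorem range_cHom {y : P} (hy : y ∉ center P) : (h.cHom y).range = center P := by
  refine le_antisymm (by rintro _ ⟨g, rfl⟩; exact h.comm_mem y g) ((h.center_le hna).trans ?_)
  let U : Subgroup P :=
    { carrier := {u | ∀ g, ⁅u, g⁆ ∈ (h.cHom y).range}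
      one_mem' := fun g => by simp
      mul_mem' := fun {a b} ha hb g => by
        rw [h.comm_mul_left]; exact mul_mem (ha g) (hb g)
      inv_mem' := fun {a} ha g => by
        have := h.comm_mul_left a⁻¹ a g
        rw [inv_mul_cancel, commutatorElement_one_left, eq_comm, mul_eq_one_iff_eq_inv] at this
        rw [this]; exact inv_mem (ha g) }
  have hU : U = ⊤ := h.eq_top_of (y := y) (fun z hz g => by
      rw [commutatorElement_eq_one_iff_mul_comm.2 (mem_center_iff.1 hz g).symm]; exact one_mem _)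
    (fun u hu g => by
      have := hu (φ.symm g)
      rw [← h.fix_center hna (h.comm_mem u (φ.symm g)), map_commutatorElement] at this
      simpa using this) (fun g => ⟨g, rfl⟩) hy
  rw [commutator_def, commutator_le]
  intro a _ b _
  exact (hU ▸ mem_top a : a ∈ U) b

theorem center_pow {z : P} (hz : z ∈ center P) : z ^ p = 1 := by
  obtain ⟨y, hy⟩ : ∃ y, y ∉ center P := by
    by_contra h1; push Not at h1; exact hna (eq_top_iff.2 fun x _ => h1 x)
  obtain ⟨g, rfl⟩ : z ∈ (h.cHom y).range := h.range_cHom hna hy ▸ hz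
  exact h.comm_pow y g

theorem card_center {u : P} (hu : u ∉ center P) {B : Subgroup P} (hB : B.index = p)
    (hc : ∀ b ∈ B, u * b = b * u) : Nat.card (center P) = p := by
  have h1 : B ≤ (h.cHom u).ker := fun b hb => commutatorElement_eq_one_iff_mul_comm.2 (hc b hb)
  have h2 := index_dvd_of_le h1
  rw [index_ker, h.range_cHom hna hu, hB] at h2
  rcases (Nat.dvd_prime hp.out).1 h2 with h3 | h3
  · exfalso
    apply hu
    rw [mem_center_iff]
    intro g
    have : h.cHom u g ∈ center P := h.comm_mem u g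
    rw [card_eq_one.1 h3, mem_bot, cHom_apply, commutatorElement_eq_one_iff_mul_comm] at this
    exact this.symm
  · exact h3

theorem not_mem_sup {y : P} (hy : y ∉ center P) : φ y ∉ zpowers y ⊔ center P := by
  intro h1
  have hU := h.eq_top_of (U := zpowers y ⊔ center P) le_sup_right (fun u hu => by
    obtain ⟨a, ha, z, hz, rfl⟩ := mem_sup_of_normal_right.1 hu
    obtain ⟨k, rfl⟩ := mem_zpowers_iff.1 ha
    rw [map_mul, map_zpow, h.fix_center hna hz]
    exact mul_mem (zpow_mem h1 k) (mem_sup_right hz)) (mem_sup_left (mem_zpowers y)) hy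
  apply hy
  rw [mem_center_iff]
  intro g
  obtain ⟨a, ha, z, hz, rfl⟩ := mem_sup_of_normal_right.1 (hU ▸ mem_top g : g ∈ zpowers y ⊔ center P)
  obtain ⟨k, rfl⟩ := mem_zpowers_iff.1 ha
  rw [mul_assoc, ← mem_center_iff.1 hz y, ← mul_assoc, ← mul_assoc, (Commute.zpow_self y k).eq]

theorem q_ne_two : q ≠ 2 := by
  rintro rfl
  obtain ⟨y, hy⟩ : ∃ y, y ∉ center P := by
    by_contra h1; push Not at h1; exact hna (eq_top_iff.2 fun x _ => h1 x)
  have h2 : φ (φ y) = y := by rw [← MulAut.mul_apply, ← pow_two, h.pow, MulAut.one_apply]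
  by_cases h1 : y * φ y ∈ center P
  · apply h.not_mem_sup hna hy
    have : φ y = y⁻¹ * (y * φ y) := by group
    rw [this]
    exact mul_mem (inv_mem (mem_sup_left (mem_zpowers y))) (mem_sup_right h1)
  · apply h.not_mem_sup hna h1
    have : φ (y * φ y) = (y * φ y) * ⁅y⁻¹, (φ y)⁻¹⁆⁻¹ := by
      rw [map_mul, h2, commutatorElement_def]; group
    rw [this]
    exact mul_mem (mem_sup_left (mem_zpowers _)) (mem_sup_right (inv_mem (h.comm_mem _ _)))

theorem card_eq (hZ : Nat.card (center P) = p) {B : Subgroup P} (hB : B.index = p)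
    (hc : ∀ a ∈ B, ∀ b ∈ B, a * b = b * a) : Nat.card P = p ^ 3 := by
  have hmax : ∀ a, a ∉ B → B ⊔ zpowers a = ⊤ := fun a ha => by
    have h1 := index_dvd_of_le (le_sup_left : B ≤ B ⊔ zpowers a)
    rw [hB] at h1
    rcases (Nat.dvd_prime hp.out).1 h1 with h2 | h2
    · exact index_eq_one.1 h2
    · exfalso
      have h3 := relIndex_mul_index (le_sup_left : B ≤ B ⊔ zpowers a)
      rw [h2, hB, mul_eq_right₀ hp.out.ne_zero, relIndex_eq_one] at h3
      exact ha (h3 (mem_sup_right (mem_zpowers a)))
  have hcen : ∀ a, a ∉ B → ∀ b ∈ B, a * b = b * a → b ∈ center P := fun a ha b hb hab => by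
    have : B ⊔ zpowers a ≤ centralizer {b} := sup_le
      (fun c hc' => mem_centralizer_singleton_iff.2 (hc c hc' b hb))
      (zpowers_le.2 (mem_centralizer_singleton_iff.2 hab))
    rw [hmax a ha] at this
    exact mem_center_iff.2 fun g => mem_centralizer_singleton_iff.1 (this (mem_top g))
  have hZB : center P ≤ B := fun z hz => by
    by_contra h1
    apply hna
    rw [eq_top_iff, ← hmax z h1]
    exact sup_le (fun b hb => hcen z h1 b hb (mem_center_iff.1 hz b).symm) (zpowers_le.2 hz)
  obtain ⟨a, ha⟩ : ∃ a, a ∉ B := by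
    by_contra h1; push Not at h1
    rw [(eq_top_iff.2 fun x _ => h1 x : B = ⊤), index_top] at hB
    exact hp.out.one_lt.ne hB
  have haZ : a ∉ center P := fun h1 => ha (hZB h1)
  have hk : (h.cHom a).ker.index = p := by rw [index_ker, h.range_cHom hna haZ, hZ]
  have hinf : B ⊓ (h.cHom a).ker = center P := le_antisymm
    (fun b hb => hcen a ha b hb.1 (commutatorElement_eq_one_iff_mul_comm.1 hb.2))
    (le_inf hZB fun z hz => commutatorElement_eq_one_iff_mul_comm.2 (mem_center_iff.1 hz a))
  have hne : ¬ B ≤ (h.cHom a).ker := fun h1 => by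
    apply hna
    have h2 : B = center P := by rw [← hinf, inf_eq_left.2 h1]
    have h3 := hmax a ha
    apply absurd _ haZ
    rw [mem_center_iff]
    intro g
    have : B ⊔ zpowers a ≤ centralizer {a} := sup_le
      (fun c hc' => mem_centralizer_singleton_iff.2 (mem_center_iff.1 (h2 ▸ hc') a).symm)
      (zpowers_le.2 (mem_centralizer_singleton_iff.2 rfl))
    exact mem_centralizer_singleton_iff.1 (this (h3 ▸ mem_top g))
  have h4 : ((h.cHom a).ker).relIndex B = p := by
    have h5 := relIndex_dvd_index_of_normal (h.cHom a).ker B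
    rw [hk] at h5
    rcases (Nat.dvd_prime hp.out).1 h5 with h6 | h6
    · exact absurd (relIndex_eq_one.1 h6) hne
    · exact h6
  have h5 : (center P).index = p * p := by
    rw [← hinf, inf_comm, ← relIndex_mul_index (inf_le_right : (h.cHom a).ker ⊓ B ≤ B), inf_relIndex_right,
      h4, hB]
  rw [← (center P).card_mul_index, hZ, h5]; ring

theorem small (hp3 : p ≤ 3) (hZ : Nat.card (center P) = p) {B : Subgroup P} (hB : B.index = p)
    (hc : ∀ a ∈ B, ∀ b ∈ B, a * b = b * a) (he : ∀ b ∈ B, b ^ p = 1) : False := by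
  have hcard := h.card_eq hna hZ hB hc
  have hq2 := h.q_ne_two hna
  have := Fact.mk h.pr
  have hp2 := hp.out.two_le
  interval_cases p
  · obtain ⟨b, hb, hbZ⟩ : ∃ b ∈ B, b ∉ center P := by
      by_contra h1; push Not at h1
      have h2 := card_le_of_le (show B ≤ center P from h1)
      have h3 := B.card_mul_index
      rw [hB, hcard] at h3
      omega
    have hφ : ∀ y, y ∉ center P → φ y ∉ center P := fun y hy h1 => h.not_mem_sup hna hy (mem_sup_right h1)
    have hidx : Nat.card (P ⧸ center P) = 4 := by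
      have := (center P).card_mul_index
      rw [hZ, hcard] at this
      rw [← index_eq_card]; omega
    let π := QuotientGroup.mk' (center P)
    have hπ1 : ∀ y, π y = 1 ↔ y ∈ center P := fun y => QuotientGroup.eq_one_iff y
    have hne : ∀ y, y ∉ center P → π (φ y) ≠ π y := fun y hy h1 => by
      apply h.not_mem_sup hna hy
      have h2 : y⁻¹ * φ y ∈ center P := by rw [← hπ1, map_mul, map_inv, h1, inv_mul_cancel]
      have : φ y = y * (y⁻¹ * φ y) := by group
      rw [this]
      exact mul_mem (mem_sup_left (mem_zpowers y)) (mem_sup_right h2)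
    have hsq : ∀ y, π y * π y = 1 := fun y => by rw [← map_mul, ← pow_two, hπ1]; exact h.pow_mem y
    have hb1 : π b ≠ 1 := fun h1 => hbZ ((hπ1 b).1 h1)
    have hc1 : π (φ b) ≠ 1 := fun h1 => hφ b hbZ ((hπ1 _).1 h1)
    have hd1 : π (φ (φ b)) ≠ 1 := fun h1 => hφ _ (hφ b hbZ) ((hπ1 _).1 h1)
    have hall : ∀ x : P ⧸ center P, x = 1 ∨ x = π b ∨ x = π (φ b) ∨ x = π b * π (φ b) := by
      classical
      have := Fintype.ofFinite (P ⧸ center P)
      have h1 : ({1, π b, π (φ b), π b * π (φ b)} : Finset (P ⧸ center P)) = Finset.univ := by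
        apply Finset.eq_univ_of_card
        rw [← Nat.card_eq_fintype_card, hidx]
        have e1 : π b * π (φ b) ≠ 1 := fun h1 => hne b hbZ (mul_left_cancel (h1.trans (hsq b).symm))
        have e2 : π b * π (φ b) ≠ π b := fun h1 => hc1 (mul_eq_left.1 h1)
        have e3 : π b * π (φ b) ≠ π (φ b) := fun h1 => hb1 (mul_eq_right.1 h1)
        rw [Finset.card_insert_of_notMem, Finset.card_insert_of_notMem, Finset.card_pair e3.symm]
        · simp [(hne b hbZ).symm, e2.symm]
        · simp [hb1.symm, hc1.symm, e1.symm]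
      intro x
      have := h1 ▸ Finset.mem_univ x
      simpa using this
    rcases hall (π (φ (φ b))) with h1 | h1 | h1 | h1
    · exact hd1 h1
    · have hstep : ∀ y y', π y = π y' → π (φ y) = π (φ y') := fun y y' h2 => by
        have h3 : y⁻¹ * y' ∈ center P := by rw [← hπ1, map_mul, map_inv, h2, inv_mul_cancel]
        have h4 := h.fix_center hna h3
        have h5 : π (φ (y⁻¹ * y')) = 1 := by rw [h4, hπ1]; exact h3
        rw [map_mul, map_mul, map_inv, map_inv, inv_mul_eq_one] at h5
        exact h5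
      have h2 : ∀ k : ℕ, π ((φ ^ (2 * k)) b) = π b := fun k => by
        induction k with
        | zero => simp
        | succ k ih =>
          rw [show 2 * (k + 1) = 1 + 1 + 2 * k by ring, pow_add, pow_add, pow_one, MulAut.mul_apply,
            MulAut.mul_apply, hstep _ _ (hstep _ _ ih), h1]
      obtain ⟨k, hk⟩ := h.pr.eq_two_or_odd'.resolve_left hq2
      have h3 := hstep _ _ (h2 k)
      rw [← MulAut.mul_apply, ← pow_succ', ← hk, h.pow, MulAut.one_apply] at h3
      exact hne b hbZ h3.symm
    · exact hne _ (hφ b hbZ) h1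
    · have h2 : (b * φ b)⁻¹ * φ (φ b) ∈ center P := by
        rw [← hπ1, map_mul, map_inv, h1, map_mul, inv_mul_cancel]
      have h3 := h.center_pow hna h2
      have e1 : b ^ 2 = 1 := he b hb
      have e2 : φ b ^ 2 = 1 := by rw [← map_pow, e1, map_one]
      have e3 : φ (φ b) ^ 2 = 1 := by rw [← map_pow, e2, map_one]
      have h4 : φ (φ b) = (b * φ b) * ((b * φ b)⁻¹ * φ (φ b)) := by group
      rw [h4, (Commute.mul_pow (mem_center_iff.1 h2 _)), h3, mul_one] at e3
      have hcomm : b * φ b = φ b * b := by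
        rw [pow_two] at e1 e2 e3
        have i1 : b⁻¹ = b := inv_eq_of_mul_eq_one_right e1
        have i2 : (φ b)⁻¹ = φ b := inv_eq_of_mul_eq_one_right e2
        rw [← inv_eq_of_mul_eq_one_right e3, mul_inv_rev, i1, i2]
      have hmem : ∀ x g, π g = π x → x * b = b * x → g * b = b * g := fun x g h5 h6 => by
        have h7 : x⁻¹ * g ∈ center P := by rw [← hπ1, map_mul, map_inv, h5, inv_mul_cancel]
        have h8 := mem_center_iff.1 h7 b
        calc g * b = x * (x⁻¹ * g * b) := by group
          _ = (x * b) * (x⁻¹ * g) := by rw [← h8]; group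
          _ = _ := by rw [h6]; group
      apply hbZ
      rw [mem_center_iff]
      intro g
      rcases hall (π g) with h5 | h5 | h5 | h5
      · exact hmem 1 g (by rw [h5, map_one]) (by simp)
      · exact hmem b g h5 rfl
      · exact hmem _ g h5 hcomm.symm
      · exact hmem (b * φ b) g (by rw [h5, map_mul]) (by rw [mul_assoc, ← hcomm])
  · have hpg : IsPGroup q (zpowers φ) := fun ⟨x, hx⟩ => ⟨1, by
      obtain ⟨k, rfl⟩ := mem_zpowers_iff.1 hx
      ext1
      simp only [pow_one, SubmonoidClass.coe_pow, OneMemClass.coe_one]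
      rw [← zpow_natCast, ← zpow_mul, mul_comm, zpow_mul, zpow_natCast, h.pow, one_zpow]⟩
    have h1 := hpg.card_modEq_card_fixedPoints P
    have h2 : MulAction.fixedPoints (zpowers φ) P = (center P : Set P) := by
      ext y
      rw [MulAction.mem_fixedPoints]
      constructor
      · intro hy
        by_contra h3
        apply h.not_mem_sup hna h3
        have : φ y = y := hy ⟨φ, mem_zpowers φ⟩
        rw [this]; exact mem_sup_left (mem_zpowers y)
      · rintro hy ⟨x, hx⟩
        have : zpowers φ ≤ MulAction.stabilizer (MulAut P) y := zpowers_le.2 (h.fix_center hna hy)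
        exact this hx
    rw [h2, hcard] at h1
    have h3 : Nat.card (center P : Set P) = 3 := hZ
    rw [h3] at h1
    have h4 : q ∣ 2 ^ 3 * 3 := (Nat.modEq_iff_dvd' (by norm_num)).1 h1.symm
    rcases (Nat.Prime.dvd_mul h.pr).1 h4 with h5 | h5
    · exact hq2 ((Nat.prime_dvd_prime_iff_eq h.pr Nat.prime_two).1 (h.pr.dvd_of_dvd_pow h5))
    · exact h.ne ((Nat.prime_dvd_prime_iff_eq h.pr Nat.prime_three).1 h5)

end Sch

end Cfsg.Agent.SchSyl
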