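import Cfsg.Agent.FGS.SchField
import Cfsg.Agent.FGS.SchSyl
import Cfsg.Agent.Transfer.Wielandt

/-! The universal Sylow subgroup of a Schmidt group. -/

set_option autoImplicit false

namespace Cfsg.Agent.SchU

open Subgroup Cfsg.Agent.SchSyl Cfsg.Agent.Transfer
open scoped commutatorElement

universe u

section Heis

variable {F : Type} [Field F] {Z : AddSubgroup F}

/-- central extension of `F` by `Z` with cocycle `β` -/
@[ext] structure Heis (β : F →+ F →+ Z) : Type u where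
  u : F
  z : Z

variable {β : F →+ F →+ Z}

instance : Mul (Heis.{u} β) := ⟨fun x y => ⟨x.u + y.u, x.z + y.z + β x.u y.u⟩⟩
instance : One (Heis.{u} β) := ⟨⟨0, 0⟩⟩
instance : Inv (Heis.{u} β) := ⟨fun x => ⟨-x.u, -x.z + β x.u x.u⟩⟩

@[simp] theorem mul_u (x y : Heis.{u} β) : (x * y).u = x.u + y.u := rfl
@[simp] theorem mul_z (x y : Heis.{u} β) : (x * y).z = x.z + y.z + β x.u y.u := rfl
@[simp] theorem one_u : (1 : Heis.{u} β).u = 0 := rfl
@[simp] theorem one_z : (1 : Heis.{u} β).z = 0 := rfl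
@[simp] theorem inv_u (x : Heis.{u} β) : x⁻¹.u = -x.u := rfl
@[simp] theorem inv_z (x : Heis.{u} β) : x⁻¹.z = -x.z + β x.u x.u := rfl

instance : Group (Heis.{u} β) := Group.ofLeftAxioms
  (fun a b c => Heis.ext (by simp [add_assoc]) (by
    simp only [mul_z, mul_u, map_add, AddMonoidHom.add_apply]; abel))
  (fun a => Heis.ext (by simp) (by simp))
  (fun a => Heis.ext (by simp) (by simp))

theorem card_heis : Nat.card (Heis.{u} β) = Nat.card F * Nat.card Z := by
  rw [← Nat.card_prod]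
  exact Nat.card_congr ⟨fun x => (x.u, x.z), fun x => ⟨x.1, x.2⟩, fun _ => rfl, fun _ => rfl⟩

instance [Finite F] : Finite (Heis.{u} β) :=
  Finite.of_injective (fun x => (x.u, x.z)) fun _ _ e =>
    Heis.ext (congrArg Prod.fst e) (congrArg Prod.snd e)

theorem central (x y : Heis.{u} β) (hx : x.u = 0) : x * y = y * x :=
  Heis.ext (by simp [hx]) (by simp [hx, add_comm])

/-- the automorphism `(u, z) ↦ (ζ u, z)` -/
def rot {ζ : F} (hz : ζ ≠ 0) (hβ : ∀ u v, β (ζ * u) (ζ * v) = β u v) : MulAut (Heis.{u} β) where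
  toFun x := ⟨ζ * x.u, x.z⟩
  invFun x := ⟨ζ⁻¹ * x.u, x.z⟩
  left_inv x := Heis.ext (inv_mul_cancel_left₀ hz _) rfl
  right_inv x := Heis.ext (mul_inv_cancel_left₀ hz _) rfl
  map_mul' x y := Heis.ext (mul_add _ _ _) (by simp [hβ])

theorem rot_pow {ζ : F} (hz : ζ ≠ 0) (hβ : ∀ u v, β (ζ * u) (ζ * v) = β u v) (n : ℕ)
    (x : Heis.{u} β) : (rot hz hβ ^ n) x = ⟨ζ ^ n * x.u, x.z⟩ := by
  induction n with
  | zero => exact Heis.ext (by simp) rfl
  | succ n ih =>
    rw [pow_succ', MulAut.mul_apply, ih]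
    exact Heis.ext (by show ζ * (ζ ^ n * x.u) = _; ring) rfl

variable {p q : ℕ} [hp : Fact p.Prime] [hq : Fact q.Prime] {ζ : F}

theorem sch_rot (hpq : p ≠ q) (h : Gen p q ζ) (hβ : ∀ u v, β (ζ * u) (ζ * v) = β u v)
    (hgen : ∀ z, ∃ u v, z = β u v - β v u) {n : ℕ} (hc : Nat.card F * Nat.card Z = p ^ n) :
    Sch p q (rot.{u} h.ne_zero hβ) where
  pg := IsPGroup.of_card (card_heis.trans hc)
  pr := hq.out
  ne := hpq.symm
  pow := MulEquiv.ext fun x => by
    rw [rot_pow, ← h.ord, pow_orderOf_eq_one, one_mul]; rfl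
  ne_one := fun e => by
    have := congrArg Heis.u (DFunLike.congr_fun e ⟨1, 0⟩)
    exact h.ne_one ((mul_one ζ).symm.trans this)
  fix := fun U hU hinv x hx => by
    let W : AddSubgroup F :=
      { carrier := {w | ∃ y ∈ U, y.u = w}
        add_mem' := by
          rintro _ _ ⟨a, ha, rfl⟩ ⟨b, hb, rfl⟩
          exact ⟨a * b, U.mul_mem ha hb, rfl⟩
        zero_mem' := ⟨1, U.one_mem, rfl⟩
        neg_mem' := by
          rintro _ ⟨a, ha, rfl⟩
          exact ⟨a⁻¹, U.inv_mem ha, rfl⟩ }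
    rcases h.irr W (by rintro _ ⟨a, ha, rfl⟩; exact ⟨_, hinv a ha, rfl⟩) with h1 | h1
    · have : x.u ∈ W := ⟨x, hx, rfl⟩
      rw [h1] at this
      have h0 : x.u = 0 := this
      exact Heis.ext (by show ζ * x.u = x.u; rw [h0, mul_zero]) rfl
    · exfalso
      apply hU
      have hW : ∀ w, ∃ y ∈ U, y.u = w := fun w => (h1 ▸ AddSubgroup.mem_top w : w ∈ W)
      rw [eq_top_iff]
      intro y _
      obtain ⟨a, ha, hay⟩ := hW y.u
      obtain ⟨v, w, hvw⟩ := hgen (y.z - a.z)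
      obtain ⟨b, hb, rfl⟩ := hW v
      obtain ⟨c, hc, rfl⟩ := hW w
      have : y = a * (b * c * b⁻¹ * c⁻¹) := Heis.ext (by simp [hay]) (by
        rw [sub_eq_iff_eq_add] at hvw
        rw [hvw]
        simp only [mul_z, mul_u, inv_u, inv_z, map_add, map_neg, AddMonoidHom.add_apply,
          AddMonoidHom.neg_apply]
        abel)
      rw [this]
      exact U.mul_mem ha (U.mul_mem (U.mul_mem (U.mul_mem hb hc) (U.inv_mem hb)) (U.inv_mem hc))

end Heis

section Univ

variable {p q : ℕ} [hp : Fact p.Prime] [hq : Fact q.Prime] {P : Type u} [Group P] [Finite P]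
  {φ : MulAut P}

/-- fixed points of `φ` -/
def fixS (φ : MulAut P) : Subgroup P := φ.toMonoidHom.eqLocus (MonoidHom.id P)

omit [Finite P] in
theorem mem_fixS {x : P} : x ∈ fixS φ ↔ φ x = x := Iff.rfl

omit [Finite P] hp hq in
theorem fixS_ne (h : Sch p q φ) : fixS φ ≠ ⊤ := fun e =>
  h.ne_one (MulEquiv.ext fun x => (e ▸ mem_top x : x ∈ fixS φ))

omit hq in
theorem frattini_le_fixS (h : Sch p q φ) : frattini P ≤ fixS φ := by
  haveI : Nontrivial P := by
    by_contra hn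
    rw [not_nontrivial_iff_subsingleton] at hn
    exact h.ne_one (MulEquiv.ext fun x => Subsingleton.elim _ _)
  refine h.fix _ ?_ fun u hu => ?_
  · obtain ⟨M, hM⟩ := IsCoatomic.exists_coatom (α := Subgroup P)
    exact fun e => hM.1 (eq_top_iff.2 (e ▸ frattini_le_coatom hM))
  · exact (characteristic_iff_le_comap.1 inferInstance φ) hu

omit hq in
theorem comm_mem_fixS (h : Sch p q φ) (a b : P) : ⁅a, b⁆ ∈ fixS φ :=
  frattini_le_fixS h (Cfsg.Agent.Grp.PFrattini.commutator_le_frattini h.pg (commutator_mem_commutator (mem_top a) (mem_top b)))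

omit hq in
theorem normal_of_fixS_le (h : Sch p q φ) {U : Subgroup P} (hU : fixS φ ≤ U) : U.Normal :=
  ⟨fun x hx g => by
    have := U.mul_mem (hU (comm_mem_fixS h g x)) hx
    rwa [commutatorElement_def, inv_mul_cancel_right] at this⟩

omit hq in
theorem fixS_le_center (h : Sch p q φ) : fixS φ ≤ center P :=
  haveI := normal_of_fixS_le h le_rfl
  h.le_center (fixS_ne h) fun u hu => by rw [mem_fixS.1 hu]; exact hu

omit hp in
theorem inv_of_pow (h : Sch p q φ) {j : ℕ} (hj : j.Coprime q) {U : Subgroup P}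
    (hU : ∀ u ∈ U, (φ ^ j) u ∈ U) : ∀ u ∈ U, φ u ∈ U := by
  have ho : orderOf φ = q := orderOf_eq_prime h.pow h.ne_one
  obtain ⟨m, hm⟩ := exists_pow_eq_self_of_coprime (ho ▸ hj : j.Coprime (orderOf φ))
  rw [← hm]
  clear hm
  induction m with
  | zero => exact fun u hu => hu
  | succ m ih => exact fun u hu => by rw [pow_succ', MulAut.mul_apply]; exact hU _ (ih u hu)

theorem exists_rho (h : Sch p q φ) {F : Type} [Field F] [Finite F] {ζ : F} (hF : Gen p q ζ) :
    ∃ j : ℕ, j.Coprime q ∧ ∃ ρ : P → F, (∀ x y, ρ (x * y) = ρ x + ρ y) ∧ Function.Surjective ρ ∧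
      (∀ x, ρ x = 0 ↔ x ∈ fixS φ) ∧ ∀ x, ρ ((φ ^ j) x) = ζ * ρ x := by
  haveI := normal_of_fixS_le h le_rfl
  set Z := fixS φ with hZ
  letI : CommGroup (P ⧸ Z) :=
    { (inferInstance : Group (P ⧸ Z)) with
      mul_comm := fun a b => by
        obtain ⟨a, rfl⟩ := QuotientGroup.mk_surjective a
        obtain ⟨b, rfl⟩ := QuotientGroup.mk_surjective b
        rw [← QuotientGroup.mk_mul, ← QuotientGroup.mk_mul, QuotientGroup.eq]
        have := comm_mem_fixS h b⁻¹ a⁻¹
        simpa [commutatorElement_def, mul_assoc] using this }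
  haveI : Nontrivial (P ⧸ Z) := QuotientGroup.nontrivial_iff.2 (fixS_ne h)
  let φ' : P ⧸ Z →* P ⧸ Z := QuotientGroup.map Z Z φ.toMonoidHom (fun u hu => by
    show φ u ∈ Z
    rw [mem_fixS.1 hu]; exact hu)
  let T : AddMonoid.End (Additive (P ⧸ Z)) := MonoidHom.toAdditive φ'
  have hT : ∀ (n : ℕ) (x : P), (T ^ n) (Additive.ofMul (x : P ⧸ Z)) =
      Additive.ofMul (((φ ^ n) x : P) : P ⧸ Z) := by
    intro n x
    induction n with
    | zero => rfl
    | succ n ih =>
      rw [pow_succ', pow_succ', MulAut.mul_apply]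
      show T ((T ^ n) _) = _
      rw [ih]; rfl
  have hM : ∀ m : Additive (P ⧸ Z), p • m = 0 := by
    intro m
    obtain ⟨a, ha⟩ := QuotientGroup.mk_surjective m.toMul
    apply Additive.toMul.injective
    rw [toMul_nsmul, ← ha, toMul_zero, ← QuotientGroup.mk_pow, QuotientGroup.eq_one_iff]
    exact frattini_le_fixS h (Cfsg.Agent.Grp.PFrattini.pow_mem_frattini h.pg a)
  have hTo : orderOf T = q := by
    refine orderOf_eq_prime (AddMonoidHom.ext fun m => ?_) fun e => ?_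
    · obtain ⟨a, ha⟩ := QuotientGroup.mk_surjective m.toMul
      have : m = Additive.ofMul (a : P ⧸ Z) := by rw [ha]; rfl
      rw [this]
      refine (hT q a).trans ?_
      rw [h.pow]; rfl
    · apply fixS_ne h
      rw [eq_top_iff, ← h.closure_eq_top, closure_le]
      rintro _ ⟨y, rfl⟩
      have := hT 1 y
      rw [e, one_pow, pow_one] at this
      exact QuotientGroup.eq.1 this
  obtain ⟨j, hj, τ, hτ⟩ := hF.exists_equiv hM T hTo (fun W hW => by
    let U : Subgroup P := (AddSubgroup.toSubgroup W).comap (QuotientGroup.mk' Z)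
    by_cases hU : U = ⊤
    · refine Or.inr (eq_top_iff.2 fun m _ => ?_)
      obtain ⟨a, ha⟩ := QuotientGroup.mk_surjective m.toMul
      have h1 : a ∈ U := hU ▸ mem_top a
      have : m = Additive.ofMul (a : P ⧸ Z) := by rw [ha]; rfl
      rw [this]; exact h1
    · refine Or.inl (eq_bot_iff.2 fun m hm => ?_)
      obtain ⟨a, ha⟩ := QuotientGroup.mk_surjective m.toMul
      have : m = Additive.ofMul (a : P ⧸ Z) := by rw [ha]; rfl
      subst this
      have h1 := h.fix U hU (fun u hu => hW _ hu) a hm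
      exact congrArg Additive.ofMul ((QuotientGroup.eq_one_iff a).2 h1))
  refine ⟨j, hj, fun x => τ.symm (Additive.ofMul (x : P ⧸ Z)), fun x y => by
    rw [← map_add]; rfl, fun w => ?_, fun x => ?_, fun x => ?_⟩
  · obtain ⟨a, ha⟩ := QuotientGroup.mk_surjective (τ w).toMul
    exact ⟨a, by simp [ha]⟩
  · rw [map_eq_zero_iff _ τ.symm.injective]
    exact QuotientGroup.eq_one_iff x
  · apply τ.injective
    rw [hτ, τ.apply_symm_apply, τ.apply_symm_apply, hT]

open scoped IsMulCommutative in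
theorem exists_psi (h : Sch p q φ) {F : Type} [Field F] [Finite F] {ζ : F} (hF : Gen p q ζ)
    {Z : AddSubgroup F} {β : F →+ F →+ Z} (hβ : ∀ u v, β (ζ * u) (ζ * v) = β u v)
    (hgen : ∀ z, ∃ u v, z = β u v - β v u)
    (huniv : ∀ (A : Type u) [AddCommGroup A] (B : F →+ F →+ A), (∀ u v, B (ζ * u) (ζ * v) = B u v) →
      (∀ u, B u u = 0) → ∃ l : Z →+ A, ∀ u v, B u v = l (β u v - β v u)) :
    ∃ j : ℕ, j.Coprime q ∧ ∃ ψ : Heis.{u} β →* P, Function.Surjective ψ ∧
      (∀ x, ψ (rot hF.ne_zero hβ x) = (φ ^ j) (ψ x)) ∧ ∀ x, ψ x = 1 → x.u = 0 := by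
  obtain ⟨j, hj, ρ, hρ, hρs, hρ0, hρφ⟩ := exists_rho h hF
  choose s hs using hρs
  have hρ1 : ρ 1 = 0 := (hρ0 1).2 (one_mem _)
  have hρi : ∀ x, ρ x⁻¹ = -ρ x := fun x => by
    have := hρ x⁻¹ x
    rw [inv_mul_cancel, hρ1] at this
    linear_combination -this
  have hfix : ∀ z ∈ fixS φ, ∀ n : ℕ, (φ ^ n) z = z := by
    intro z hz n
    induction n with
    | zero => rfl
    | succ n ih => rw [pow_succ', MulAut.mul_apply, ih, mem_fixS.1 hz]
  have heq : ∀ x y, ρ x = ρ y → ∃ z ∈ fixS φ, y = x * z := fun x y e =>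
    ⟨x⁻¹ * y, (hρ0 _).1 (by rw [hρ, hρi, e, neg_add_cancel]), by group⟩
  have hcomm : ∀ x y x' y', ρ x = ρ x' → ρ y = ρ y' → ⁅x, y⁆ = ⁅x', y'⁆ := by
    intro x y x' y' e1 e2
    obtain ⟨z, hz, rfl⟩ := heq _ _ e1
    obtain ⟨w, hw, rfl⟩ := heq _ _ e2
    have hz' := mem_center_iff.1 (fixS_le_center h hz)
    have hw' := mem_center_iff.1 (fixS_le_center h hw)
    rw [h.comm_mul_left, ← h.cHom_apply x (y * w), map_mul, h.cHom_apply, h.cHom_apply,
      commutatorElement_eq_one_iff_mul_comm.2 (hw' x),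
      commutatorElement_eq_one_iff_mul_comm.2 (hz' _).symm, mul_one, mul_one]
  let B : F →+ F →+ Additive (center P) := AddMonoidHom.mk' (fun u => AddMonoidHom.mk'
      (fun v => Additive.ofMul ⟨⁅s u, s v⁆, h.comm_mem _ _⟩) (fun a b => by
        apply Additive.toMul.injective
        apply Subtype.ext
        show ⁅s u, s (a + b)⁆ = ⁅s u, s a⁆ * ⁅s u, s b⁆
        rw [hcomm _ _ (s u) (s a * s b) rfl (by rw [hρ, hs, hs, hs]), ← h.cHom_apply, map_mul]
        rfl))
    (fun a b => AddMonoidHom.ext fun v => by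
      apply Additive.toMul.injective
      apply Subtype.ext
      show ⁅s (a + b), s v⁆ = ⁅s a, s v⁆ * ⁅s b, s v⁆
      rw [hcomm _ _ (s a * s b) (s v) (by rw [hρ, hs, hs, hs]) rfl, h.comm_mul_left])
  have hB : ∀ x y, ((B (ρ x) (ρ y)).toMul : P) = ⁅x, y⁆ := fun x y =>
    hcomm _ _ _ _ (hs _) (hs _)
  obtain ⟨l, hl⟩ := huniv _ B (fun u v => by
      apply Additive.toMul.injective
      apply Subtype.ext
      conv_lhs => rw [← hs u, ← hs v, ← hρφ, ← hρφ, hB, ← map_commutatorElement,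
        hfix _ (comm_mem_fixS h _ _)]
      rfl)
    (fun u => by
      apply Additive.toMul.injective
      apply Subtype.ext
      exact commutatorElement_self _)
  let L : Z → P := fun z => ((l z).toMul : P)
  have hLa : ∀ a b, L (a + b) = L a * L b := fun a b => by
    simp only [L, map_add]; rfl
  have hLc : ∀ a x, x * L a = L a * x := fun a x => mem_center_iff.1 (l a).toMul.2 x
  have hLB : ∀ x y, ⁅x, y⁆ = L (β (ρ x) (ρ y) - β (ρ y) (ρ x)) := fun x y => by
    rw [← hB, hl]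
  have hLf : ∀ a, L a ∈ fixS φ := fun a => by
    obtain ⟨u, v, rfl⟩ := hgen a
    rw [← hs u, ← hs v, ← hLB]
    exact comm_mem_fixS h _ _
  let T : P → P := fun y => y⁻¹ * (φ ^ j) y
  have hT : ∀ x y, ρ x = ρ y → T x = T y := by
    intro x y e
    obtain ⟨z, hz, rfl⟩ := heq _ _ e
    have hz' := mem_center_iff.1 (fixS_le_center h hz)
    simp only [T]
    rw [map_mul, hfix z hz, mul_inv_rev, mul_assoc, ← mul_assoc x⁻¹, hz', inv_mul_cancel_left]
  have hTρ : ∀ y, ρ (T y) = (ζ - 1) * ρ y := fun y => by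
    simp only [T]
    rw [hρ, hρi, hρφ]; ring
  have hTm : ∀ x y, T (x * y) = T x * ⁅(T x)⁻¹, y⁻¹⁆ * T y := fun x y => by
    simp only [T, map_mul, commutatorElement_def]; group
  have hz1 : ζ - 1 ≠ 0 := sub_ne_zero.2 hF.ne_one
  let γ : F → Z := fun u => β u u - β u (ζ * u)
  let ψ : Heis.{u} β →* P := MonoidHom.mk'
    (fun x => T (s (x.u / (ζ - 1))) * L (x.z - γ (x.u / (ζ - 1)))) (fun x y => by
      obtain ⟨a, ha⟩ : ∃ a, x.u = ζ * a - a := ⟨x.u / (ζ - 1), by field_simp⟩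
      obtain ⟨b, hb⟩ : ∃ b, y.u = ζ * b - b := ⟨y.u / (ζ - 1), by field_simp⟩
      have ha' : x.u / (ζ - 1) = a := by rw [ha]; field_simp
      have hb' : y.u / (ζ - 1) = b := by rw [hb]; field_simp
      rw [mul_u, mul_z, add_div, ha', hb', hT (s (a + b)) (s a * s b) (by rw [hρ, hs, hs, hs]),
        hTm, hLB, hρi, hρi, hTρ, hs, hs]
      have e : ∀ (c d : P) (e f : Z), c * L e * d * L f = c * d * L (e + f) := fun c d e f => by
        rw [hLa, mul_assoc c, ← hLc, ← mul_assoc c, mul_assoc (c * d)]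
      rw [← mul_assoc (T (s a) * L (x.z - γ a)), e, e]
      congr 2
      simp only [γ, ha, hb, sub_mul, one_mul, mul_add, map_add, map_sub, map_neg,
        AddMonoidHom.add_apply, AddMonoidHom.sub_apply, AddMonoidHom.neg_apply, hβ]
      abel)
  have hψ : ∀ x, ψ x = T (s (x.u / (ζ - 1))) * L (x.z - γ (x.u / (ζ - 1))) := fun _ => rfl
  have hψρ : ∀ x, ρ (ψ x) = x.u := fun x => by
    rw [hψ, hρ, (hρ0 _).2 (hLf _), hTρ, hs]; field_simp; ring
  have hψφ : ∀ x, ψ (rot hF.ne_zero hβ x) = (φ ^ j) (ψ x) := fun x => by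
    rw [hψ, hψ, map_mul, hfix _ (hLf _)]
    show T (s (ζ * x.u / (ζ - 1))) * L (x.z - γ (ζ * x.u / (ζ - 1))) = _
    rw [mul_div_assoc, hT _ ((φ ^ j) (s (x.u / (ζ - 1)))) (by rw [hρφ, hs, hs])]
    simp only [γ, T, hβ, map_mul, map_inv]
  refine ⟨j, hj, ψ, ?_, hψφ, fun x hx => by rw [← hψρ, hx, hρ1]⟩
  rw [← MonoidHom.range_eq_top]
  by_contra hne
  have := h.fix _ hne (inv_of_pow h hj (by rintro _ ⟨x, rfl⟩; exact ⟨_, hψφ x⟩)) _ ⟨⟨1, 0⟩, rfl⟩
  have h1 := (hρ0 _).2 this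
  rw [hψρ] at h1
  exact one_ne_zero h1

end Univ

end Cfsg.Agent.SchU
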