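import Mathlib
import Cfsg.Agent.FGS.SecRank
import Cfsg.Agent.Misc.Four
import Cfsg.Agent.Grp.CardProduct

set_option autoImplicit false

/-! Commuting pairs of non-abelian subgroups in 2-groups of sectional rank at most 4. -/

namespace Cfsg.Agent.FGS.SecRank
open Cfsg Subgroup
open scoped commutatorElement

variable {G : Type*} [Group G] {p k : ℕ}

theorem commutatorElement_mul_mul {a b a' b' : G} (h1 : Commute a b') (h2 : Commute a' b)
    (h3 : Commute a b) (h4 : Commute a' b') : ⁅a * b, a' * b'⁆ = ⁅a, a'⁆ * ⁅b, b'⁆ := by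
  have e1 : Commute a (b * b' * b⁻¹) := (h3.mul_right h1).mul_right h3.inv_right
  have e2 : Commute a' (b * b' * b⁻¹ * b'⁻¹) :=
    ((h2.mul_right h4).mul_right h2.inv_right).mul_right h4.inv_right
  calc ⁅a * b, a' * b'⁆ = a * (b * a') * b' * b⁻¹ * a⁻¹ * b'⁻¹ * a'⁻¹ := by
        rw [commutatorElement_def]; group
    _ = a * a' * ((b * b' * b⁻¹) * a⁻¹) * b'⁻¹ * a'⁻¹ := by rw [← h2.eq]; group
    _ = a * a' * a⁻¹ * ((b * b' * b⁻¹ * b'⁻¹) * a'⁻¹) := by rw [← e1.inv_left.eq]; group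
    _ = ⁅a, a'⁆ * ⁅b, b'⁆ := by
        rw [← e2.inv_left.eq, commutatorElement_def, commutatorElement_def]; group

theorem le_normalizer_of_commute {H K : Subgroup G} (h : ∀ a ∈ H, ∀ b ∈ K, Commute a b) :
    H ≤ normalizer (K : Set G) :=
  le_trans (fun a ha => mem_centralizer_iff.2 fun b hb => (h a ha b hb).symm.eq)
    (centralizer_le_normalizer _)

theorem commutator_sup_le {H K N : Subgroup G} (h : ∀ a ∈ H, ∀ b ∈ K, Commute a b)
    (hH : ⁅H, H⁆ ≤ N) (hK : ⁅K, K⁆ ≤ N) : ⁅H ⊔ K, H ⊔ K⁆ ≤ N := by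
  rw [commutator_le]
  intro x hx y hy
  obtain ⟨a, ha, b, hb, rfl⟩ := (Grp.mem_sup_of_le_normalizer (le_normalizer_of_commute h)).1 hx
  obtain ⟨a', ha', b', hb', rfl⟩ := (Grp.mem_sup_of_le_normalizer (le_normalizer_of_commute h)).1 hy
  rw [commutatorElement_mul_mul (h a ha b' hb') (h a' ha' b hb) (h a ha b hb) (h a' ha' b' hb')]
  exact mul_mem (hH (commutator_mem_commutator ha ha')) (hK (commutator_mem_commutator hb hb'))

theorem pow_sup_mem {H K N : Subgroup G} (h : ∀ a ∈ H, ∀ b ∈ K, Commute a b)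
    (hH : ∀ a ∈ H, a ^ p ∈ N) (hK : ∀ a ∈ K, a ^ p ∈ N) : ∀ x ∈ H ⊔ K, x ^ p ∈ N := by
  intro x hx
  obtain ⟨a, ha, b, hb, rfl⟩ := (Grp.mem_sup_of_le_normalizer (le_normalizer_of_commute h)).1 hx
  rw [(h a ha b hb).mul_pow]
  exact mul_mem (hH a ha) (hK b hb)

theorem card_sup_of_commute {H K : Subgroup G} (h : ∀ a ∈ H, ∀ b ∈ K, Commute a b)
    (hd : H ⊓ K = ⊥) : Nat.card (H ⊔ K : Subgroup G) = Nat.card H * Nat.card K := by
  have := Grp.card_sup_mul_card_inf_of_le_normalizer (le_normalizer_of_commute h)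
  rwa [hd, card_bot, mul_one] at this

theorem relIndex_sup_sup [Finite G] {H K N M : Subgroup G} (h : ∀ a ∈ H, ∀ b ∈ K, Commute a b)
    (hd : H ⊓ K = ⊥) (hN : N ≤ H) (hM : M ≤ K) :
    (N ⊔ M).relIndex (H ⊔ K) = N.relIndex H * M.relIndex K := by
  have e1 := Grp.card_mul_relIndex (sup_le_sup hN hM)
  rw [card_sup_of_commute h hd, card_sup_of_commute (fun a ha b hb => h a (hN ha) b (hM hb))
    (eq_bot_iff.2 ((inf_le_inf hN hM).trans hd.le)), ← Grp.card_mul_relIndex hN,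
    ← Grp.card_mul_relIndex hM] at e1
  have : 0 < Nat.card N * Nat.card M := Nat.mul_pos Nat.card_pos Nat.card_pos
  apply Nat.eq_of_mul_eq_mul_left this
  rw [e1]; ring

/-- `P` has centre `{1, z}`. -/
structure Zc (P : Subgroup G) (z : G) : Prop where
  mem : z ∈ P
  ne : z ≠ 1
  comm : ∀ a ∈ P, a * z = z * a
  eq : ∀ x ∈ P, (∀ a ∈ P, a * x = x * a) → x = 1 ∨ x = z

theorem Zc.sq {P : Subgroup G} {z : G} (h : Zc P z) : z * z = 1 := by
  rcases h.eq (z * z) (mul_mem h.mem h.mem) (fun a ha => by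
    rw [← mul_assoc, h.comm a ha, mul_assoc, h.comm a ha, mul_assoc]) with e | e
  · exact e
  · exact absurd (mul_eq_left.1 e) h.ne

theorem exists_zc {P : Subgroup G} (h : Nat.card (center P) = 2) :
    ∃ z, Zc P z ∧ ∀ x, x ∈ (center P).map P.subtype ↔ x = 1 ∨ x = z := by
  obtain ⟨y, hy, hu⟩ := (Nat.card_eq_two_iff' (1 : center P)).1 h
  have key : ∀ x, x ∈ (center P).map P.subtype ↔ x = 1 ∨ x = ((y : P) : G) := by
    intro x
    constructor
    · rintro ⟨u, hu', rfl⟩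
      by_cases e : (⟨u, hu'⟩ : center P) = 1
      · left; simpa using e
      · right; rw [← hu _ e]; rfl
    · rintro (rfl | rfl)
      · exact one_mem _
      · exact ⟨y, y.2, rfl⟩
  refine ⟨((y : P) : G), ⟨(y : P).2, fun e => hy (Subtype.ext (Subtype.ext e)), fun a ha => ?_,
    fun x hx hc => (key x).1 ⟨⟨x, hx⟩, ?_, rfl⟩⟩, key⟩
  · exact congrArg Subtype.val (mem_center_iff.1 y.2 ⟨a, ha⟩)
  · exact mem_center_iff.2 fun a => Subtype.ext (hc a a.2)

theorem exists_sec [Finite G] (h2 : IsPGroup 2 G) {P : Subgroup G} (hP : ¬ IsMulCommutative P)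
    {z : G} (hz : Zc P z) : ∃ N ≤ P, ⁅P, P⁆ ≤ N ∧ (∀ a ∈ P, a ^ 2 ∈ N) ∧ z ∈ N ∧
      4 ≤ N.relIndex P := by
  haveI : Fact (Nat.Prime 2) := ⟨Nat.prime_two⟩
  have hP2 := h2.to_subgroup P
  have hc : ⁅P, P⁆ ≤ (frattini P).map P.subtype := by
    rw [← map_subtype_commutator]
    exact map_mono (Grp.PFrattini.commutator_le_frattini hP2)
  refine ⟨(frattini P).map P.subtype, map_subtype_le _, hc, fun a ha =>
    ⟨⟨a, ha⟩ ^ 2, Grp.PFrattini.pow_mem_frattini hP2 _, rfl⟩, ?_, ?_⟩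
  · have hne : ⁅P, P⁆ ≠ ⊥ := by
      intro e
      apply hP
      refine Grp.PChain.isMulCommutative_of_commute fun a ha b hb => ?_
      have := commutator_mem_commutator ha hb
      rw [e, mem_bot] at this
      exact commutatorElement_eq_one_iff_commute.1 this
    obtain ⟨x, hx, hx1, hxc⟩ := Misc.exists_mem_centralizer_of_isPGroup hP2 (h2.to_subgroup _)
      (normalizer_commutator_ge_left P P) hne
    have hxP : x ∈ P := (map_subtype_le _) (hc hx)
    rcases hz.eq x hxP hxc with e | e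
    · exact absurd e hx1
    · exact e ▸ hc hx
  · have e : ((frattini P).map P.subtype).relIndex P = (frattini P).index := by
      rw [relIndex, subgroupOf, comap_map_eq_self_of_injective P.subtype_injective]
    rw [e]
    obtain ⟨n, hn⟩ := hP2.index (frattini P)
    by_contra hlt
    have hle : (frattini P).index ≤ 2 := by
      rw [hn] at hlt ⊢
      have : n < 2 := by
        by_contra h; exact hlt (le_trans (by norm_num) (Nat.pow_le_pow_right two_pos (not_lt.1 h)))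
      exact (Nat.pow_le_pow_right two_pos (by omega : n ≤ 1))
    obtain ⟨e, he⟩ := FT.R2.exists_sup_zpowers_of_index_le hP2 hle
    rw [sup_comm] at he
    have := frattini_nongenerating he
    haveI : IsCyclic P := isCyclic_iff_exists_zpowers_eq_top.2 ⟨e, this⟩
    exact hP inferInstance

theorem pair [Finite G] (h2 : IsPGroup 2 G) (hr : SectionalPRankLE 2 4 G) {P Q T : Subgroup G}
    (hPT : P ≤ T) (hQT : Q ≤ T) (hTP : T ≤ normalizer (P : Set G))
    (hTQ : T ≤ normalizer (Q : Set G)) (hP : ¬ IsMulCommutative P) (hQ : ¬ IsMulCommutative Q)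
    {z w : G} (hz : Zc P z) (hw : Zc Q w) (hne : z ≠ w) :
    P ⊓ Q = ⊥ ∧ (∀ a ∈ P, ∀ b ∈ Q, Commute a b) ∧
      ∀ c : G, (∀ a ∈ P, Commute a c) → (∀ a ∈ Q, Commute a c) →
        c = 1 ∨ c = z ∨ c = w ∨ c = z * w := by
  haveI : Fact (Nat.Prime 2) := ⟨Nat.prime_two⟩
  have hd : P ⊓ Q = ⊥ := by
    by_contra hd
    obtain ⟨x, hx, hx1, hxc⟩ := Misc.exists_mem_centralizer_of_isPGroup (h2.to_subgroup T)
      (h2.to_subgroup (P ⊓ Q)) ((le_inf hTP hTQ).trans inf_normalizer_le_normalizer_inf) hd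
    have e1 := (hz.eq x hx.1 fun a ha => hxc a (hPT ha)).resolve_left hx1
    have e2 := (hw.eq x hx.2 fun a ha => hxc a (hQT ha)).resolve_left hx1
    exact hne (e1.symm.trans e2)
  have hc : ∀ a ∈ P, ∀ b ∈ Q, Commute a b := by
    intro a ha b hb
    rw [← commutatorElement_eq_one_iff_commute, ← mem_bot, ← hd, commutatorElement_def]
    constructor
    · have := (mem_normalizer_iff.1 (hTP (hQT hb)) a⁻¹).1 (inv_mem ha)
      simpa [mul_assoc] using mul_mem ha this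
    · exact Q.mul_mem ((mem_normalizer_iff.1 (hTQ (hPT ha)) b).1 hb) (Q.inv_mem hb)
  have hin : ∀ c ∈ P ⊔ Q, (∀ a ∈ P, Commute a c) → (∀ a ∈ Q, Commute a c) →
      c = 1 ∨ c = z ∨ c = w ∨ c = z * w := by
    intro c hc' h1 h3
    obtain ⟨a, ha, b, hb, rfl⟩ := (Grp.mem_sup_of_le_normalizer (le_normalizer_of_commute hc)).1 hc'
    have e1 := hz.eq a ha fun x hx => by
      have := (h1 x hx).mul_right (hc x hx b hb).inv_right
      rwa [mul_inv_cancel_right] at this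
    have e2 := hw.eq b hb fun x hx => by
      have := (hc a ha x hx).symm.inv_right.mul_right (h3 x hx)
      rwa [inv_mul_cancel_left] at this
    rcases e1 with rfl | rfl <;> rcases e2 with rfl | rfl <;> simp
  refine ⟨hd, hc, fun c h1 h3 => hin c ?_ h1 h3⟩
  by_contra hcn
  obtain ⟨j, hj1, hj2⟩ := Grp.PChain.exists_pow_notMem_pow_mem h2 (P ⊔ Q) hcn
  set d := c ^ 2 ^ j with hd'
  have d1 : ∀ a ∈ P, Commute a d := fun a ha => (h1 a ha).pow_right _
  have d2 : ∀ a ∈ Q, Commute a d := fun a ha => (h3 a ha).pow_right _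
  obtain ⟨N, hNP, hN1, hN2, hN3, hN4⟩ := exists_sec h2 hP hz
  obtain ⟨M, hMQ, hM1, hM2, hM3, hM4⟩ := exists_sec h2 hQ hw
  have hdd : d ^ 2 ∈ N ⊔ M := by
    rcases hin _ hj2 (fun a ha => (d1 a ha).pow_right _) (fun a ha => (d2 a ha).pow_right _)
      with e | e | e | e <;> rw [e]
    · exact one_mem _
    · exact mem_sup_left hN3
    · exact mem_sup_right hM3
    · exact mul_mem (mem_sup_left hN3) (mem_sup_right hM3)
  have hcd : ∀ a ∈ P ⊔ Q, ∀ b ∈ zpowers d, Commute a b := by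
    rintro x hx _ ⟨i, rfl⟩
    obtain ⟨a, ha, b, hb, rfl⟩ := (Grp.mem_sup_of_le_normalizer (le_normalizer_of_commute hc)).1 hx
    exact ((d1 a ha).mul_left (d2 b hb)).zpow_right i
  have hle := relIndex_le hr (N := N ⊔ M) (H := P ⊔ Q ⊔ zpowers d)
    (commutator_sup_le hcd (commutator_sup_le hc (hN1.trans le_sup_left) (hM1.trans le_sup_right))
      (by rw [commutator_self_eq_bot_iff.2 inferInstance]; exact bot_le))
    (pow_sup_mem hcd (pow_sup_mem hc (fun a ha => mem_sup_left (hN2 a ha))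
      (fun a ha => mem_sup_right (hM2 a ha))) (by
        rintro _ ⟨i, rfl⟩
        simp only
        rw [← zpow_natCast, ← zpow_mul, mul_comm, zpow_mul, zpow_natCast]
        exact zpow_mem hdd i))
  rw [← relIndex_mul_relIndex (N ⊔ M) (P ⊔ Q) _ (sup_le_sup hNP hMQ) le_sup_left,
    relIndex_sup_sup hc hd hNP hMQ] at hle
  have i1 : (P ⊔ Q).relIndex (P ⊔ Q ⊔ zpowers d) ≠ 1 := fun e =>
    hj1 (relIndex_eq_one.1 e (mem_sup_right (mem_zpowers d)))
  have i0 : (P ⊔ Q).relIndex (P ⊔ Q ⊔ zpowers d) ≠ 0 := index_ne_zero_of_finite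
  have : 4 * 4 * 2 ≤ N.relIndex P * M.relIndex Q * (P ⊔ Q).relIndex (P ⊔ Q ⊔ zpowers d) :=
    Nat.mul_le_mul (Nat.mul_le_mul hN4 hM4) (by omega)
  omega

/-- In the situation of `pair`, each factor has sectional rank at most 2. -/
theorem rank_two_of_commute [Finite G] (h2 : IsPGroup 2 G) (hr : SectionalPRankLE 2 4 G)
    {P Q : Subgroup G} (hd : P ⊓ Q = ⊥) (hc : ∀ a ∈ P, ∀ b ∈ Q, Commute a b)
    (hQ : ¬ IsMulCommutative Q) {w : G} (hw : Zc Q w) : SectionalPRankLE 2 2 P := by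
  refine subgroup_of_relIndex_le fun N H hNH hHP h1 h3 => ?_
  obtain ⟨M, hMQ, hM1, hM2, -, hM4⟩ := exists_sec h2 hQ hw
  have hc' : ∀ a ∈ H, ∀ b ∈ Q, Commute a b := fun a ha => hc a (hHP ha)
  have hle := relIndex_le hr (N := N ⊔ M) (H := H ⊔ Q)
    (commutator_sup_le hc' (h1.trans le_sup_left) (hM1.trans le_sup_right))
    (pow_sup_mem hc' (fun a ha => mem_sup_left (h3 a ha)) (fun a ha => mem_sup_right (hM2 a ha)))
  rw [relIndex_sup_sup hc' (eq_bot_iff.2 ((inf_le_inf_right Q hHP).trans hd.le)) hNH hMQ] at hle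
  have := Nat.mul_le_mul_left (N.relIndex H) hM4
  omega

end Cfsg.Agent.FGS.SecRank
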