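import Mathlib
import Cfsg.Agent.FGS.ShumCore
import Cfsg.Agent.S3757

/-!
# Coprime action of an elementary abelian group of rank at least three: bounded class of the
terms of the lower central and derived series
-/

set_option autoImplicit false

open Cfsg
open scoped commutatorElement

namespace Cfsg.Agent.FGS.Shum

open Subgroup Solv.Ext PLocal.CommMod

universe u

section T

variable {G : Type*} [Group G]

/-- The derived series (`δ = true`) or the lower central series (`δ = false`). -/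
def TT (δ : Bool) (X : Subgroup G) : ℕ → Subgroup G
  | 0 => X
  | n + 1 => ⁅TT δ X n, if δ then TT δ X n else X⁆

theorem map_TT {G' : Type*} [Group G'] (f : G →* G') (δ : Bool) (X : Subgroup G) (n : ℕ) :
    (TT δ X n).map f = TT δ (X.map f) n := by
  induction n with
  | zero => rfl
  | succ n ih => cases δ <;> simp [TT, Subgroup.map_commutator, ih]

theorem TT_mono (δ : Bool) {X Y : Subgroup G} (h : X ≤ Y) (n : ℕ) : TT δ X n ≤ TT δ Y n := by
  induction n with
  | zero => exact h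
  | succ n ih =>
    cases δ
    · exact commutator_mono ih h
    · exact commutator_mono ih ih

theorem TT_top_normal (δ : Bool) (n : ℕ) : (TT δ (⊤ : Subgroup G) n).Normal := by
  induction n with
  | zero => exact (inferInstance : (⊤ : Subgroup G).Normal)
  | succ n ih =>
    cases δ
    · exact (inferInstance : (⁅TT false (⊤ : Subgroup G) n, (⊤ : Subgroup G)⁆).Normal)
    · exact (inferInstance : (⁅TT true (⊤ : Subgroup G) n, TT true (⊤ : Subgroup G) n⁆).Normal)

theorem map_TT_top (δ : Bool) (X : Subgroup G) (n : ℕ) :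
    (TT δ (⊤ : Subgroup X) n).map X.subtype = TT δ X n := by
  rw [map_TT, ← MonoidHom.range_eq_map, range_subtype]

theorem commutator_TT_le (δ : Bool) (X : Subgroup G) (n : ℕ) : ⁅X, TT δ X n⁆ ≤ TT δ X n := by
  have := TT_top_normal (G := X) δ n
  have h := Subgroup.map_mono (f := X.subtype)
    (commutator_le_right (⊤ : Subgroup X) (TT δ (⊤ : Subgroup X) n))
  rwa [Subgroup.map_commutator, map_TT_top, ← MonoidHom.range_eq_map, range_subtype] at h

theorem TT_false (X : Subgroup G) (n : ℕ) : TT false X n = X.lowerCentralSeries n := by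
  induction n with
  | zero => rfl
  | succ n ih => rw [Subgroup.lowerCentralSeries_succ, ← ih]; rfl

theorem TT_true_top (n : ℕ) : TT true (⊤ : Subgroup G) n = derivedSeries G n := by
  induction n with
  | zero => rfl
  | succ n ih => rw [derivedSeries_succ, ← ih]; rfl

/-- The weight of the commutator word. -/
def wt (δ : Bool) : ℕ → ℕ
  | 0 => 1
  | n + 1 => wt δ n + if δ then wt δ n else 1

theorem wt_false (n : ℕ) : wt false n = n + 1 := by
  induction n with
  | zero => rfl
  | succ n ih => simp [wt, ih]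

theorem wt_true (n : ℕ) : wt true n = 2 ^ n := by
  induction n with
  | zero => rfl
  | succ n ih => simp [wt, ih, pow_succ, mul_two]

/-- A bound for the number of special subgroups. -/
def cnt (δ : Bool) (u : ℕ) : ℕ → ℕ
  | 0 => u
  | n + 1 => cnt δ u n * ((if δ then cnt δ u n else u) * u)

end T

section D

variable {G : Type u} [Group G]

theorem dser_le (X : Subgroup G) (n : ℕ) : dser X n ≤ X := by
  induction n with
  | zero => exact le_rfl
  | succ n ih => exact (commutator_le_self _).trans ih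

theorem dser_add (X : Subgroup G) (m n : ℕ) : dser X (m + n) = dser (dser X m) n := by
  induction n with
  | zero => rfl
  | succ n ih => change ⁅dser X (m + n), dser X (m + n)⁆ = _; rw [ih]; rfl

theorem dser_mono {X Y : Subgroup G} (h : X ≤ Y) (n : ℕ) : dser X n ≤ dser Y n := by
  induction n with
  | zero => exact h
  | succ n ih => exact commutator_mono ih ih

theorem dser_le_TT (δ : Bool) (X : Subgroup G) (n : ℕ) : dser X n ≤ TT δ X n := by
  induction n with
  | zero => exact le_rfl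
  | succ n ih =>
    cases δ
    · exact commutator_mono ih (dser_le X n)
    · exact commutator_mono ih ih

theorem map_dser {G' : Type u} [Group G'] (f : G →* G') (X : Subgroup G) (n : ℕ) :
    (dser X n).map f = dser (X.map f) n := by
  induction n with
  | zero => rfl
  | succ n ih => simp [dser, Subgroup.map_commutator, ih]

theorem isSolvable_of_dser {X : Subgroup G} {n : ℕ} (h : dser X n = ⊥) : Group.IsSolvable X := by
  have h1 : ∀ n, (derivedSeries X n).map X.subtype = dser X n := by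
    intro n
    induction n with
    | zero => rw [derivedSeries_zero, ← MonoidHom.range_eq_map, range_subtype]; rfl
    | succ n ih => rw [derivedSeries_succ, Subgroup.map_commutator, ih]; rfl
  exact ⟨n, (map_eq_bot_iff_of_injective _ X.subtype_injective).1 ((h1 n).trans h)⟩

theorem dser_eq_bot {δ : Bool} {X : Subgroup G} {n c : ℕ}
    (h : (TT δ X n).lowerCentralSeries c = ⊥) : dser X (n + c) = ⊥ := by
  rw [dser_add]
  refine le_bot_iff.1 ((dser_mono (dser_le_TT δ X n) c).trans ((dser_le_TT false _ c).trans ?_))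
  rw [TT_false, h]

end D

section Special

variable (p : ℕ) (A : Type*) [Group A] (G : Type u) [Group G] [MulDistribMulAction A G]

/-- The centralizers of the hyperplanes. -/
def base : Set (Subgroup G) := {J | ∃ B : Subgroup A, B.index = p ∧ J = CF G B}

variable {G} in
/-- The next layer of special subgroups. -/
def comb (S R : Set (Subgroup G)) : Set (Subgroup G) :=
  {J | ∃ J₁ ∈ S, ∃ J₂ ∈ R, ∃ B : Subgroup A, B.index = p ∧ J = ⁅J₁, J₂⁆ ⊓ CF G B}

/-- The special subgroups. -/
def Sp (δ : Bool) : ℕ → Set (Subgroup G)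
  | 0 => base p A G
  | n + 1 => comb p A (Sp δ n) (if δ then Sp δ n else base p A G)

/-- The second factors. -/
def Rs (δ : Bool) (n : ℕ) : Set (Subgroup G) := if δ then Sp p A G δ n else base p A G

variable {p A G}

theorem Sp_succ (δ : Bool) (n : ℕ) :
    Sp p A G δ (n + 1) = comb p A (Sp p A G δ n) (Rs p A G δ n) := rfl

theorem EA.inv_base (hA : EA p A) {J : Subgroup G} (h : J ∈ base p A G) : Inv A J := by
  obtain ⟨B, -, rfl⟩ := h
  exact hA.inv_CF B

theorem EA.inv_Sp (hA : EA p A) (δ : Bool) (n : ℕ) : ∀ J ∈ Sp p A G δ n, Inv A J := by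
  induction n with
  | zero => exact fun J => hA.inv_base
  | succ n ih =>
    rintro _ ⟨J₁, h₁, J₂, h₂, B, -, rfl⟩
    refine ((ih _ h₁).commutator ?_).inf (hA.inv_CF B)
    cases δ
    · exact hA.inv_base h₂
    · exact ih _ h₂

theorem EA.inv_Rs (hA : EA p A) (δ : Bool) (n : ℕ) : ∀ J ∈ Rs p A G δ n, Inv A J := by
  cases δ
  · exact fun J => hA.inv_base
  · exact hA.inv_Sp true n

theorem dom_base (δ : Bool) (n : ℕ) : ∀ J ∈ Sp p A G δ n, ∃ J' ∈ base p A G, J ≤ J' := by
  cases n with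
  | zero => exact fun J h => ⟨J, h, le_rfl⟩
  | succ n =>
    rintro _ ⟨J₁, -, J₂, -, B, hB, rfl⟩
    exact ⟨_, ⟨B, hB, rfl⟩, inf_le_right⟩

theorem dom_Rs (δ : Bool) (n : ℕ) : ∀ J ∈ Sp p A G δ n, ∃ J' ∈ Rs p A G δ n, J ≤ J' := by
  cases δ
  · exact dom_base false n
  · exact fun J h => ⟨J, h, le_rfl⟩

theorem dom_succ (δ : Bool) (n : ℕ) : ∀ J ∈ Sp p A G δ (n + 1), ∃ J' ∈ Sp p A G δ n, J ≤ J' := by
  induction n with
  | zero => exact dom_base δ 1
  | succ n ih =>
    rintro _ ⟨J₁, h₁, J₂, h₂, B, hB, rfl⟩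
    obtain ⟨K₁, k₁, l₁⟩ := ih _ h₁
    have : ∃ K₂ ∈ Rs p A G δ n, J₂ ≤ K₂ := by
      cases δ
      · exact ⟨J₂, h₂, le_rfl⟩
      · exact ih _ h₂
    obtain ⟨K₂, k₂, l₂⟩ := this
    exact ⟨_, ⟨K₁, k₁, K₂, k₂, B, hB, rfl⟩, inf_le_inf_right _ (commutator_mono l₁ l₂)⟩

theorem exists_le_TT [Finite A] (δ : Bool) (n : ℕ) : ∀ J ∈ Sp p A G δ n,
    ∃ D : Subgroup A, D.index ≤ p ^ wt δ n ∧ J ≤ TT δ (CF G D) n := by
  induction n with
  | zero =>
    rintro _ ⟨B, hB, rfl⟩
    exact ⟨B, by rw [hB]; simp [wt], le_rfl⟩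
  | succ n ih =>
    rintro _ ⟨J₁, h₁, J₂, h₂, B, -, rfl⟩
    obtain ⟨D₁, d₁, l₁⟩ := ih _ h₁
    cases δ
    · obtain ⟨D₂, d₂, rfl⟩ := h₂
      refine ⟨D₁ ⊓ D₂, index_inf_le.trans ?_, inf_le_left.trans (commutator_mono
        (l₁.trans (TT_mono _ (CF_anti inf_le_left) n)) (CF_anti inf_le_right))⟩
      rw [d₂]
      simpa [wt, pow_succ] using Nat.mul_le_mul_right p d₁
    · obtain ⟨D₂, d₂, l₂⟩ := ih _ h₂
      refine ⟨D₁ ⊓ D₂, index_inf_le.trans ?_, inf_le_left.trans (commutator_mono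
        (l₁.trans (TT_mono _ (CF_anti inf_le_left) n))
        (l₂.trans (TT_mono _ (CF_anti inf_le_right) n)))⟩
      simpa [wt, pow_add] using Nat.mul_le_mul d₁ d₂

theorem card_base_le [Finite A] [Finite G] {u : ℕ} (hu : Nat.card (Subgroup A) ≤ u) :
    Nat.card (base p A G) ≤ u := by
  refine le_trans (Nat.card_mono (Set.toFinite _) ?_)
    ((Finite.card_range_le fun B : Subgroup A => CF G B).trans hu)
  rintro _ ⟨B, -, rfl⟩
  exact ⟨B, rfl⟩

theorem card_Sp_le [Finite A] [Finite G] {u : ℕ} (hu : Nat.card (Subgroup A) ≤ u) (δ : Bool)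
    (n : ℕ) : Nat.card (Sp p A G δ n) ≤ cnt δ u n := by
  induction n with
  | zero => exact card_base_le hu
  | succ n ih =>
    have h1 : Nat.card (Rs p A G δ n) ≤ if δ then cnt δ u n else u := by
      cases δ
      · exact card_base_le hu
      · exact ih
    refine le_trans (Nat.card_mono (Set.toFinite _) ?_)
      ((Finite.card_range_le fun x : Sp p A G δ n × Rs p A G δ n × Subgroup A =>
        ⁅x.1.1, x.2.1.1⁆ ⊓ CF G x.2.2).trans ?_)
    · rintro _ ⟨J₁, h₁, J₂, h₂, B, -, rfl⟩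
      exact ⟨(⟨J₁, h₁⟩, ⟨J₂, h₂⟩, B), rfl⟩
    · rw [Nat.card_prod, Nat.card_prod]
      exact Nat.mul_le_mul ih (Nat.mul_le_mul h1 hu)

variable [Finite A] [Finite G] [Fact p.Prime]

theorem EA.sSup_base (hA : EA p A) (hcop : (Nat.card G).Coprime p) : sSup (base p A G) = ⊤ :=
  top_le_iff.1 (hA.gen inv_top (by rwa [card_top]) _ fun B hB =>
    inf_le_right.trans (le_sSup ⟨B, hB, rfl⟩))

theorem EA.sSup_Sp (hA : EA p A) (hcop : (Nat.card G).Coprime p) (δ : Bool) (n : ℕ) :
    sSup (Sp p A G δ n) = TT δ ⊤ n := by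
  induction n with
  | zero => exact hA.sSup_base hcop
  | succ n ih =>
    have h1 : sSup (Rs p A G δ n) = if δ then TT δ ⊤ n else ⊤ := by
      cases δ
      · exact hA.sSup_base hcop
      · exact ih
    change _ = ⁅TT δ ⊤ n, if δ then TT δ ⊤ n else ⊤⁆
    rw [← h1, ← ih]
    have h2 : ∀ J₁ ∈ Sp p A G δ n, ∀ J₂ ∈ Rs p A G δ n, ⁅J₁, J₂⁆ ≤ sSup (Sp p A G δ (n + 1)) :=
      fun J₁ h₁ J₂ h₂ => hA.gen ((hA.inv_Sp δ n _ h₁).commutator (hA.inv_Rs δ n _ h₂))
        (Nat.Coprime.coprime_dvd_left (Subgroup.card_subgroup_dvd_card _) hcop) _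
        fun B hB => le_sSup ⟨J₁, h₁, J₂, h₂, B, hB, rfl⟩
    have h3 : ∀ J₂ ∈ Rs p A G δ n, J₂ ≤ normalizer (sSup (Sp p A G δ (n + 1)) : Subgroup G) := by
      intro J₂ h₂
      rw [le_normalizer_iff_commutator_le_left]
      refine commutator_sSup_le (fun M hM => (le_sSup hM).trans le_normalizer) fun M hM => ?_
      obtain ⟨J₁, h₁, hle⟩ := dom_succ δ n M hM
      exact (commutator_mono hle le_rfl).trans (h2 J₁ h₁ J₂ h₂)
    refine le_antisymm (sSup_le ?_) (commutator_sSup_le (fun J₁ h₁ => ?_) fun J₁ h₁ => ?_)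
    · rintro _ ⟨J₁, h₁, J₂, h₂, B, -, rfl⟩
      exact inf_le_left.trans (commutator_mono (le_sSup h₁) (le_sSup h₂))
    · obtain ⟨J₂, h₂, hle⟩ := dom_Rs δ n J₁ h₁
      exact hle.trans (h3 J₂ h₂)
    · rw [commutator_comm]
      exact commutator_sSup_le h3 fun J₂ h₂ => by rw [commutator_comm]; exact h2 J₁ h₁ J₂ h₂

theorem EA.isSolvable_of_fixed (hA : EA p A) (hcop : (Nat.card G).Coprime p)
    (hrank : p ^ 3 ≤ Nat.card A) (h : ∀ a : A, a ≠ 1 → Group.IsSolvable (CF G (zpowers a))) :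
    Group.IsSolvable G := by
  have := finite_SD (A := A) (G := G)
  have h1 : IsElementaryAbelian p (iA A G).range := by
    refine PLocal.isEA_iff.2 ⟨?_, ?_⟩
    · rintro _ ⟨a, rfl⟩ _ ⟨b, rfl⟩
      rw [← map_mul, ← map_mul, hA.comm]
    · rintro _ ⟨a, rfl⟩
      rw [← map_pow, hA.pow, map_one]
  have := normal_range_iG (A := A) (G := G)
  have h2 := S3757.result (iA A G).range (iG A G).range h1 (by rwa [card_range_iA])
    le_normalizer_of_normal (by rwa [card_range_iG]) (by
      rintro _ ⟨a, rfl⟩ ha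
      have h3 := isSolvable_map_iG (A := A) (h a fun e => ha (by rw [e, map_one]))
      refine Group.isSolvable_of_isSolvable_injective (inclusion_injective
        (H := (iG A G).range ⊓ centralizer {iA A G a}) (K := (CF G (zpowers a)).map (iG A G)) ?_)
      rintro _ ⟨⟨g, rfl⟩, hg⟩
      refine ⟨g, mem_CF.2 fun b hb => ?_, rfl⟩
      have h4 : a • g = g := by
        apply iG_injective (A := A)
        rw [iG_smul, ← mem_centralizer_singleton_iff.1 hg, mul_inv_cancel_right]
      exact (zpowers_le (H := MulAction.stabilizer A g)).2 h4 hb)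
  exact Group.isSolvable_of_isSolvable_injective (f := (iG A G).rangeRestrict)
    ((iG A G).rangeRestrict_injective_iff.2 iG_injective)

theorem EA.main (hA : EA p A) (hcop : (Nat.card G).Coprime p) {k : ℕ} (hk : Nat.card A = p ^ k)
    (hk3 : 3 ≤ k) (δ : Bool) {n c : ℕ} (hw : wt δ n + 2 ≤ k)
    (h : ∀ a : A, a ≠ 1 → (TT δ (CF G (zpowers a)) n).lowerCentralSeries c = ⊥) :
    (TT δ (⊤ : Subgroup G) n).lowerCentralSeries
      (bnd p (cnt δ (2 ^ p ^ k) n) (c + 1) (n + c)) = ⊥ := by
  have hp : p.Prime := Fact.out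
  have hsol := hA.isSolvable_of_fixed hcop (hk ▸ Nat.pow_le_pow_right hp.pos hk3)
    fun a ha => isSolvable_of_dser (dser_eq_bot (h a ha))
  have hu : Nat.card (Subgroup A) ≤ 2 ^ p ^ k := by
    have := Fintype.ofFinite A
    rw [← hk, Nat.card_eq_fintype_card (α := A), ← Fintype.card_set, ← Nat.card_eq_fintype_card]
    exact Nat.card_le_card_of_injective _ SetLike.coe_injective
  have hm : ∀ J ∈ Sp p A G δ n, ∀ B : Subgroup A, B.index = p →
      iterCommutator (CF G B) J (c + 1) = ⊥ := by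
    intro J hJ B hB
    obtain ⟨D, hD, hJD⟩ := exists_le_TT δ n J hJ
    have hne : D ⊓ B ≠ ⊥ := by
      intro e
      have h1 := index_inf_le (H := D) (K := B)
      rw [e, index_bot, hk, hB] at h1
      have h2 : p ^ k ≤ p ^ (wt δ n + 1) := h1.trans (by
        rw [pow_succ]; exact Nat.mul_le_mul_right p hD)
      have := (Nat.pow_le_pow_iff_right hp.one_lt).1 h2
      omega
    obtain ⟨⟨a, ha⟩, ha1⟩ := ne_bot_iff_exists_ne_one.1 hne
    have ha1' : a ≠ 1 := fun e => ha1 (Subtype.ext e)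
    have hJ' : J ≤ TT δ (CF G (zpowers a)) n :=
      hJD.trans (TT_mono δ (CF_anti (zpowers_le.2 ha.1)) n)
    rw [iter_succ', eq_bot_iff, ← h a ha1', ← iter_eq_lowerCentralSeries]
    refine iter_mono ?_ hJ' c
    exact (commutator_mono (CF_anti (zpowers_le.2 ha.2)) hJ').trans (commutator_TT_le _ _ _)
  set N := TT δ (⊤ : Subgroup G) n with hN
  have hNs : sSup (Sp p A G δ n) = N := hA.sSup_Sp hcop δ n
  have hNi : Inv A N := by
    rw [← hNs, sSup_eq_iSup']
    exact inv_iSup fun J => hA.inv_Sp δ n _ J.2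
  obtain ⟨_, hq⟩ := exists_subAction hNi
  have hCF : ∀ B : Subgroup A, (CF N B).map N.subtype ≤ CF G B := by
    rintro B _ ⟨x, hx, rfl⟩
    exact mem_CF.2 fun b hb => by
      rw [Subgroup.coe_subtype, ← hq, mem_CF.1 hx b hb]
  have := hA.nt
  obtain ⟨a, ha⟩ := exists_ne (1 : A)
  have hcore := hA.core (G := N)
    (Nat.Coprime.coprime_dvd_left (Subgroup.card_subgroup_dvd_card _) hcop) inferInstance
    (card_Sp_le hu δ n) (m := c + 1) (s := n + c) (fun J => J.1.subgroupOf N)
    (fun J => (hA.inv_Sp δ n _ J.2).comap fun a x => (hq a x).symm) ?_ ?_ ?_ a ?_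
  · rw [← top_subtype_lowerCentralSeries, hcore, Subgroup.map_bot]
  · apply map_injective N.subtype_injective
    rw [Subgroup.map_iSup, ← MonoidHom.range_eq_map, range_subtype]
    conv_rhs => rw [← hNs, sSup_eq_iSup']
    exact iSup_congr fun J => map_subgroupOf_eq_of_le (hNs ▸ le_sSup J.2)
  · intro J B hB
    rw [← map_eq_bot_iff_of_injective _ N.subtype_injective, map_iter, eq_bot_iff,
      ← hm J.1 J.2 B hB]
    exact iter_mono (hCF B) (map_comap_le _ _) _
  · intro J J' B hB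
    obtain ⟨J₂, h₂, l₂⟩ := dom_Rs δ n _ J'.2
    obtain ⟨K, hK, lK⟩ := dom_succ δ n _ ⟨J.1, J.2, J₂, h₂, B, hB, rfl⟩
    refine ⟨⟨K, hK⟩, map_le_iff_le_comap.1 (le_trans ?_ lK)⟩
    refine (map_inf_le _ _ _).trans (inf_le_inf ?_ (hCF B))
    rw [Subgroup.map_commutator]
    exact commutator_mono (map_comap_le _ _) ((map_comap_le _ _).trans l₂)
  · rw [← map_eq_bot_iff_of_injective _ N.subtype_injective, map_dser, eq_bot_iff,
      ← dser_eq_bot (h a ha)]
    exact dser_mono (hCF _) _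

end Special

/-- The statement for a group of automorphisms. -/
theorem main_aut {p k : ℕ} (hp : p.Prime) (hk3 : 3 ≤ k) (δ : Bool) {n c : ℕ}
    (hw : wt δ n + 2 ≤ k) (G : Type u) [Group G] [Finite G] (hcop : (Nat.card G).Coprime p)
    (A : Subgroup (MulAut G)) (hA : IsElementaryAbelian p A) (hk : Nat.card A = p ^ k)
    (h : ∀ a ∈ A, a ≠ 1 → (TT δ (⊤ : Subgroup ((a : MulAut G).toMonoidHom.eqLocus
      (MonoidHom.id G))) n).lowerCentralSeries c = ⊥) :
    (TT δ (⊤ : Subgroup G) n).lowerCentralSeries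
      (bnd p (cnt δ (2 ^ p ^ k) n) (c + 1) (n + c)) = ⊥ := by
  have := Fact.mk hp
  have hA' : EA p A := by
    refine ⟨fun a b => Subtype.ext ((PLocal.isEA_iff.1 hA).1 a a.2 b b.2),
      fun a => Subtype.ext (hA.2 a a.2), ?_⟩
    rw [← Finite.one_lt_card_iff_nontrivial, hk]
    exact Nat.one_lt_pow (by omega) hp.one_lt
  refine hA'.main hcop hk hk3 δ hw fun a ha => ?_
  have h1 := congrArg (Subgroup.map (Subgroup.subtype _)) (h a a.2 fun e => ha (Subtype.ext e))
  rw [Subgroup.map_lowerCentralSeries, map_TT_top, Subgroup.map_bot] at h1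
  rw [eq_bot_iff, ← h1]
  refine Subgroup.lowerCentralSeries_mono c (TT_mono δ (fun x hx => ?_) n)
  exact mem_CF.1 hx a (mem_zpowers a)

end Cfsg.Agent.FGS.Shum
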