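import Mathlib
import Cfsg.Agent.FGS.ShumMain

/-!
# Index bounds from centralizers of hyperplanes under coprime action
-/

set_option autoImplicit false

open Cfsg
open scoped commutatorElement

namespace Cfsg.Agent.FGS.Shum

open Subgroup Solv.Ext PLocal.CommMod

universe u

section Gen

variable {G : Type*} [Group G] [Finite G]

theorem relIndex_finsup_le {ι : Type*} {N Q : Subgroup G} (hQ : Q ≤ N) (hc : ⁅N, N⁆ ≤ Q)
    (X : ι → Subgroup G) (hX : ∀ i, X i ≤ N) (s : Finset ι) :
    Q.relIndex (s.sup X ⊔ Q) ≤ ∏ i ∈ s, Q.relIndex (X i) := by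
  classical
  induction s using Finset.induction_on with
  | empty => simp
  | insert a s ha ih =>
    rw [Finset.sup_insert, Finset.prod_insert ha, sup_assoc,
      ← relIndex_mul_relIndex Q (s.sup X ⊔ Q) _ le_sup_right le_sup_right, mul_comm]
    refine Nat.mul_le_mul ?_ ih
    have h1 : s.sup X ⊔ Q ≤ N := sup_le (Finset.sup_le fun i _ => hX i) hQ
    rw [PLocal.relIndex_sup_of_le_normalizer (le_normalizer_iff_commutator_le_right.2
      ((commutator_mono (hX a) h1).trans (hc.trans le_sup_right)))]
    exact relIndex_le_of_le_left le_sup_right index_ne_zero_of_finite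

/-- A group generated by boundedly many elements of bounded order with boundedly many conjugates
has bounded order. -/
theorem card_le_of_gens {S : Set G} (hS : closure S = ⊤) {t e u : ℕ} (ht : Nat.card S ≤ t)
    (he : e ≠ 0) (hp : ∀ x ∈ S, x ^ e = 1) (hu : ∀ x ∈ S, (centralizer {x}).index ≤ u)
    (hu0 : u ≠ 0) : Nat.card G ≤ (u ^ t * e) ^ (u ^ t * t) * u ^ t := by
  classical
  have := Fintype.ofFinite S
  have hr : (center G).index ≤ u ^ t := by
    have h1 : ⨅ x : S, centralizer {(x : G)} ≤ center G := by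
      intro g hg
      rw [← centralizer_univ, ← coe_top, ← hS, centralizer_closure]
      intro x hx
      exact (mem_centralizer_singleton_iff.1 (mem_iInf.1 hg ⟨x, hx⟩)).symm
    refine (index_antitone h1).trans ((index_iInf_le _).trans ?_)
    refine (Finset.prod_le_pow_card _ _ u fun (x : S) _ => hu x.1 x.2).trans ?_
    rw [Finset.card_univ, ← Nat.card_eq_fintype_card]
    exact Nat.pow_le_pow_right (Nat.pos_of_ne_zero hu0) ht
  have hexp : ∀ g : G, (MonoidHom.transferCenterPow G g) ^ e = 1 := by
    intro g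
    have hg : g ∈ closure S := hS ▸ mem_top g
    induction hg using closure_induction with
    | mem x hx => rw [← map_pow, hp x hx, map_one]
    | one => rw [map_one, one_pow]
    | mul x y _ _ hx hy =>
      rw [map_mul, Commute.mul_pow, hx, hy, one_mul]
      exact Subtype.ext (mem_center_iff.1 (MonoidHom.transferCenterPow G y).2 _)
    | inv x _ hx => rw [map_inv, inv_pow, hx, inv_one]
  have hrank : Group.rank G ≤ t := by
    have h1 := Subgroup.rank_closure_finite_le_nat_card S
    rw [Subgroup.rank_congr hS] at h1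
    exact (Group.rank_congr Subgroup.topEquiv).symm.le.trans (h1.trans ht)
  have h2 := rank_le_index_mul_rank (center G)
  have h3 : Nat.card (center G) ∣ ((center G).index * e) ^ Group.rank (center G) := by
    open scoped IsMulCommutative in
    apply card_dvd_exponent_pow_rank'
    intro g
    apply Subtype.ext
    have := congrArg Subtype.val (hexp g)
    simpa [pow_mul] using this
  have h4 : (center G).index ≠ 0 := index_ne_zero_of_finite
  rw [← (center G).card_mul_index]
  refine Nat.mul_le_mul ((Nat.le_of_dvd (by positivity) h3).trans ?_) hr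
  refine (Nat.pow_le_pow_left (Nat.mul_le_mul_right e hr) _).trans
    (Nat.pow_le_pow_right (by positivity) (h2.trans (Nat.mul_le_mul hr hrank)))

end Gen

variable {A : Type*} [Group A] [Finite A] {p : ℕ} [Fact p.Prime]
  {G : Type u} [Group G] [Finite G] [MulDistribMulAction A G]

theorem EA.relIndex_le_prod (hA : EA p A) (hcop : (Nat.card G).Coprime p)
    [Fintype {B : Subgroup A // B.index = p}] {P Q : Subgroup G} (hP : Inv A P) (hQ : Inv A Q)
    (hQP : Q ≤ P) [Group.IsNilpotent P] :
    Q.relIndex P ≤ ∏ B : {B : Subgroup A // B.index = p}, Q.relIndex (P ⊓ CF G B.1) := by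
  obtain ⟨c, hc⟩ := (isNilpotent_iff_lowerCentralSeries P).1 ‹_›
  have hinv : ∀ i, Inv A (P.lowerCentralSeries i) := by
    intro i
    induction i with
    | zero => exact hP
    | succ i ih => exact ih.commutator hP
  have hle : ∀ i, P.lowerCentralSeries i ≤ P := fun i =>
    P.lowerCentralSeries_antitone (Nat.zero_le i)
  have key : ∀ i, (P.lowerCentralSeries i ⊔ Q).relIndex P ≤
      ∏ B : {B : Subgroup A // B.index = p},
        (P.lowerCentralSeries i ⊔ Q).relIndex (P ⊓ CF G B.1) := by
    intro i
    induction i with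
    | zero =>
      rw [Subgroup.lowerCentralSeries_zero, relIndex_eq_one.2 le_sup_left]
      exact Finset.one_le_prod' fun B _ => Nat.pos_of_ne_zero index_ne_zero_of_finite
    | succ i ih =>
      set N := P.lowerCentralSeries i ⊔ Q with hN
      set M := P.lowerCentralSeries (i + 1) ⊔ Q with hM
      have hMN : M ≤ N := sup_le_sup_right (P.lowerCentralSeries_antitone (Nat.le_succ i)) _
      have hNP : N ≤ P := sup_le (hle i) hQP
      have h0 : ⁅P.lowerCentralSeries i, P⁆ ≤ M := le_sup_left
      have hn1 : P.lowerCentralSeries i ≤ normalizer (M : Set G) :=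
        le_normalizer_iff_commutator_le_right.2
          ((commutator_mono le_rfl (hMN.trans hNP)).trans h0)
      have hn2 : Q ≤ normalizer (M : Set G) := le_sup_right.trans le_normalizer
      have hNN : ⁅N, N⁆ ≤ M := by
        refine commutator_sup_le hn1 hn2 ((commutator_mono le_rfl hNP).trans h0) ?_
        refine commutator_sup_le' hn1 hn2 ?_ ((commutator_le_self Q).trans le_sup_right)
        rw [commutator_comm]
        exact (commutator_mono le_rfl hQP).trans h0
      have h1 := relIndex_finsup_le hMN hNN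
        (fun B : {B : Subgroup A // B.index = p} => N ⊓ CF G B.1) (fun _ => inf_le_left)
        Finset.univ
      have h2 : N ≤ Finset.univ.sup (fun B : {B : Subgroup A // B.index = p} => N ⊓ CF G B.1)
          ⊔ M := hA.gen ((hinv i).sup hQ)
        (Nat.Coprime.coprime_dvd_left (Subgroup.card_subgroup_dvd_card _) hcop) _
        fun B hB => le_trans (Finset.le_sup
          (f := fun B : {B : Subgroup A // B.index = p} => N ⊓ CF G B.1)
          (Finset.mem_univ (⟨B, hB⟩ : {B : Subgroup A // B.index = p}))) le_sup_left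
      have h3 := (relIndex_le_of_le_right h2 index_ne_zero_of_finite).trans h1
      rw [← relIndex_mul_relIndex M N P hMN hNP]
      refine (Nat.mul_le_mul h3 ih).trans (le_of_eq ?_)
      rw [← Finset.prod_mul_distrib]
      refine Finset.prod_congr rfl fun B _ => ?_
      have := relIndex_inf_mul_relIndex M N (P ⊓ CF G B.1)
      rwa [← inf_assoc, inf_eq_left.2 hNP, inf_eq_left.2 hMN] at this
  have := key c
  rwa [hc, bot_sup_eq] at this

theorem EA.index_le (hA : EA p A) (hcop : (Nat.card G).Coprime p) {H : Subgroup G} (hH : Inv A H)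
    {M s : ℕ} (hM : M ≠ 0) (hs : Nat.card (Subgroup A) ≤ s)
    (h : ∀ B : Subgroup A, B.index = p → H.relIndex (CF G B) ≤ M) :
    H.index ≤ (M ^ s).factorial := by
  classical
  have := Fintype.ofFinite {B : Subgroup A // B.index = p}
  refine Nat.le_of_dvd (Nat.factorial_pos _) ((Nat.dvd_iff_prime_pow_dvd_dvd _ _).2 ?_)
  intro r k hr hk
  have := Fact.mk hr
  have hc : (Nat.card A).Coprime (Nat.card G) := by
    have := hA.coprime ⊤ hcop
    rwa [card_top] at this
  have hsol : Group.IsSolvable A := Group.isSolvable_of_comm hA.comm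
  obtain ⟨P, hP⟩ := exists_inv_sylow hc (Or.inl hsol) r
  have := P.2.isNilpotent
  have h1 := hA.relIndex_le_prod hcop hP (hP.inf hH) inf_le_left
  have h2 : ((P : Subgroup G) ⊓ H).relIndex P ≤ M ^ s := by
    refine h1.trans ((Finset.prod_le_pow_card _ _ M fun B _ => ?_).trans ?_)
    · rw [inf_comm, ← inf_relIndex_right, inf_assoc, inf_eq_right.2 inf_le_left,
        inf_relIndex_right]
      exact (relIndex_le_of_le_right inf_le_right index_ne_zero_of_finite).trans (h B.1 B.2)
    · rw [Finset.card_univ, ← Nat.card_eq_fintype_card]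
      exact Nat.pow_le_pow_right (Nat.pos_of_ne_zero hM)
        ((Nat.card_le_card_of_injective _ Subtype.val_injective).trans hs)
  have h3 : r ^ k ∣ ((P : Subgroup G) ⊓ H).relIndex P := by
    have h4 := hk.trans (index_dvd_of_le (inf_le_right : (P : Subgroup G) ⊓ H ≤ H))
    rw [← relIndex_mul_index (inf_le_left : (P : Subgroup G) ⊓ H ≤ P)] at h4
    exact (((Nat.Prime.coprime_iff_not_dvd hr).2 P.not_dvd_index).pow_left k).dvd_of_dvd_mul_right h4
  exact Nat.dvd_factorial (pow_pos hr.pos k)
    ((Nat.le_of_dvd (Nat.pos_of_ne_zero index_ne_zero_of_finite) h3).trans h2)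

omit [Finite A] in
theorem exists_ne_one_mem_inf {k : ℕ} (hk : Nat.card A = p ^ k) (hk3 : 3 ≤ k) {B B' : Subgroup A}
    (hB : B.index = p) (hB' : B'.index = p) : ∃ a : A, a ≠ 1 ∧ a ∈ B ∧ a ∈ B' := by
  have hp : p.Prime := Fact.out
  have hne : B ⊓ B' ≠ ⊥ := by
    intro e
    have h1 := index_inf_le (H := B) (K := B')
    rw [e, index_bot, hk, hB, hB', ← pow_two] at h1
    have := (Nat.pow_le_pow_iff_right hp.one_lt).1 h1
    omega
  obtain ⟨⟨a, ha⟩, ha1⟩ := ne_bot_iff_exists_ne_one.1 hne
  exact ⟨a, fun e => ha1 (Subtype.ext e), ha.1, ha.2⟩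

/-- The bound for the order of the derived subgroup. -/
def dbnd (n m : ℕ) : ℕ :=
  (((m ^ n) ^ 2 ^ n).factorial ^ (cnt false (2 ^ n) 1 * m) * m.factorial) ^
    (((m ^ n) ^ 2 ^ n).factorial ^ (cnt false (2 ^ n) 1 * m) * (cnt false (2 ^ n) 1 * m)) *
    ((m ^ n) ^ 2 ^ n).factorial ^ (cnt false (2 ^ n) 1 * m)

theorem EA.card_commutator_le (hA : EA p A) (hcop : (Nat.card G).Coprime p) {k : ℕ}
    (hk : Nat.card A = p ^ k) (hk3 : 3 ≤ k) {m : ℕ}
    (h : ∀ a : A, a ≠ 1 → Nat.card (_root_.commutator (CF G (zpowers a))) ≤ m) :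
    Nat.card (_root_.commutator G) ≤ dbnd (p ^ k) m := by
  classical
  have := Fintype.ofFinite A
  have hu : Nat.card (Subgroup A) ≤ 2 ^ p ^ k := by
    rw [← hk, Nat.card_eq_fintype_card (α := A), ← Fintype.card_set, ← Nat.card_eq_fintype_card]
    exact Nat.card_le_card_of_injective _ SetLike.coe_injective
  have hm : m ≠ 0 := by
    have := hA.nt
    obtain ⟨a, ha⟩ := exists_ne (1 : A)
    exact (Nat.card_pos.trans_le (h a ha)).ne'
  have h' : ∀ a : A, a ≠ 1 → Nat.card ↥⁅CF G (zpowers a), CF G (zpowers a)⁆ ≤ m := by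
    intro a ha
    rw [← Subgroup.map_subtype_commutator, card_subtype]
    exact h a ha
  have hidx : ∀ B₀ : Subgroup A, B₀.index = p → ∀ x ∈ CF G B₀,
      (centralizer {x}).index ≤ ((m ^ p ^ k) ^ 2 ^ p ^ k).factorial := by
    intro B₀ hB₀ x hx
    have h1 : ⨅ c : A, centralizer {c • x} ≤ centralizer {x} := by
      have := iInf_le (fun c : A => centralizer {c • x}) 1
      rwa [one_smul] at this
    refine (index_antitone h1).trans (hA.index_le hcop ?_ (pow_ne_zero _ hm) hu fun B hB => ?_)
    · intro a g hg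
      refine mem_iInf.2 fun c => mem_centralizer_singleton_iff.2 ?_
      have := congrArg (fun z => a • z)
        (mem_centralizer_singleton_iff.1 (mem_iInf.1 hg (a⁻¹ * c)))
      simpa only [smul_mul', ← mul_smul, mul_inv_cancel_left] using this
    · refine (relIndex_iInf_le _).trans ((Finset.prod_le_pow_card _ _ m fun c _ => ?_).trans ?_)
      · obtain ⟨a, ha, ha₀, haB⟩ := exists_ne_one_mem_inf hk hk3 hB₀ hB
        have hy : c • x ∈ CF G (zpowers a) := CF_anti (zpowers_le.2 ha₀) (hA.inv_CF B₀ c x hx)
        refine (relIndex_le_of_le_right (CF_anti (zpowers_le.2 haB))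
          index_ne_zero_of_finite).trans ?_
        have e : (centralizer {c • x}).subgroupOf (CF G (zpowers a)) =
            centralizer {(⟨c • x, hy⟩ : CF G (zpowers a))} := by
          ext g
          rw [mem_subgroupOf, mem_centralizer_singleton_iff, mem_centralizer_singleton_iff,
            Subtype.ext_iff]
          rfl
        rw [relIndex, e]
        refine (Finite.card_le_of_embedding (quotientCentralizerEmbedding _)).trans
          (le_trans (Nat.card_mono (Set.toFinite _) ?_) (h a ha))
        rw [_root_.commutator_eq_closure]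
        exact subset_closure
      · rw [Finset.card_univ, ← Nat.card_eq_fintype_card, hk]
  have hJ : ∀ J ∈ Sp p A G false 1, Nat.card J ≤ m ∧ ∃ B₀ : Subgroup A, B₀.index = p ∧
      J ≤ CF G B₀ := by
    rintro _ ⟨_, ⟨B₁, h₁, rfl⟩, _, ⟨B₂, h₂, rfl⟩, B, hB, rfl⟩
    refine ⟨?_, B, hB, inf_le_right⟩
    obtain ⟨a, ha, ha₁, ha₂⟩ := exists_ne_one_mem_inf hk hk3 h₁ h₂
    exact (card_le_of_le (inf_le_left.trans (commutator_mono (CF_anti (zpowers_le.2 ha₁))
      (CF_anti (zpowers_le.2 ha₂))))).trans (h' a ha)
  have hN : sSup (Sp p A G false 1) = _root_.commutator G := hA.sSup_Sp hcop false 1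
  let S : Set (_root_.commutator G) := {x | ∃ J ∈ Sp p A G false 1, (x : G) ∈ J}
  refine card_le_of_gens (S := S) ?_ ?_ (Nat.factorial_ne_zero m) ?_ ?_ (Nat.factorial_ne_zero _)
  · apply map_injective (_root_.commutator G).subtype_injective
    rw [← MonoidHom.range_eq_map, range_subtype]
    refine le_antisymm (map_subtype_le _) (hN.ge.trans (sSup_le fun J hJ x hx => ?_))
    exact ⟨⟨x, hN ▸ (le_sSup hJ : J ≤ _) hx⟩, subset_closure ⟨J, hJ, hx⟩, rfl⟩
  · have := Fintype.ofFinite (Sp p A G false 1)
    have h1 : Nat.card S ≤ Nat.card (Σ J : Sp p A G false 1, J.1) := by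
      refine Nat.card_le_card_of_injective
        (fun x => ⟨⟨x.2.choose, x.2.choose_spec.1⟩, ⟨x.1.1, x.2.choose_spec.2⟩⟩) ?_
      intro x y hxy
      have := congrArg (fun z : (Σ J : Sp p A G false 1, J.1) => (z.2 : G)) hxy
      exact Subtype.ext (Subtype.ext this)
    rw [Nat.card_sigma] at h1
    refine h1.trans ((Finset.sum_le_card_nsmul _ _ m fun J _ => (hJ J.1 J.2).1).trans ?_)
    rw [Finset.card_univ, ← Nat.card_eq_fintype_card, smul_eq_mul]
    exact Nat.mul_le_mul_right m (card_Sp_le hu false 1)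
  · rintro x ⟨J, hJ', hx⟩
    apply Subtype.ext
    have h1 : orderOf (x : G) ∣ m.factorial := Nat.dvd_factorial (orderOf_pos _)
      ((Nat.le_of_dvd Nat.card_pos (orderOf_dvd_natCard J hx)).trans (hJ J hJ').1)
    exact orderOf_dvd_iff_pow_eq_one.1 h1
  · rintro x ⟨J, hJ', hx⟩
    obtain ⟨-, B₀, hB₀, hle⟩ := hJ J hJ'
    have e : centralizer {x} = (centralizer {(x : G)}).subgroupOf (_root_.commutator G) := by
      ext g
      rw [mem_subgroupOf, mem_centralizer_singleton_iff, mem_centralizer_singleton_iff,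
        Subtype.ext_iff]
      rfl
    rw [e]
    refine le_trans ?_ (hidx B₀ hB₀ x (hle hx))
    rw [← relIndex_top_right (H := centralizer {(x : G)})]
    exact relIndex_le_of_le_right le_top index_ne_zero_of_finite

end Cfsg.Agent.FGS.Shum
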