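import Mathlib
import Cfsg.Prelude.Def_OddOrderLocal
import Cfsg.Agent.PLocal.AmbSyl
import Cfsg.Agent.Grp.Card
import Cfsg.Agent.FGS.ClassSize
import Cfsg.Agent.FGS.PiFusion
import Cfsg.Agent.Solv.Frobenius

/-!
Hall subgroups that are TI-subsets.
-/

set_option autoImplicit false

namespace Cfsg.Agent.FGS

open Cfsg.Agent.PLocal.Amb

variable {G : Type*} [Group G] {H : Subgroup G}

theorem ti_mem_normalizer (hTI : IsTISubset (H : Set G)) {g x : G} (hx : x ∈ H) (h1 : x ≠ 1)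
    (hg : g * x * g⁻¹ ∈ H) : g ∈ 𝐍[H] := by
  by_contra h
  exact h1 (hTI g h x hx hg)

theorem ti_cj_eq (hTI : IsTISubset (H : Set G)) {a b x : G} (h1 : x ≠ 1) (ha : x ∈ cj(a, H))
    (hb : x ∈ cj(b, H)) : cj(a, H) = cj(b, H) := by
  rw [mem_cj] at ha hb
  have h2 : b⁻¹ * a ∈ 𝐍[H] := ti_mem_normalizer hTI ha (Solv.Frob.inv_conj_ne_one h1)
    (by simpa [mul_assoc] using hb)
  have h3 := cj_of_mem_normalizer h2
  rw [cj_mul] at h3
  rw [← cj_cj_inv b cj(a, H), h3]

theorem ti_cj (hTI : IsTISubset (H : Set G)) (a : G) : IsTISubset (cj(a, H) : Set G) := by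
  intro g hg x hx hgx
  by_contra h1
  apply hg
  rw [← cj_eq_iff, ← cj_mul]
  refine ti_cj_eq hTI (x := g * x * g⁻¹) (by simpa using h1) ?_ hgx
  rw [cj_mul]; exact conj_mem_cj g hx

/-- An element of order coprime to the index of `H` that normalizes `H` lies in `H`. -/
theorem mem_of_mem_normalizer_of_coprime {x : G} (hx : x ∈ 𝐍[H])
    (hc : (orderOf x).Coprime (H.relIndex 𝐍[H])) : x ∈ H := by
  haveI : (H.subgroupOf 𝐍[H]).Normal := normal_subgroupOf' le_rfl
  have h3 := Subgroup.pow_index_mem (H.subgroupOf 𝐍[H]) ⟨x, hx⟩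
  rw [Subgroup.mem_subgroupOf] at h3
  exact PLocal.Amb.mem_of_pow_mem_of_coprime h3 hc

theorem mem_of_mem_normalizer_of_coprime_index {x : G} (hx : x ∈ 𝐍[H])
    (hc : (orderOf x).Coprime H.index) : x ∈ H :=
  mem_of_mem_normalizer_of_coprime hx (hc.coprime_dvd_right
    (Subgroup.relIndex_dvd_index_of_le Subgroup.le_normalizer))

theorem index_cj (g : G) (H : Subgroup G) : (cj(g, H)).index = H.index :=
  Subgroup.index_map_of_bijective (MulEquiv.bijective _) H

/-- A TI-subgroup that is a Hall subgroup of its normalizer is a Hall subgroup. -/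
theorem ti_coprime_index [Finite G] (hTI : IsTISubset (H : Set G))
    (hc : (Nat.card H).Coprime (H.relIndex 𝐍[H])) : (Nat.card H).Coprime H.index := by
  apply Nat.Coprime.symm
  rw [Nat.coprime_iff_gcd_eq_one]
  by_contra hne
  obtain ⟨p, hp, hd⟩ := Nat.exists_prime_and_dvd hne
  haveI := Fact.mk hp
  have h1 := hd.trans (Nat.gcd_dvd_left _ _)
  have h2 := hd.trans (Nat.gcd_dvd_right _ _)
  obtain ⟨T, hT⟩ := exists_isSyl p H
  have hTb : T ≠ ⊥ := fun h => hT.eq_bot_iff.1 h h2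
  have hn : ¬ p ∣ H.relIndex 𝐍[H] := fun h =>
    hp.one_lt.ne' (Nat.eq_one_of_dvd_coprimes hc h2 h)
  have hTN : IsSyl p T 𝐍[H] := by
    refine isSyl_of_not_dvd_relIndex hT.pgrp (hT.le.trans Subgroup.le_normalizer) fun h => ?_
    rw [← Subgroup.relIndex_mul_relIndex T H 𝐍[H] hT.le Subgroup.le_normalizer] at h
    rcases (Nat.Prime.dvd_mul hp).1 h with h | h
    · exact hT.not_dvd_relIndex h
    · exact hn h
  have hNN : 𝐍[T] ≤ 𝐍[H] := by
    intro g hg
    obtain ⟨⟨x, hx⟩, hx1⟩ := Subgroup.ne_bot_iff_exists_ne_one.1 hTb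
    exact ti_mem_normalizer hTI (hT.le hx) (by simpa using hx1)
      (hT.le (conj_mem_of_mem_normalizer hg hx))
  have hTG : IsSyl p T ⊤ := isSyl_of_isSyl_normalizer (hTN.mono
    (le_inf le_top Subgroup.le_normalizer) (inf_le_right.trans hNN))
  apply hTG.not_dvd_relIndex
  rw [Subgroup.relIndex_top_right]
  exact h1.trans (Subgroup.index_dvd_of_le hT.le)

theorem ti_exists_mem_cj [Finite G] (hTI : IsTISubset (H : Set G)) {x : G}
    (hc : (orderOf x).Coprime H.index) : ∃ g : G, x ∈ cj(g, H) := by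
  by_cases h1 : orderOf x = 1
  · exact ⟨1, by rw [orderOf_eq_one_iff.1 h1]; exact one_mem _⟩
  obtain ⟨p, hp, hd⟩ := Nat.exists_prime_and_dvd h1
  haveI := Fact.mk hp
  have hy : orderOf (x ^ (orderOf x / p)) = p := orderOf_pow_orderOf_div (orderOf_pos x).ne' hd
  set y := x ^ (orderOf x / p) with hydef
  have hy1 : y ≠ 1 := by
    intro h; rw [h, orderOf_one] at hy; exact hp.ne_one hy.symm
  obtain ⟨T, hT⟩ := exists_isSyl p H
  have hTG : IsSyl p T ⊤ := by
    refine isSyl_of_not_dvd_relIndex hT.pgrp le_top fun h => ?_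
    rw [Subgroup.relIndex_top_right, ← Subgroup.relIndex_mul_index hT.le] at h
    rcases (Nat.Prime.dvd_mul hp).1 h with h | h
    · exact hT.not_dvd_relIndex h
    · exact hp.one_lt.ne' (Nat.eq_one_of_dvd_coprimes hc hd h)
  obtain ⟨g, -, hg⟩ := hTG.exists_le_cj (R := Subgroup.zpowers y)
    (isPGroup_zpowers ⟨1, by rw [pow_one, ← hy, pow_orderOf_eq_one]⟩) le_top
  have hyg : y ∈ cj(g, H) := cj_mono g hT.le (hg (Subgroup.mem_zpowers y))
  refine ⟨g, mem_of_mem_normalizer_of_coprime_index ?_ (by rwa [index_cj])⟩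
  refine ti_mem_normalizer (ti_cj hTI g) hyg hy1 ?_
  have : x * y * x⁻¹ = y := by
    rw [mul_inv_eq_iff_eq_mul]; exact (Commute.self_pow x _).eq
  rwa [this]

/-- Every subgroup of order coprime to the index of a TI-subgroup lies in a conjugate of it. -/
theorem ti_exists_le_cj [Finite G] (hTI : IsTISubset (H : Set G)) {K : Subgroup G}
    (hc : (Nat.card K).Coprime H.index) : ∃ g : G, K ≤ cj(g, H) := by
  by_contra hcon
  push Not at hcon
  have hel : ∀ k : K, (orderOf (k : G)).Coprime H.index := fun k =>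
    hc.coprime_dvd_left (K.orderOf_dvd_natCard k.2)
  have hfrob : ∀ (a : G) (k : K), k ≠ 1 → (k : G) ∈ cj(a, H) →
      IsFrobeniusComplement ((cj(a, H)).subgroupOf K) := by
    intro a k hk1 hk
    rw [Solv.Frob.isFrobeniusComplement_iff]
    refine ⟨fun h => hk1 ?_, fun h => hcon a (Subgroup.subgroupOf_eq_top.1 h), ?_⟩
    · have : k ∈ (cj(a, H)).subgroupOf K := hk
      rwa [h, Subgroup.mem_bot] at this
    · intro g h hh h1 hg
      rw [Subgroup.mem_subgroupOf] at hh hg ⊢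
      refine mem_of_mem_normalizer_of_coprime_index ?_ (by rw [index_cj]; exact hel g)
      exact ti_mem_normalizer (ti_cj hTI a) hh (by simpa using h1) hg
  have hK : K ≠ ⊥ := fun h => hcon 1 (h ▸ bot_le)
  obtain ⟨k, hk1⟩ := Subgroup.ne_bot_iff_exists_ne_one.1 hK
  obtain ⟨a, ha⟩ := ti_exists_mem_cj hTI (hel k)
  have h1 := hfrob a k hk1 ha
  have : ¬ ∀ z : K, ∃ x : K, x * z * x⁻¹ ∈ (cj(a, H)).subgroupOf K := fun h =>
    h1.2.1 (eq_top_of_forall_exists_conj_mem _ h)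
  push Not at this
  obtain ⟨z, hz⟩ := this
  have hz1 : z ≠ 1 := fun h => hz 1 (by rw [h]; simp)
  obtain ⟨b, hb⟩ := ti_exists_mem_cj hTI (hel z)
  have h2 := hfrob b z hz1 hb
  obtain ⟨g, x, hx1, hxb, hxa⟩ := Solv.Frob.exists_conj_inf_ne_bot h2 h1
  rw [Solv.Frob.mem_conj_smul_iff, Subgroup.mem_subgroupOf] at hxa
  have h3 : (x : G) ∈ cj((g : G) * a, H) := by
    rw [cj_mul, mem_cj]; exact hxa
  have h4 := ti_cj_eq hTI (x := x) (by simpa using hx1) hxb h3
  rw [h4, cj_mul, mem_cj] at hb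
  apply hz g⁻¹
  rw [Subgroup.mem_subgroupOf]
  simpa using hb

end Cfsg.Agent.FGS
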